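import Mathlib
import Cfsg.Agent.Lib.Char.Induced
import Cfsg.Agent.Lib.Char.IndRep
import Cfsg.Agent.Lib.Char.GenLattice
import Cfsg.Agent.Lib.Char.Linear
import Cfsg.Agent.Lib.Char.Degree
import Cfsg.Agent.Lib.Char.Complete
import Cfsg.Agent.Lib.Suzuki.TI

/-!
Generic lemmas for trivial intersection subgroups, used for the character table of the Suzuki
groups: sums over the union of the conjugates, the functions induced from `λ - 1` for a linear
character `λ` of an abelian trivial intersection subgroup, their norms and the divisibility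
of the degree of a character orthogonal to all of them.
-/

set_option autoImplicit false
set_option linter.unusedSectionVars false
set_option linter.style.haveILetI false

namespace Cfsg.Agent.Lib.SzChar.Gen

open Cfsg Cfsg.Agent.Lib.Char.Induced Cfsg.Agent.Lib.Char.Ortho Cfsg.Agent.Lib.Char.Basic
  Cfsg.Agent.Lib.Char.IndRep Cfsg.Agent.Lib.Char.GenLattice Cfsg.Agent.Lib.Char.Linear
  Cfsg.Agent.Lib.Char.Degree Cfsg.Agent.Lib.Char.Complete Cfsg.Agent.Lib.Suzuki.TI
open scoped ComplexConjugate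

universe u

variable {G : Type u} [Group G] [Fintype G]

open scoped Classical in
/-- The sum of a class function over the union of the conjugates of a trivial intersection
subgroup. -/
theorem sum_conjUnion (A : Subgroup G)
    (hTI : ∀ a ∈ A, a ≠ 1 → ∀ t : G, t * a * t⁻¹ ∈ A → t ∈ Subgroup.normalizer (A : Set G))
    (h : G → ℂ) (hh : IsClassFunction G h) :
    (Nat.card (Subgroup.normalizer (A : Set G)) : ℂ) *
        ∑ y ∈ Finset.univ.filter (fun y => y ∈ conjUnion A), h y =
      (Nat.card G : ℂ) * ∑ a ∈ Finset.univ.filter (fun a => a ∈ A ∧ a ≠ 1), h a := by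
  set D : Finset G := Finset.univ.filter (fun a => a ∈ A ∧ a ≠ 1) with hD
  set N : Finset G := Finset.univ.filter (fun n => n ∈ Subgroup.normalizer (A : Set G)) with hN
  set P : Finset (G × G) := Finset.univ ×ˢ D with hP
  let π : G × G → G := fun x => x.1 * x.2 * x.1⁻¹
  have himg : P.image π = Finset.univ.filter (fun y => y ∈ conjUnion A) := by
    ext y
    simp only [Finset.mem_image, hP, Finset.mem_product,
      Finset.mem_univ, true_and, hD, Finset.mem_filter, mem_conjUnion]
    constructor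
    · rintro ⟨⟨t, a⟩, ⟨ha, h1⟩, rfl⟩
      exact ⟨t, a, ha, h1, rfl⟩
    · rintro ⟨t, a, ha, h1, rfl⟩
      exact ⟨⟨t, a⟩, ⟨ha, h1⟩, rfl⟩
  have hfib : ∀ y ∈ P.image π, (P.filter (fun x => π x = y)).card = N.card := by
    intro y hy
    obtain ⟨⟨t₀, a₀⟩, hmem, rfl⟩ := Finset.mem_image.1 hy
    simp only [hP, hD, Finset.mem_product, Finset.mem_univ, true_and, Finset.mem_filter] at hmem
    obtain ⟨ha₀, h1₀⟩ := hmem
    symm
    refine Finset.card_bij (fun n _ => (t₀ * n, n⁻¹ * a₀ * n)) ?_ ?_ ?_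
    · intro n hn
      have hn' : n ∈ Subgroup.normalizer (A : Set G) := by simpa [hN] using hn
      have hn'' : n⁻¹ ∈ Subgroup.normalizer (A : Set G) := inv_mem hn'
      have hmem : n⁻¹ * a₀ * n ∈ A := by
        have := (Subgroup.mem_normalizer_iff.1 hn'' a₀).1 ha₀
        simpa using this
      simp only [Finset.mem_filter, hP, hD, Finset.mem_product, Finset.mem_univ, true_and, π]
      refine ⟨⟨hmem, ?_⟩, ?_⟩
      · intro h
        apply h1₀
        have : a₀ = n * (n⁻¹ * a₀ * n) * n⁻¹ := by group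
        rw [this, h]
        group
      · group
    · intro n _ m _ h
      have := congrArg Prod.fst h
      exact mul_left_cancel this
    · rintro ⟨t, a⟩ hx
      simp only [Finset.mem_filter, hP, hD, Finset.mem_product, Finset.mem_univ, true_and, π] at hx
      obtain ⟨⟨ha, h1⟩, heq⟩ := hx
      have hn : t₀⁻¹ * t ∈ Subgroup.normalizer (A : Set G) := by
        apply hTI a ha h1
        have : t₀⁻¹ * t * a * (t₀⁻¹ * t)⁻¹ = t₀⁻¹ * (t * a * t⁻¹) * t₀ := by group
        rw [this, heq]
        have : t₀⁻¹ * (t₀ * a₀ * t₀⁻¹) * t₀ = a₀ := by group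
        rwa [this]
      refine ⟨t₀⁻¹ * t, by simpa [hN] using hn, ?_⟩
      have h2 : (t₀⁻¹ * t)⁻¹ * a₀ * (t₀⁻¹ * t) = a := by
        have : a₀ = t₀⁻¹ * (t * a * t⁻¹) * t₀ := by rw [heq]; group
        rw [this]; group
      refine Prod.ext ?_ h2
      simp
  have h2 : Nat.card (Subgroup.normalizer (A : Set G)) = N.card := by
    rw [Nat.subtype_card N]
    intro x
    simp [hN]
  -- double count
  have e1 : ∑ p ∈ P, h (π p) = (Nat.card G : ℂ) * ∑ a ∈ D, h a := by
    rw [hP, Finset.sum_product]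
    have : ∀ t : G, ∑ a ∈ D, h (π (t, a)) = ∑ a ∈ D, h a := by
      intro t
      exact Finset.sum_congr rfl fun a _ => hh a t
    simp only [this, Finset.sum_const, Finset.card_univ, nsmul_eq_mul]
    rw [Nat.card_eq_fintype_card]
  have e2 : ∑ p ∈ P, h (π p) = (N.card : ℂ) * ∑ y ∈ P.image π, h y := by
    rw [← Finset.sum_fiberwise_of_maps_to (s := P) (t := P.image π) (g := π)
      (fun p hp => Finset.mem_image_of_mem π hp), Finset.mul_sum]
    refine Finset.sum_congr rfl fun y hy => ?_
    have : ∀ p ∈ P.filter (fun x => π x = y), h (π p) = h y := fun p hp => by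
      rw [(Finset.mem_filter.mp hp).2]
    rw [Finset.sum_congr rfl this, Finset.sum_const, hfib y hy, nsmul_eq_mul]
  rw [h2, ← himg, ← e2, e1]

/-! ### Linear characters -/

section Lin

variable {A : Type*} [Group A] [Fintype A]

lemma norm_lam (lam : A →* ℂˣ) (a : A) : ‖((lam a : ℂˣ) : ℂ)‖ = 1 := by
  have h : ((lam a : ℂˣ) : ℂ) ^ (orderOf a) = 1 := by
    rw [← Units.val_pow_eq_pow_val, ← map_pow, pow_orderOf_eq_one, map_one, Units.val_one]
  exact Complex.norm_eq_one_of_pow_eq_one h (orderOf_pos a).ne'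

lemma conj_lam (lam : A →* ℂˣ) (a : A) : conj ((lam a : ℂˣ) : ℂ) = ((lam a⁻¹ : ℂˣ) : ℂ) := by
  have h1 := norm_lam lam a
  have h2 : ((lam a⁻¹ : ℂˣ) : ℂ) = ((lam a : ℂˣ) : ℂ)⁻¹ := by
    rw [map_inv]
    simp
  rw [h2, Complex.inv_def, Complex.normSq_eq_norm_sq, h1]
  simp

lemma sum_lam (lam : A →* ℂˣ) (hlam : lam ≠ 1) : ∑ a : A, ((lam a : ℂˣ) : ℂ) = 0 := by
  have : ∃ a₀ : A, lam a₀ ≠ 1 := by
    by_contra hall
    push Not at hall
    exact hlam (MonoidHom.ext hall)
  obtain ⟨a₀, ha₀⟩ := this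
  have h1 : ((lam a₀ : ℂˣ) : ℂ) * ∑ a : A, ((lam a : ℂˣ) : ℂ) = ∑ a : A, ((lam a : ℂˣ) : ℂ) := by
    rw [Finset.mul_sum]
    refine Fintype.sum_equiv (Equiv.mulLeft a₀) _ _ fun a => ?_
    simp
  have h2 : ((lam a₀ : ℂˣ) : ℂ) - 1 ≠ 0 := by
    rw [sub_ne_zero]
    exact fun h => ha₀ (Units.ext h)
  have h3 : (((lam a₀ : ℂˣ) : ℂ) - 1) * ∑ a : A, ((lam a : ℂˣ) : ℂ) = 0 := by
    rw [sub_mul, h1, one_mul, sub_self]
  exact (mul_eq_zero.mp h3).resolve_left h2

end Lin

/-! ### Trivial intersection subgroups with a free action of the normalizer quotient -/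

/-- An abelian subgroup `A`, trivial intersection with normalizer (contained in) `N`, and
elements of `N` outside `A` act without fixed points. -/
structure TIF (A N : Subgroup G) : Prop where
  le : A ≤ N
  comm : ∀ a ∈ A, ∀ b ∈ A, a * b = b * a
  norm : ∀ x ∈ N, ∀ a ∈ A, x⁻¹ * a * x ∈ A
  ti : ∀ a ∈ A, a ≠ 1 → ∀ x : G, x⁻¹ * a * x ∈ A → x ∈ N
  free : ∀ x ∈ N, x ∉ A → ∀ a ∈ A, a * x = x * a → a = 1

/-- `λ - 1`. -/
def Th {A : Subgroup G} (lam : A →* ℂˣ) : A → ℂ := fun a => ((lam a : ℂˣ) : ℂ) - 1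

/-- The function induced from `λ - 1`. -/
noncomputable def FF (A : Subgroup G) (lam : A →* ℂˣ) : G → ℂ := indFun A (Th lam)

lemma Th_one {A : Subgroup G} (lam : A →* ℂˣ) : Th lam 1 = 0 := by
  simp [Th]

lemma isGen_FF (A : Subgroup G) (lam : A →* ℂˣ) : IsGeneralizedCharacter G (FF A lam) := by
  refine ⟨indFun A (fun a => ((lam a : ℂˣ) : ℂ)), indFun A (fun _ => (1 : ℂ)),
    isCharacter_indFun A (isCharacter_of_isIrrCharacter (isIrrCharacter_of_hom lam)),
    isCharacter_indFun A isCharacter_one, ?_⟩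
  rw [← indFun_sub]
  rfl

lemma FF_one (A : Subgroup G) (lam : A →* ℂˣ) : FF A lam 1 = 0 := by
  rw [FF, indFun_one, Th_one, mul_zero]

lemma isClass_FF (A : Subgroup G) (lam : A →* ℂˣ) : IsClassFunction G (FF A lam) :=
  isClassFunction_indFun A _

/-- Inner product with a class function constant on `A` minus the identity. -/
theorem inner_FF_const (A : Subgroup G) (lam : A →* ℂˣ) (hlam : lam ≠ 1) {Ψ : G → ℂ}
    (hΨ : IsClassFunction G Ψ) (c : ℂ) (hc : ∀ a ∈ A, a ≠ 1 → Ψ a = c) :
    classInner (FF A lam) Ψ = - conj c := by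
  classical
  letI : Fintype A := Fintype.ofFinite A
  rw [FF, classInner_indFun_left A _ _ hΨ, classInner_subgroup_eq]
  have h1 : ∀ a : A, Th lam a * conj (Ψ a) = (((lam a : ℂˣ) : ℂ) - 1) * conj c := by
    intro a
    by_cases ha : a = 1
    · subst ha
      simp [Th]
    · rw [hc a a.2 (fun h => ha (Subtype.ext h))]
      rfl
  simp only [h1]
  rw [← Finset.sum_mul, Finset.sum_sub_distrib, sum_lam lam hlam]
  simp only [Finset.sum_const, Finset.card_univ, nsmul_eq_mul, mul_one, zero_sub]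
  rw [← Nat.card_eq_fintype_card]
  have := card_subgroup_ne_zero A
  field_simp

/-- The values of `FF` at non-identity elements of `A`. -/
theorem FF_apply {A N : Subgroup G} [Fintype N] (h : TIF A N) (lam : A →* ℂˣ) (a : A) (ha : a ≠ 1) :
    FF A lam a = (Nat.card A : ℂ)⁻¹ * ∑ x : N,
      Th lam ⟨(x : G)⁻¹ * a * x, h.norm x x.2 a a.2⟩ := by
  classical
  rw [FF, indFun_apply]
  congr 1
  have ha' : (a : G) ≠ 1 := fun h => ha (Subtype.ext h)
  have e : ∀ x : G, extendByZero A (Th lam) (x⁻¹ * a * x) =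
      if hx : x ∈ N then Th lam ⟨x⁻¹ * a * x, h.norm x hx a a.2⟩ else 0 := by
    intro x
    split_ifs with hx
    · exact extendByZero_of_mem A _ _
    · exact extendByZero_of_not_mem A _ (fun hm => hx (h.ti a a.2 ha' x hm))
  simp only [e]
  rw [Finset.sum_dite]
  simp only [Finset.sum_const_zero, add_zero]
  refine Finset.sum_bij (fun x _ => ⟨x.1, (Finset.mem_filter.mp x.2).2⟩) ?_ ?_ ?_ ?_
  · intro a _; exact Finset.mem_univ _
  · intro a _ b _ hab
    have := congrArg Subtype.val hab
    exact Subtype.ext this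
  · intro b _
    exact ⟨⟨b.1, by simp⟩, Finset.mem_univ _, rfl⟩
  · intro a _
    rfl

open scoped Classical in
/-- The sum for a fixed `x ∈ N`. -/
lemma sum_Th_mul {A N : Subgroup G} (h : TIF A N) (lam : A →* ℂˣ) (hlam : lam ≠ 1) (x : N)
    [Fintype A] :
    ∑ a : A, Th lam a * conj (Th lam ⟨(x : G)⁻¹ * a * x, h.norm x x.2 a a.2⟩) =
      if (x : G) ∈ A then 2 * (Nat.card A : ℂ) else (Nat.card A : ℂ) := by
  classical
  have hA : Nat.card A = Fintype.card A := Nat.card_eq_fintype_card
  have hxi : ∀ b ∈ A, (x : G) * b * (x : G)⁻¹ ∈ A := by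
    intro b hb
    have := h.norm (x⁻¹ : N) (inv_mem x.2) b hb
    simpa using this
  -- the conjugate character
  let cj : A ≃* A :=
    { toFun := fun a => ⟨(x : G)⁻¹ * a * x, h.norm x x.2 a a.2⟩
      invFun := fun a => ⟨(x : G) * a * (x : G)⁻¹, hxi a a.2⟩
      left_inv := fun a => Subtype.ext (by simp [mul_assoc])
      right_inv := fun a => Subtype.ext (by simp [mul_assoc])
      map_mul' := fun a b => Subtype.ext (by simp [mul_assoc]) }
  let lx : A →* ℂˣ := lam.comp cj.toMonoidHom
  have hlx : lx ≠ 1 := by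
    intro h0
    apply hlam
    ext b
    have := DFunLike.congr_fun h0 (cj.symm b)
    simpa [lx] using congrArg Units.val this
  have hexp : ∀ a : A, Th lam a * conj (Th lam ⟨(x : G)⁻¹ * a * x, h.norm x x.2 a a.2⟩) =
      ((lam (a * (cj a)⁻¹) : ℂˣ) : ℂ) - ((lam a : ℂˣ) : ℂ) - ((lx a⁻¹ : ℂˣ) : ℂ) + 1 := by
    intro a
    have e1 : (⟨(x : G)⁻¹ * a * x, h.norm x x.2 a a.2⟩ : A) = cj a := rfl
    rw [e1]
    simp only [Th, map_sub, map_one]
    rw [conj_lam]
    have e2 : ((lam (a * (cj a)⁻¹) : ℂˣ) : ℂ) = ((lam a : ℂˣ) : ℂ) * ((lam (cj a)⁻¹ : ℂˣ) : ℂ) := by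
      rw [map_mul, Units.val_mul]
    have e3 : ((lx a⁻¹ : ℂˣ) : ℂ) = ((lam (cj a)⁻¹ : ℂˣ) : ℂ) := by
      simp [lx]
    rw [e2, e3]
    ring
  simp only [hexp]
  rw [Finset.sum_add_distrib, Finset.sum_sub_distrib, Finset.sum_sub_distrib, sum_lam lam hlam]
  have e4 : ∑ a : A, ((lx a⁻¹ : ℂˣ) : ℂ) = 0 := by
    rw [← sum_lam lx hlx]
    exact Fintype.sum_equiv (Equiv.inv A) _ _ fun a => rfl
  rw [e4]
  simp only [Finset.sum_const, Finset.card_univ, nsmul_eq_mul, mul_one, sub_zero]
  rw [← hA]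
  split_ifs with hxA
  · have e5 : ∀ a : A, lam (a * (cj a)⁻¹) = 1 := by
      intro a
      have : a * (cj a)⁻¹ = 1 := by
        have hc := h.comm a a.2 x hxA
        have h5 : (x : G)⁻¹ * a * x = a := by
          rw [mul_assoc, hc]
          group
        have h6 : cj a = a := Subtype.ext h5
        rw [h6, mul_inv_cancel]
      rw [this, map_one]
    simp only [e5, Units.val_one, Finset.sum_const, Finset.card_univ, nsmul_eq_mul, mul_one]
    rw [← hA]
    ring
  · -- the commutator map is a bijection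
    let cm : A → A := fun a => a * (cj a)⁻¹
    have hinj : Function.Injective cm := by
      intro a b hab
      have hab' : (a : G) * ((x : G)⁻¹ * a * x)⁻¹ = (b : G) * ((x : G)⁻¹ * b * x)⁻¹ :=
        congrArg Subtype.val hab
      -- `b⁻¹ a` commutes with `x`
      have h1 : (b : G)⁻¹ * a = (x : G)⁻¹ * ((b : G)⁻¹ * a) * x := by
        calc (b : G)⁻¹ * a
            = (b : G)⁻¹ * ((a : G) * ((x : G)⁻¹ * a * x)⁻¹) * ((x : G)⁻¹ * a * x) := by group
          _ = (b : G)⁻¹ * ((b : G) * ((x : G)⁻¹ * b * x)⁻¹) * ((x : G)⁻¹ * a * x) := by rw [hab']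
          _ = _ := by group
      have hcomm : ((b : G)⁻¹ * a) * x = x * ((b : G)⁻¹ * a) := by
        calc ((b : G)⁻¹ * a) * x = x * ((x : G)⁻¹ * ((b : G)⁻¹ * a) * x) := by group
          _ = x * ((b : G)⁻¹ * a) := by rw [← h1]
      have h2 := h.free x x.2 hxA _ (mul_mem (inv_mem b.2) a.2) hcomm
      apply Subtype.ext
      exact (inv_mul_eq_one.mp h2).symm
    have hbij : Function.Bijective cm := Finite.injective_iff_bijective.mp hinj
    have e6 : ∑ a : A, ((lam (a * (cj a)⁻¹) : ℂˣ) : ℂ) = 0 := by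
      rw [← sum_lam lam hlam]
      exact Fintype.sum_bijective cm hbij _ _ fun a => rfl
    rw [e6]
    ring

/-- The norm of `FF`. -/
theorem inner_FF_self {A N : Subgroup G} (h : TIF A N) (lam : A →* ℂˣ) (hlam : lam ≠ 1) :
    classInner (FF A lam) (FF A lam) = (Nat.card N : ℂ) / (Nat.card A : ℂ) + 1 := by
  classical
  letI : Fintype A := Fintype.ofFinite A
  letI : Fintype N := Fintype.ofFinite N
  have hA := card_subgroup_ne_zero A
  rw [FF]
  rw [classInner_indFun_left A _ _ (isClassFunction_indFun A _), classInner_subgroup_eq]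
  have e1 : ∀ a : A, Th lam a * conj (indFun A (Th lam) (a : G)) =
      (Nat.card A : ℂ)⁻¹ * ∑ x : N, Th lam a * conj (Th lam ⟨(x : G)⁻¹ * a * x, h.norm x x.2 a a.2⟩) := by
    intro a
    by_cases ha : a = 1
    · subst ha
      simp [Th_one]
    · have := FF_apply h lam a ha
      rw [FF] at this
      rw [this, map_mul, map_inv₀, map_natCast, map_sum, Finset.mul_sum, Finset.mul_sum,
        Finset.mul_sum]
      refine Finset.sum_congr rfl fun x _ => ?_
      ring
  simp only [e1]
  rw [← Finset.mul_sum, Finset.sum_comm]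
  simp only [sum_Th_mul h lam hlam]
  rw [Finset.sum_ite]
  simp only [Finset.sum_const, nsmul_eq_mul]
  have e2 : ((Finset.univ.filter (fun x : N => (x : G) ∈ A)).card : ℂ) = (Nat.card A : ℂ) := by
    congr 1
    rw [Nat.card_eq_fintype_card (α := A), ← Finset.card_univ (α := A)]
    symm
    refine Finset.card_bij (fun a _ => (⟨a.1, h.le a.2⟩ : N)) ?_ ?_ ?_
    · intro a _
      simp
    · intro a _ b _ hab
      have := congrArg Subtype.val hab
      exact Subtype.ext this
    · intro b hb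
      exact ⟨⟨b.1, (Finset.mem_filter.mp hb).2⟩, Finset.mem_univ _, rfl⟩
  have e3 : ((Finset.univ.filter (fun x : N => (x : G) ∉ A)).card : ℂ) =
      (Nat.card N : ℂ) - (Nat.card A : ℂ) := by
    rw [← e2, eq_sub_iff_add_eq, ← Nat.cast_add, add_comm,
      Finset.card_filter_add_card_filter_not (s := Finset.univ) (fun x : N => (x : G) ∈ A),
      Finset.card_univ, Nat.card_eq_fintype_card]
  rw [e2, e3]
  field_simp
  ring

/-- If `λ - 1` induces to something orthogonal to a character `χ`, for all non-trivial `λ`,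
the order of the abelian group `A` divides the degree of `χ`. -/
theorem card_dvd_of_orthogonal (A : Subgroup G) (hA : ∀ a ∈ A, ∀ b ∈ A, a * b = b * a) {χ : G → ℂ}
    (hχ : IsCharacter G χ)
    (horth : ∀ lam : A →* ℂˣ, lam ≠ 1 → classInner (FF A lam) χ = 0) :
    ∃ k : ℕ, χ 1 = (k : ℂ) * (Nat.card A : ℂ) := by
  classical
  letI : Fintype A := Fintype.ofFinite A
  have := finite_irrCharacter (G := A)
  letI : Fintype (IrrCharacter A) := Fintype.ofFinite _
  have hcomm : ∀ a b : A, a * b = b * a := fun a b => Subtype.ext (hA a a.2 b b.2)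
  have hres : IsCharacter A (fun a : A => χ a) := isCharacter_restrict A hχ
  obtain ⟨m, hm⟩ := exists_nat_combination hres
  have hcl := isClassFunction_of_isCharacter hχ
  -- each irreducible of `A` is a homomorphism
  have hhom : ∀ i : IrrCharacter A, ∃ lam : A →* ℂˣ, (i : A → ℂ) = fun a => (lam a : ℂ) := by
    intro i
    exact exists_hom_of_deg_one (isCharacter_of_isIrrCharacter i.2)
      (isIrr_deg_one_of_comm hcomm i.2)
  let triv : IrrCharacter A := ⟨fun _ => 1, by
    have := isIrrCharacter_of_hom (1 : A →* ℂˣ)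
    simpa using this⟩
  -- coefficient
  have hcoef : ∀ i : IrrCharacter A, classInner (i : A → ℂ) (fun a : A => χ a) = (m i : ℂ) := by
    intro i
    have h1 : (fun a : A => χ a) = ∑ j, m j • (j : A → ℂ) := hm
    rw [h1, classInner_sum_right]
    rw [Finset.sum_eq_single i]
    · rw [classInner_nsmul_right, classInner_self_of_isIrr i.2]
      simp
    · intro j _ hj
      rw [classInner_nsmul_right, classInner_eq_zero_of_isIrr_of_ne i.2 j.2
        (fun h => hj (Subtype.ext h.symm))]
      simp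
    · intro h
      exact absurd (Finset.mem_univ _) h
  have hall : ∀ i : IrrCharacter A, m i = m triv := by
    intro i
    obtain ⟨lam, hlam⟩ := hhom i
    by_cases hl : lam = 1
    · have : i = triv := by
        apply Subtype.ext
        rw [hlam, hl]
        funext a
        simp [triv]
      rw [this]
    · have h2 := horth lam hl
      rw [FF, classInner_indFun_left A _ _ hcl] at h2
      have h3 : Th lam = (i : A → ℂ) - (triv : A → ℂ) := by
        funext a
        simp only [Th, Pi.sub_apply, hlam]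
        rfl
      rw [h3, classInner_sub_left, hcoef, hcoef, sub_eq_zero] at h2
      exact_mod_cast h2
  refine ⟨m triv, ?_⟩
  have h4 : χ 1 = ∑ j : IrrCharacter A, (m j : ℂ) * (j : A → ℂ) 1 := by
    have := congrFun hm 1
    simp only [Finset.sum_apply, Pi.smul_apply, nsmul_eq_mul] at this
    simpa using this
  have hdeg : ∀ j : IrrCharacter A, (j : A → ℂ) 1 = 1 := fun j => isIrr_deg_one_of_comm hcomm j.2
  have hcard : (Fintype.card (IrrCharacter A) : ℂ) = (Nat.card A : ℂ) := by
    have := sum_deg_sq_eq_card (G := A)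
    simp only [hdeg, one_pow, Finset.sum_const, Finset.card_univ, nsmul_eq_mul, mul_one] at this
    exact this
  rw [h4]
  simp only [hdeg, hall, mul_one, Finset.sum_const, Finset.card_univ, nsmul_eq_mul]
  rw [hcard]
  ring

/-- A generalized character of norm one and positive degree is irreducible. -/
theorem irr_of_norm_one {θ : G → ℂ} (h : IsGeneralizedCharacter G θ) (hθ : classInner θ θ = 1)
    {n : ℕ} (hn : 0 < n) (h1 : θ 1 = n) : IsIrrCharacter G θ := by
  rcases norm_one h hθ with h2 | h2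
  · exact h2
  · exfalso
    obtain ⟨k, hk, hk1⟩ := exists_pos_deg_of_isIrr h2
    have h3 : (-θ) 1 = -(n : ℂ) := by simp [h1]
    rw [h3] at hk1
    have h4 : ((k + n : ℕ) : ℂ) = 0 := by
      push_cast
      linear_combination -hk1
    have h5 : k + n = 0 := by exact_mod_cast h4
    omega

end Cfsg.Agent.Lib.SzChar.Gen
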