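import Mathlib
import Cfsg.Agent.Lib.SzIso.Fix2
import Cfsg.Agent.Lib.SzChar.Gen
import Cfsg.Agent.Lib.Char.TI

/-!
The tori of the Suzuki groups and the characters induced from the trivial character of
their normalizers.
-/

set_option autoImplicit false
set_option linter.unusedSimpArgs false
set_option linter.unusedSectionVars false
set_option linter.style.haveILetI false

namespace Cfsg.Agent.Lib.SzChar.Tori

open Cfsg Cfsg.Agent.Lib.Suzuki.Core Cfsg.Agent.Lib.Suzuki.Elements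
  Cfsg.Agent.Lib.Suzuki.Stab Cfsg.Agent.Lib.Suzuki.Group Cfsg.Agent.Lib.Suzuki.Simple
  Cfsg.Agent.Lib.Suzuki.Sylow2 Cfsg.Agent.Lib.Suzuki.Count Cfsg.Agent.Lib.SzIso.OutSz
  Cfsg.Agent.Lib.SzIso.SubSz Cfsg.Agent.Lib.Suzuki.Cyc Cfsg.Agent.Lib.Suzuki.CN
  Cfsg.Agent.Lib.SuzukiX.Partition Cfsg.Agent.Lib.SuzukiX.Central Cfsg.Agent.Lib.SzIso.MaxSz
  Cfsg.Agent.Lib.Suzuki.Exc Cfsg.Agent.Lib.Suzuki.TI Cfsg.Agent.Lib.SzIso.SolSz
  Cfsg.Agent.Lib.SzChar.Gen Cfsg.Agent.Lib.Char.Induced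
open scoped Matrix Pointwise

section Generic

variable {G : Type*} [Group G] [Fintype G]

open scoped _root_.Classical in
/-- Sums over `A ⋊ P`-like groups: each element outside `A` is conjugate under `A` to exactly one
element of `P`. -/
theorem sum_normal_free (A N : Subgroup G) (hAN : A ≤ N) (hnorm : ∀ x ∈ N, ∀ a ∈ A, x * a * x⁻¹ ∈ A)
    (P : Finset G) (hPN : ∀ p ∈ P, p ∈ N) (hPA : ∀ p ∈ P, p ∉ A)
    (hPP : ∀ p ∈ P, ∀ p' ∈ P, p * p'⁻¹ ∈ A → p = p')
    (hfree : ∀ a ∈ A, ∀ p ∈ P, a * p = p * a → a = 1)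
    (hcard : Nat.card N = (1 + P.card) * Nat.card A) (h : G → ℂ) (hh : IsClassFunction G h) :
    ∑ y ∈ Finset.univ.filter (fun y => y ∈ N), h y =
      ∑ y ∈ Finset.univ.filter (fun y => y ∈ A), h y + (Nat.card A : ℂ) * ∑ p ∈ P, h p := by
  set A' : Finset G := Finset.univ.filter (fun y => y ∈ A) with hA'
  set N' : Finset G := Finset.univ.filter (fun y => y ∈ N) with hN'
  have hsub : A' ⊆ N' := by
    intro y hy
    simp only [hA', hN', Finset.mem_filter, Finset.mem_univ, true_and] at hy ⊢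
    exact hAN hy
  have hcA : A'.card = Nat.card A := by
    rw [Nat.subtype_card A']
    intro x
    simp [hA']
  have hcN : N'.card = Nat.card N := by
    rw [Nat.subtype_card N']
    intro x
    simp [hN']
  let Ψ : G × G → G := fun x => x.1 * x.2 * x.1⁻¹
  have hinj : Set.InjOn Ψ (A' ×ˢ P : Finset (G × G)) := by
    rintro ⟨n, p⟩ hx ⟨n', p'⟩ hx' heq
    simp only [Finset.coe_product, Set.mem_prod, Finset.mem_coe, hA', Finset.mem_filter,
      Finset.mem_univ, true_and] at hx hx'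
    obtain ⟨hn, hp⟩ := hx
    obtain ⟨hn', hp'⟩ := hx'
    have heq' : n * p * n⁻¹ = n' * p' * n'⁻¹ := heq
    -- first `p = p'`
    have hpp : p = p' := by
      apply hPP p hp p' hp'
      -- work with `n p n⁻¹ = (n · p n⁻¹ p⁻¹) p`
      have h3 : n * p * n⁻¹ = (n * (p * n⁻¹ * p⁻¹)) * p := by group
      have h4 : n' * p' * n'⁻¹ = (n' * (p' * n'⁻¹ * p'⁻¹)) * p' := by group
      rw [h3, h4] at heq'
      have h5 : p * p'⁻¹ = (n * (p * n⁻¹ * p⁻¹))⁻¹ * (n' * (p' * n'⁻¹ * p'⁻¹)) := by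
        rw [eq_inv_mul_iff_mul_eq]
        calc n * (p * n⁻¹ * p⁻¹) * (p * p'⁻¹) = (n * (p * n⁻¹ * p⁻¹) * p) * p'⁻¹ := by
              simp only [mul_assoc]
          _ = (n' * (p' * n'⁻¹ * p'⁻¹) * p') * p'⁻¹ := by rw [heq']
          _ = _ := by simp only [mul_assoc, mul_inv_cancel, mul_one]
      rw [h5]
      have hx1 : p * n⁻¹ * p⁻¹ ∈ A := hnorm p (hPN p hp) _ (inv_mem hn)
      have hx2 : p' * n'⁻¹ * p'⁻¹ ∈ A := hnorm p' (hPN p' hp') _ (inv_mem hn')
      exact mul_mem (inv_mem (mul_mem hn hx1)) (mul_mem hn' hx2)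
    subst hpp
    have hcomm : (n'⁻¹ * n) * p = p * (n'⁻¹ * n) := by
      have h1 : n * p * n⁻¹ * n = n' * p * n'⁻¹ * n := by rw [heq']
      have h2 : n'⁻¹ * (n * p * n⁻¹ * n) = n'⁻¹ * (n' * p * n'⁻¹ * n) := by rw [h1]
      calc (n'⁻¹ * n) * p = n'⁻¹ * (n * p * n⁻¹ * n) := by group
        _ = n'⁻¹ * (n' * p * n'⁻¹ * n) := h2
        _ = _ := by group
    have h3 := hfree _ (mul_mem (inv_mem hn') hn) p hp hcomm
    have h4 : n = n' := (inv_mul_eq_one.mp h3).symm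
    rw [h4]
  have himg : (A' ×ˢ P).image Ψ = N' \ A' := by
    apply Finset.eq_of_subset_of_card_le
    · intro y hy
      obtain ⟨⟨n, p⟩, hx, rfl⟩ := Finset.mem_image.mp hy
      simp only [Finset.mem_product, hA', Finset.mem_filter, Finset.mem_univ, true_and] at hx
      obtain ⟨hn, hp⟩ := hx
      simp only [Finset.mem_sdiff, hA', hN', Finset.mem_filter, Finset.mem_univ, true_and, Ψ]
      refine ⟨mul_mem (mul_mem (hAN hn) (hPN p hp)) (inv_mem (hAN hn)), fun hm => hPA p hp ?_⟩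
      have := hnorm n⁻¹ (inv_mem (hAN hn)) _ hm
      simpa [mul_assoc] using this
    · rw [Finset.card_image_of_injOn hinj, Finset.card_product,
        Finset.card_sdiff_of_subset hsub, hcN, hcA, hcard]
      apply le_of_eq
      rw [add_mul, one_mul, Nat.add_sub_cancel_left, mul_comm]
  rw [← Finset.sum_sdiff hsub, ← himg, Finset.sum_image hinj, Finset.sum_product, add_comm]
  congr 1
  have : ∀ n ∈ A', ∑ p ∈ P, h (Ψ (n, p)) = ∑ p ∈ P, h p := by
    intro n _
    exact Finset.sum_congr rfl fun p _ => hh p n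
  rw [Finset.sum_congr rfl this, Finset.sum_const, hcA, nsmul_eq_mul]

open scoped _root_.Classical in
/-- The function counting the conjugations taking `g` to `y`. -/
noncomputable def cnt (g y : G) : ℂ := ((Finset.univ.filter (fun t : G => t⁻¹ * g * t = y)).card : ℂ)

lemma cnt_eq_zero {g y : G} (h : ∀ t : G, t⁻¹ * g * t ≠ y) : cnt g y = 0 := by
  classical
  simp only [cnt]
  rw [Nat.cast_eq_zero, Finset.card_eq_zero]
  exact Finset.filter_eq_empty_iff.mpr (fun t _ => h t)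

lemma ord_conj (t y : G) : orderOf (t * y * t⁻¹) = orderOf y := by
  have := orderOf_injective (MulAut.conj t).toMonoidHom (MulAut.conj t).injective y
  simpa using this

lemma isClass_cnt (g : G) : IsClassFunction G (cnt g) := by
  classical
  intro y s
  simp only [cnt]
  congr 1
  refine Finset.card_bij (fun t _ => t * s) ?_ ?_ ?_
  · intro t ht
    simp only [Finset.mem_filter, Finset.mem_univ, true_and] at ht ⊢
    have e : (t * s)⁻¹ * g * (t * s) = s⁻¹ * (t⁻¹ * g * t) * s := by group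
    rw [e, ht]
    simp [mul_assoc]
  · intro a _ b _ hab
    exact mul_right_cancel hab
  · intro t ht
    simp only [Finset.mem_filter, Finset.mem_univ, true_and] at ht
    refine ⟨t * s⁻¹, ?_, by group⟩
    simp only [Finset.mem_filter, Finset.mem_univ, true_and]
    have e : (t * s⁻¹)⁻¹ * g * (t * s⁻¹) = s * (t⁻¹ * g * t) * s⁻¹ := by group
    rw [e, ht]

open scoped _root_.Classical in
lemma indFun_one_eq_sum_cnt (N : Subgroup G) (g : G) :
    indFun N (fun _ => 1) g = (Nat.card N : ℂ)⁻¹ * ∑ y ∈ Finset.univ.filter (fun y => y ∈ N), cnt g y := by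
  rw [indFun_apply]
  congr 1
  have h1 : ∀ t : G, extendByZero N (fun _ => (1 : ℂ)) (t⁻¹ * g * t) =
      if t⁻¹ * g * t ∈ N then 1 else 0 := by
    intro t
    split_ifs with h
    · rw [extendByZero_of_mem N _ h]
    · rw [extendByZero_of_not_mem N _ h]
  simp only [h1, cnt]
  rw [Finset.sum_boole]
  rw [Finset.card_eq_sum_card_fiberwise (f := fun t : G => t⁻¹ * g * t)
    (t := Finset.univ.filter (fun y => y ∈ N))]
  · push_cast
    refine Finset.sum_congr rfl fun y hy => ?_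
    congr 2
    ext t
    simp only [Finset.mem_filter, Finset.mem_univ, true_and] at hy ⊢
    constructor
    · exact fun h => h.2
    · intro h
      exact ⟨by rw [h]; exact hy, h⟩
  · intro t ht
    simpa using ht

end Generic

variable {F : Type*} [Field F] [Fintype F] [CharP F 2] {m : ℕ} (hc : Ctx F m)

/-- Elements with exactly two fixed points. -/
def IsT (g : Sz F m) : Prop := g ≠ 1 ∧ ∃ p p' : OO F m, p ≠ p' ∧ g • p = p ∧ g • p' = p'

lemma trichotomy {g : Sz F m} (hg : g ≠ 1) : g ∈ Y1 F m ∨ IsT g ∨ IsFPF g := by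
  by_cases h : ∃ p : OO F m, g • p = p
  · obtain ⟨p, hp⟩ := h
    by_cases h2 : ∃ p' : OO F m, p ≠ p' ∧ g • p' = p'
    · obtain ⟨p', hne, hp'⟩ := h2
      exact Or.inr (Or.inl ⟨hg, p, p', hne, hp, hp'⟩)
    · push Not at h2
      left
      refine ⟨hg, p, hp, fun p' hp' => ?_⟩
      by_contra hne
      exact h2 p' (Ne.symm hne) hp'
  · push Not at h
    exact Or.inr (Or.inr ⟨hg, h⟩)

lemma IsT.conj {g : Sz F m} (h : IsT g) (t : Sz F m) : IsT (t * g * t⁻¹) := by
  obtain ⟨h1, p, p', hne, hp, hp'⟩ := h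
  refine ⟨fun h2 => h1 ?_, t • p, t • p', fun h3 => hne (smul_left_cancel t h3), ?_, ?_⟩
  · have e : g = t⁻¹ * (t * g * t⁻¹) * t := by group
    rw [e, h2]
    group
  · rw [mul_smul, mul_smul, inv_smul_smul, hp]
  · rw [mul_smul, mul_smul, inv_smul_smul, hp']

lemma Y1_conj {g : Sz F m} (h : g ∈ Y1 F m) (t : Sz F m) : t * g * t⁻¹ ∈ Y1 F m := by
  obtain ⟨h1, p, hp, huniq⟩ := h
  refine ⟨fun h2 => h1 ?_, t • p, ?_, fun p' hp' => ?_⟩
  · have e : g = t⁻¹ * (t * g * t⁻¹) * t := by group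
    rw [e, h2]
    group
  · rw [mul_smul, mul_smul, inv_smul_smul, hp]
  · have h3 : g • (t⁻¹ • p') = t⁻¹ • p' := by
      rw [mul_smul, mul_smul, smul_eq_iff_eq_inv_smul] at hp'
      exact hp'
    rw [← huniq _ h3, smul_inv_smul]

lemma Y1_not_T {g : Sz F m} (h : g ∈ Y1 F m) : ¬ IsT g := by
  obtain ⟨-, p, -, huniq⟩ := h
  rintro ⟨-, q, q', hne, hq, hq'⟩
  exact hne ((huniq q hq).trans (huniq q' hq').symm)

include hc

lemma mem_Y1_of_mem_Usub {u : Sz F m} (hu : u ∈ Usub hc) (h1 : u ≠ 1) : u ∈ Y1 F m :=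
  ⟨h1, infO, smul_infO_of_mem hc hu, fun _ hp => fix_Usub hc hu h1 hp⟩

/-- An element of `Y1` is a conjugate of an element of `U`. -/
lemma Y1_conj_mem {g : Sz F m} (h : g ∈ Y1 F m) : ∃ t : Sz F m, t⁻¹ * g * t ∈ Usub hc := by
  rw [Y1_eq hc] at h
  obtain ⟨t, a, ha, -, rfl⟩ := h
  exact ⟨t, by simpa [mul_assoc] using ha⟩

lemma Y1_two_power {g : Sz F m} (h : g ∈ Y1 F m) : g ^ 4 = 1 := by
  obtain ⟨t, ht⟩ := Y1_conj_mem hc h
  obtain ⟨a, b, hab⟩ := ht
  have h4 := uS_pow_four hc a b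
  rw [← hab] at h4
  calc g ^ 4 = (t * (t⁻¹ * g * t) * t⁻¹) ^ 4 := by
        congr 1
        group
    _ = t * (t⁻¹ * g * t) ^ 4 * t⁻¹ := conj_pow
    _ = 1 := by rw [h4]; group

lemma IsT_odd {g : Sz F m} (h : IsT g) : Odd (orderOf g) := by
  obtain ⟨-, p, p', hne, hp, hp'⟩ := h
  have h1 : g ∈ Tpp p p' := mem_Tpp.2 ⟨hp, hp'⟩
  have h2 := Subgroup.orderOf_dvd_natCard (Tpp p p') h1
  rw [card_Tpp hc hne] at h2
  exact Odd.of_dvd_nat odd_q h2

lemma odd_Cz {a : Sz F m} (hF : IsFPF a) : Odd (Nat.card (Cz a)) :=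
  Odd.of_dvd_nat (odd_q2 (m := m)) (card_Cz_dvd hc hF)

lemma odd_of_IsFPF {a : Sz F m} (hF : IsFPF a) : Odd (orderOf a) :=
  Odd.of_dvd_nat (odd_Cz hc hF) (Subgroup.orderOf_dvd_natCard (Cz a) (self_mem_Cz a))

/-- The centraliser of an element of odd order with its normalizer. -/
theorem tif_of_odd {x : Sz F m} (hx : x ≠ 1) (hodd : Odd (orderOf x)) : TIF (Cz x) (NN x) := by
  have hG := good_of_odd hc hx hodd
  have hle : Cz x ≤ NN x := Subgroup.le_normalizer
  refine ⟨hle, ?_, ?_, ?_, ?_⟩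
  · intro a ha b hb
    exact comm_of_isCyclic hc hG.cyc ha hb
  · intro y hy a ha
    have h1 : y⁻¹ ∈ NN x := inv_mem hy
    have := (Subgroup.mem_normalizer_iff.1 h1 a).1 ha
    simpa using this
  · intro a ha ha1 y hy
    -- `Cz (y⁻¹ a y) = y⁻¹ Cz a y`
    have hb1 : y⁻¹ * a * y ≠ 1 := by
      intro h
      apply ha1
      have e : a = y * (y⁻¹ * a * y) * y⁻¹ := by group
      rw [e, h]
      group
    have h1 := hG.eq a ha ha1
    have h2 := hG.eq _ hy hb1
    rw [Subgroup.mem_normalizer_iff]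
    intro z
    constructor
    · intro hz
      -- `z ∈ Cz x = Cz (y⁻¹ a y)`, so `y z y⁻¹ ∈ Cz a = Cz x`
      rw [← h2] at hz
      rw [← h1]
      rw [mem_Cz] at hz ⊢
      calc a * (y * z * y⁻¹) = y * ((y⁻¹ * a * y) * z) * y⁻¹ := by group
        _ = y * (z * (y⁻¹ * a * y)) * y⁻¹ := by rw [hz]
        _ = _ := by group
    · intro hz
      rw [← h1] at hz
      rw [← h2]
      rw [mem_Cz] at hz ⊢
      calc (y⁻¹ * a * y) * z = y⁻¹ * (a * (y * z * y⁻¹)) * y := by group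
        _ = y⁻¹ * ((y * z * y⁻¹) * a) * y := by rw [hz]
        _ = _ := by group
  · intro y hy hyA b hb hcomm
    by_contra hb1
    apply hyA
    rw [← hG.eq b hb hb1, mem_Cz]
    exact hcomm

/-- The unique involution at a point. -/
lemma unique_inv_at {a t t' : Sz F m} (hF : IsFPF a) (ht : IsInv t) (ht' : IsInv t') {p : OO F m}
    (htp : t • p = p) (ht'p : t' • p = p) (htN : t ∈ NN a) (ht'N : t' ∈ NN a) : t = t' := by
  obtain ⟨g, hg⟩ := exists_smul_eq_inf hc p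
  have hF' := IsFPF_conj hF g
  have h := unique_inv hc hF' (odd_of_IsFPF hc hF') (ht.conj g) (ht'.conj g)
    (by rw [← hg, mul_smul, mul_smul, inv_smul_smul, htp])
    (by rw [← hg, mul_smul, mul_smul, inv_smul_smul, ht'p])
    ((mem_NN_conj hc).2 htN) ((mem_NN_conj hc).2 ht'N)
  have e : ∀ z : Sz F m, z = g⁻¹ * (g * z * g⁻¹) * g := fun z => by group
  rw [e t, h, ← e]

/-- The normalizer of a torus contains an element of order four. -/
lemma exists_order_four {a : Sz F m} (hF : IsFPF a) : ∃ c ∈ NN a, orderOf c = 4 := by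
  classical
  have h4 : (2 : ℕ) ^ 2 ∣ Nat.card (NN a) := by
    rw [card_NN_fpf hc hF]
    exact ⟨Nat.card (Cz a), by norm_num⟩
  obtain ⟨K, hK⟩ := Sylow.exists_subgroup_card_pow_prime 2 h4
  let P : Subgroup (Sz F m) := K.map (NN a).subtype
  have hP : Nat.card P = 4 := by
    have : Nat.card P = Nat.card K := Subgroup.card_map_of_injective (Subtype.val_injective)
    rw [this, hK]
    norm_num
  have hPN : P ≤ NN a := by
    rintro _ ⟨y, -, rfl⟩
    exact y.2
  have hPG : IsPGroup 2 P := IsPGroup.of_card (n := 2) (by rw [hP]; norm_num)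
  obtain ⟨p, hp⟩ := exists_fix_of_isPGroup hc hPG
  by_contra hno
  push Not at hno
  have hsq : ∀ y ∈ P, y * y = 1 := by
    intro y hy
    have h1 : orderOf y ∣ 4 := by
      have := Subgroup.orderOf_dvd_natCard P hy
      rwa [hP] at this
    have h2 : orderOf y ≠ 4 := hno y (hPN hy)
    have h3 : orderOf y ∣ 2 := by
      have : orderOf y ∈ Nat.divisors 4 := Nat.mem_divisors.2 ⟨h1, by norm_num⟩
      have e : Nat.divisors 4 = {1, 2, 4} := by decide
      rw [e] at this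
      simp only [Finset.mem_insert, Finset.mem_singleton] at this
      rcases this with h | h | h
      · rw [h]; norm_num
      · rw [h]
      · exact absurd h h2
    have h5 := orderOf_dvd_iff_pow_eq_one.1 h3
    rwa [pow_two] at h5
  -- two different involutions
  have hc3 : 2 < Nat.card P := by rw [hP]; norm_num
  haveI : Fintype P := Fintype.ofFinite _
  have hex : ∃ y₁ y₂ : P, y₁ ≠ 1 ∧ y₂ ≠ 1 ∧ y₁ ≠ y₂ := by
    have hc4 : 2 < Fintype.card P := by rwa [← Nat.card_eq_fintype_card]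
    obtain ⟨x, y, z, hxy, hxz, hyz⟩ := Fintype.two_lt_card_iff.1 hc4
    by_cases hx1 : x = 1
    · subst hx1
      exact ⟨y, z, hxy.symm, hxz.symm, hyz⟩
    · by_cases hy1 : y = 1
      · subst hy1
        exact ⟨x, z, hx1, hyz.symm, hxz⟩
      · exact ⟨x, y, hx1, hy1, hxy⟩
  obtain ⟨y₁, y₂, h₁, h₂, hne⟩ := hex
  have hne' : (y₁ : Sz F m) ≠ y₂ := fun h => hne (Subtype.ext h)
  apply hne'
  refine unique_inv_at hc hF ⟨fun h => h₁ (Subtype.ext h), hsq _ y₁.2⟩
    ⟨fun h => h₂ (Subtype.ext h), hsq _ y₂.2⟩ (hp _ y₁.2) (hp _ y₂.2) (hPN y₁.2) (hPN y₂.2)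

/-- The element `uS 1 0`. -/
abbrev rh : Sz F m := uS hc 1 0

lemma rh_mul_rh : rh hc * rh hc = zz hc := sq_uS_one hc 0

lemma rh_inv : (rh hc)⁻¹ = uS hc 1 1 := by
  rw [uS_inv, th_one, one_mul, zero_add]

lemma orderOf_uS_one (b : F) : orderOf (uS hc 1 b) = 4 := by
  have h4 : (uS hc 1 b) ^ (2 ^ (1 + 1)) = 1 := by
    have := uS_pow_four hc 1 b
    simpa using this
  have hn : ¬ (uS hc 1 b) ^ (2 ^ 1) = 1 := by
    rw [pow_one, pow_two, sq_uS_one]
    exact (isInv_zz hc).1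
  have := orderOf_eq_prime_pow hn h4
  simpa using this

/-- An element of order four is conjugate to `uS 1 0` or its inverse. -/
lemma exists_conj_rh {x : Sz F m} (hx : orderOf x = 4) :
    (∃ g : Sz F m, g * x * g⁻¹ = rh hc) ∨ (∃ g : Sz F m, g * x * g⁻¹ = (rh hc)⁻¹) := by
  obtain ⟨g, b, hg⟩ := exists_conj_four hc hx
  obtain ⟨s, hs⟩ := exists_th_add hc b
  have h2 := conj_uS_one hc s b
  rcases hs with hs | hs
  · left
    refine ⟨uS hc s 0 * g, ?_⟩
    have e : uS hc s 0 * g * x * (uS hc s 0 * g)⁻¹ = uS hc s 0 * (g * x * g⁻¹) * (uS hc s 0)⁻¹ := by group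
    rw [e, hg, h2, hs, CharTwo.add_self_eq_zero]
  · right
    refine ⟨uS hc s 0 * g, ?_⟩
    have e : uS hc s 0 * g * x * (uS hc s 0 * g)⁻¹ = uS hc s 0 * (g * x * g⁻¹) * (uS hc s 0)⁻¹ := by group
    rw [e, hg, h2, hs, rh_inv, ← add_assoc, CharTwo.add_self_eq_zero, zero_add]

/-- The normalizer of a torus contains a conjugate of `uS 1 0`. -/
lemma exists_c {a : Sz F m} (hF : IsFPF a) : ∃ c ∈ NN a, ∃ g : Sz F m, g * c * g⁻¹ = rh hc := by
  obtain ⟨c, hcN, hc4⟩ := exists_order_four hc hF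
  rcases exists_conj_rh hc hc4 with ⟨g, hg⟩ | ⟨g, hg⟩
  · exact ⟨c, hcN, g, hg⟩
  · refine ⟨c⁻¹, inv_mem hcN, g, ?_⟩
    have e : g * c⁻¹ * g⁻¹ = (g * c * g⁻¹)⁻¹ := by group
    rw [e, hg, inv_inv]

/-- Elements of the normalizer of a torus of odd order lie in the torus. -/
lemma mem_Cz_of_odd {a y : Sz F m} (hF : IsFPF a) (hy : y ∈ NN a) (hodd : Odd (orderOf y)) : y ∈ Cz a :=
  (good_of_odd hc hF.1 (odd_of_IsFPF hc hF)).norm y hy hodd

/-- The sum of a class function over the normalizer of a torus. -/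
theorem sum_NN [Fintype (Sz F m)] {a : Sz F m} (hF : IsFPF a) (h : Sz F m → ℂ)
    (hh : IsClassFunction (Sz F m) h) :
    open scoped _root_.Classical in
    ∑ y ∈ Finset.univ.filter (fun y => y ∈ NN a), h y =
      ∑ y ∈ Finset.univ.filter (fun y => y ∈ Cz a), h y +
        (Nat.card (Cz a) : ℂ) * (h (rh hc) + h (rh hc)⁻¹ + h (zz hc)) := by
  classical
  obtain ⟨c, hcN, g, hg⟩ := exists_c hc hF
  have hc4 : orderOf c = 4 := by
    have h1 : orderOf (g * c * g⁻¹) = orderOf c := ord_conj g c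
    rw [← h1, hg, orderOf_uS_one]
  have hc1 : c ≠ 1 := by
    rintro rfl
    simp at hc4
  have hpw : ∀ y : Sz F m, y ∈ Subgroup.zpowers c → y ∈ Cz a → y = 1 := by
    intro y hy hyA
    have h1 : y ^ 4 = 1 := by
      obtain ⟨k, rfl⟩ := hy
      show (c ^ k) ^ 4 = 1
      rw [← zpow_natCast, ← zpow_mul, mul_comm, zpow_mul, zpow_natCast]
      have : c ^ 4 = 1 := by
        have h0 := pow_orderOf_eq_one c
        rwa [hc4] at h0
      rw [this, one_zpow]
    exact eq_one_of_odd hc (odd_Cz hc hF) hyA (k := 2) (by simpa using h1)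
  have hne2 : c * c ≠ 1 := by
    intro h1
    have : orderOf c ∣ 2 := orderOf_dvd_of_pow_eq_one (by rw [pow_two]; exact h1)
    rw [hc4] at this
    norm_num at this
  have hne3 : c⁻¹ ≠ c := by
    intro h1
    apply hne2
    nth_rewrite 1 [← h1]
    group
  have hne4 : c⁻¹ ≠ c * c := by
    intro h1
    have : c ^ 3 = 1 := by
      have e : c ^ 3 = c * (c * c) := by rw [pow_succ, pow_two, mul_assoc]
      rw [e, ← h1]
      group
    have : orderOf c ∣ 3 := orderOf_dvd_of_pow_eq_one this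
    rw [hc4] at this
    norm_num at this
  have hne5 : c ≠ c * c := by
    intro h1
    apply hc1
    have h2 : c * c = c * 1 := by rw [← h1, mul_one]
    exact (mul_left_cancel h2)
  have hP : ∀ p ∈ ({c, c⁻¹, c * c} : Finset (Sz F m)), p ∈ Subgroup.zpowers c ∧ p ≠ 1 := by
    intro p hp
    simp only [Finset.mem_insert, Finset.mem_singleton] at hp
    rcases hp with rfl | rfl | rfl
    · exact ⟨Subgroup.mem_zpowers p, hc1⟩
    · exact ⟨inv_mem (Subgroup.mem_zpowers c), inv_ne_one.2 hc1⟩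
    · exact ⟨mul_mem (Subgroup.mem_zpowers c) (Subgroup.mem_zpowers c), hne2⟩
  have hZN : Subgroup.zpowers c ≤ NN a := (Subgroup.zpowers_le).2 hcN
  have hnorm : ∀ x ∈ NN a, ∀ y ∈ Cz a, x * y * x⁻¹ ∈ Cz a := by
    intro x hx y hy
    exact (Subgroup.mem_normalizer_iff.1 hx y).1 hy
  have key := sum_normal_free (Cz a) (NN a) Subgroup.le_normalizer hnorm {c, c⁻¹, c * c}
    (fun p hp => hZN (hP p hp).1)
    (fun p hp hpA => (hP p hp).2 (hpw p (hP p hp).1 hpA))
    (fun p hp p' hp' hpp => by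
      have h1 : p * p'⁻¹ ∈ Subgroup.zpowers c := mul_mem (hP p hp).1 (inv_mem (hP p' hp').1)
      exact mul_inv_eq_one.mp (hpw _ h1 hpp))
    (fun y hy p hp hcomm => by
      by_contra hy1
      have hG := good_of_odd hc hF.1 (odd_of_IsFPF hc hF)
      have h2 : p ∈ Cz y := mem_Cz.2 hcomm
      rw [hG.eq y hy hy1] at h2
      exact (hP p hp).2 (hpw p (hP p hp).1 h2))
    (by
      rw [card_NN_fpf hc hF]
      congr 1
      rw [Finset.card_insert_of_notMem, Finset.card_insert_of_notMem, Finset.card_singleton]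
      · simpa using hne4
      · simp only [Finset.mem_insert, Finset.mem_singleton, not_or]
        exact ⟨hne3.symm, hne5⟩)
    h hh
  rw [key]
  congr 2
  rw [Finset.sum_insert (by
      simp only [Finset.mem_insert, Finset.mem_singleton, not_or]
      exact ⟨hne3.symm, hne5⟩),
    Finset.sum_insert (by simpa using hne4), Finset.sum_singleton]
  have e1 : h c = h (rh hc) := by rw [← hg]; exact (hh c g).symm
  have e2 : h c⁻¹ = h (rh hc)⁻¹ := by
    have : (rh hc)⁻¹ = g * c⁻¹ * g⁻¹ := by rw [← hg]; group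
    rw [this]
    exact (hh _ g).symm
  have e3 : h (c * c) = h (zz hc) := by
    have : zz hc = g * (c * c) * g⁻¹ := by rw [← rh_mul_rh, ← hg]; group
    rw [this]
    exact (hh _ g).symm
  rw [e1, e2, e3, add_assoc]

/-- The character induced from the trivial character of the normalizer. -/
noncomputable def II [Fintype (Sz F m)] (a : Sz F m) : Sz F m → ℂ := indFun (NN a) (fun _ => 1)

lemma isChar_II [Fintype (Sz F m)] (a : Sz F m) : IsCharacter (Sz F m) (II a) :=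
  Cfsg.Agent.Lib.Char.IndRep.isCharacter_indFun _ Cfsg.Agent.Lib.Char.Basic.isCharacter_one

/-- The value when no conjugate lies in the torus. -/
theorem II_of_not_conj [Fintype (Sz F m)] {a g : Sz F m} (hF : IsFPF a) (hg : ∀ t : Sz F m, t⁻¹ * g * t ∉ Cz a) :
    II a g = (1 / 4 : ℂ) * (cnt g (rh hc) + cnt g (rh hc)⁻¹ + cnt g (zz hc)) := by
  classical
  rw [II, indFun_one_eq_sum_cnt, sum_NN hc hF _ (isClass_cnt g)]
  have h0 : ∑ y ∈ Finset.univ.filter (fun y => y ∈ Cz a), cnt g y = 0 := by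
    apply Finset.sum_eq_zero
    intro y hy
    simp only [Finset.mem_filter, Finset.mem_univ, true_and] at hy
    apply cnt_eq_zero
    intro t ht
    exact hg t (ht ▸ hy)
  rw [h0, zero_add, card_NN_fpf hc hF]
  push_cast
  have hne : (Nat.card (Cz a) : ℂ) ≠ 0 := Nat.cast_ne_zero.mpr Nat.card_pos.ne'
  field_simp

/-- Both tori give the same value on `Y1`. -/
theorem II_Y1 [Fintype (Sz F m)] {a g : Sz F m} (hF : IsFPF a) (hg : g ∈ Y1 F m) :
    II a g = (1 / 4 : ℂ) * (cnt g (rh hc) + cnt g (rh hc)⁻¹ + cnt g (zz hc)) := by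
  apply II_of_not_conj hc hF
  intro t ht
  have h4 := Y1_two_power hc hg
  have h5 : (t⁻¹ * g * t) ^ (2 ^ 2) = 1 := by
    have e : (t⁻¹ * g * t) = t⁻¹ * g * t⁻¹⁻¹ := by group
    rw [e, conj_pow]
    norm_num
    rw [h4]
    group
  have h6 := eq_one_of_odd hc (odd_Cz hc hF) ht h5
  apply hg.1
  have e : g = t * (t⁻¹ * g * t) * t⁻¹ := by group
  rw [e, h6]
  group

lemma Y1_rh : rh hc ∈ Y1 F m :=
  mem_Y1_of_mem_Usub hc (uS_mem hc _ _) (uS_one_ne_one hc 0)

lemma Y1_rh_inv : (rh hc)⁻¹ ∈ Y1 F m :=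
  mem_Y1_of_mem_Usub hc (inv_mem (uS_mem hc _ _)) (inv_ne_one.2 (uS_one_ne_one hc 0))

lemma Y1_zz : zz hc ∈ Y1 F m :=
  mem_Y1_of_mem_Usub hc (uS_mem hc _ _) (isInv_zz hc).1

omit hc in
lemma cnt_eq_zero_of_T [Fintype (Sz F m)] {g y : Sz F m} (hg : IsT g) (hy : y ∈ Y1 F m) : cnt g y = 0 := by
  apply cnt_eq_zero
  intro t ht
  have := Y1_conj hy t
  have e : t * y * t⁻¹ = g := by rw [← ht]; group
  rw [e] at this
  exact Y1_not_T this hg

/-- Elements with two fixed points have value zero. -/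
theorem II_T [Fintype (Sz F m)] {a g : Sz F m} (hF : IsFPF a) (hg : IsT g) : II a g = 0 := by
  rw [II_of_not_conj hc hF, cnt_eq_zero_of_T hg (Y1_rh hc), cnt_eq_zero_of_T hg (Y1_rh_inv hc),
    cnt_eq_zero_of_T hg (Y1_zz hc)]
  · simp
  · intro t ht
    by_cases h1 : t⁻¹ * g * t = 1
    · apply hg.1
      have e : g = t * (t⁻¹ * g * t) * t⁻¹ := by group
      rw [e, h1]
      group
    · have hF' := IsFPF_of_mem hc hF ht h1
      obtain ⟨-, p, -, -, hp, -⟩ := hg
      have e : t⁻¹ * g * t = t⁻¹ * g * t⁻¹⁻¹ := by group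
      apply hF'.2 (t⁻¹ • p)
      rw [e, mul_smul, mul_smul, inv_inv, smul_inv_smul, hp]

/-- Value on the torus. -/
theorem II_self [Fintype (Sz F m)] {a g : Sz F m} (hF : IsFPF a) (hg : g ∈ Xg a) : II a g = 1 := by
  classical
  obtain ⟨t, y, hy, hy1, rfl⟩ := hg
  rw [II, isClassFunction_indFun (NN a) _ y t]
  have hG := good_of_odd hc hF.1 (odd_of_IsFPF hc hF)
  have hyN : y ∈ NN a := Subgroup.le_normalizer hy
  have := Cfsg.Agent.Lib.Char.TI.indFun_eq_of_conj_mem (NN a) (fun _ => (1 : ℂ))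
    (fun _ _ => rfl) ⟨y, hyN⟩ (by
      intro x hx _
      have hTIF := tif_of_odd hc hF.1 (odd_of_IsFPF hc hF)
      apply hTIF.ti y hy hy1
      apply mem_Cz_of_odd hc hF hx
      have h2 : orderOf (x⁻¹ * y * x) = orderOf y := by
        have e : x⁻¹ * y * x = x⁻¹ * y * x⁻¹⁻¹ := by group
        rw [e, ord_conj]
      rw [h2]
      exact Odd.of_dvd_nat (odd_Cz hc hF) (Subgroup.orderOf_dvd_natCard (Cz a) hy))
  exact this

/-- Value on the other torus. -/
theorem II_other [Fintype (Sz F m)] {a b g : Sz F m} (hF : IsFPF a) (hFb : IsFPF b)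
    (hd : Disjoint (Xg a) (Xg b)) (hg : g ∈ Xg b) : II a g = 0 := by
  classical
  rw [II, indFun_apply]
  apply mul_eq_zero_of_right
  apply Finset.sum_eq_zero
  intro x _
  apply extendByZero_of_not_mem
  intro hx
  obtain ⟨t, y, hy, hy1, rfl⟩ := id hg
  have hodd : Odd (orderOf (x⁻¹ * (t * y * t⁻¹) * x)) := by
    have h2 : orderOf (x⁻¹ * (t * y * t⁻¹) * x) = orderOf y := by
      have e : x⁻¹ * (t * y * t⁻¹) * x = (x⁻¹ * t) * y * (x⁻¹ * t)⁻¹ := by group
      rw [e, ord_conj]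
    rw [h2]
    exact Odd.of_dvd_nat (odd_Cz hc hFb) (Subgroup.orderOf_dvd_natCard (Cz b) hy)
  have h3 := mem_Cz_of_odd hc hF hx hodd
  have h4 : x⁻¹ * (t * y * t⁻¹) * x ≠ 1 := by
    intro h5
    apply hy1
    have e : y = t⁻¹ * x * (x⁻¹ * (t * y * t⁻¹) * x) * x⁻¹ * t := by group
    rw [e, h5]
    group
  have h6 : t * y * t⁻¹ ∈ Xg a := ⟨x, _, h3, h4, by group⟩
  exact Set.disjoint_left.mp hd h6 hg

theorem II_one [Fintype (Sz F m)] (a : Sz F m) : II a 1 = ((NN a).index : ℂ) := by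
  rw [II, indFun_one, mul_one]

/-- The data of the two classes of tori of order prime to `q - 1`. -/
structure TData (g₁ g₂ : Sz F m) : Prop where
  h₁ : IsFPF g₁
  h₂ : IsFPF g₂
  dis : Disjoint (Xg g₁) (Xg g₂)
  cov : Xs F m = Xg g₁ ∪ Xg g₂
  c₁ : Nat.card (Cz g₁) = 2 ^ (2 * m + 1) + 2 ^ (m + 1) + 1
  c₂ : Nat.card (Cz g₂) = 2 ^ (2 * m + 1) - 2 ^ (m + 1) + 1

theorem exists_TData : ∃ g₁ g₂ : Sz F m, TData g₁ g₂ := by
  obtain ⟨h₁, h₂, hF₁, hF₂, hd, hcov, -, -⟩ := exists_two_classes hc hc.hm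
  obtain ⟨x, hx, hxc, -⟩ := orders_of_classes hc hc.hm (2 ^ (2 * m + 1) + 2 ^ (m + 1) + 1) (by simp)
  obtain ⟨y, hy, hyc, -⟩ := orders_of_classes hc hc.hm (2 ^ (2 * m + 1) - 2 ^ (m + 1) + 1) (by simp)
  have hne : 2 ^ (2 * m + 1) + 2 ^ (m + 1) + 1 ≠ 2 ^ (2 * m + 1) - 2 ^ (m + 1) + 1 := by
    have h1 := s_lt hc.hm
    have h2 : 0 < 2 ^ (m + 1) := by positivity
    omega
  have hx' : x ∈ Xs F m := hx
  have hy' : y ∈ Xs F m := hy
  rw [hcov] at hx' hy'
  rcases hx' with hx' | hx'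
  · rcases hy' with hy' | hy'
    · exfalso
      apply hne
      rw [← hxc, ← hyc, card_Cz_conj hc hF₁ hx', card_Cz_conj hc hF₁ hy']
    · exact ⟨h₁, h₂, hF₁, hF₂, hd, hcov, by rw [← hxc, card_Cz_conj hc hF₁ hx'],
        by rw [← hyc, card_Cz_conj hc hF₂ hy']⟩
  · rcases hy' with hy' | hy'
    · exact ⟨h₂, h₁, hF₂, hF₁, hd.symm, by rw [hcov, Set.union_comm],
        by rw [← hxc, card_Cz_conj hc hF₂ hx'], by rw [← hyc, card_Cz_conj hc hF₁ hy']⟩
    · exfalso
      apply hne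
      rw [← hxc, ← hyc, card_Cz_conj hc hF₂ hx', card_Cz_conj hc hF₂ hy']

end Cfsg.Agent.Lib.SzChar.Tori
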