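import Mathlib
import Cfsg.Agent.Lib.SzChar.Tori
import Cfsg.Agent.Lib.Coh.CentralChar

/-!
The nonlinear characters of the Sylow `2`-subgroup of the Suzuki group: the two characters of
degree `2 ^ m` over the additive character of `F` with kernel the image of `s ↦ θ s + s`.
-/

set_option autoImplicit false
set_option linter.unusedSimpArgs false
set_option linter.unusedSectionVars false
set_option linter.style.haveILetI false

namespace Cfsg.Agent.Lib.SzChar.UChar

open Cfsg Cfsg.Agent.Lib.Suzuki.Core Cfsg.Agent.Lib.Suzuki.Elements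
  Cfsg.Agent.Lib.Suzuki.Stab Cfsg.Agent.Lib.Suzuki.Group Cfsg.Agent.Lib.Suzuki.Simple
  Cfsg.Agent.Lib.Suzuki.Sylow2 Cfsg.Agent.Lib.Suzuki.Count Cfsg.Agent.Lib.SzIso.OutSz
  Cfsg.Agent.Lib.SzIso.SubSz Cfsg.Agent.Lib.Suzuki.Cyc Cfsg.Agent.Lib.Suzuki.CN
  Cfsg.Agent.Lib.SuzukiX.Partition Cfsg.Agent.Lib.SuzukiX.Central Cfsg.Agent.Lib.SzIso.MaxSz
  Cfsg.Agent.Lib.Suzuki.Exc Cfsg.Agent.Lib.Suzuki.TI Cfsg.Agent.Lib.SzIso.SolSz
  Cfsg.Agent.Lib.SzChar.Gen Cfsg.Agent.Lib.Char.Induced Cfsg.Agent.Lib.Char.Ortho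
  Cfsg.Agent.Lib.Char.Basic Cfsg.Agent.Lib.Char.Complete Cfsg.Agent.Lib.Char.Degree
open scoped ComplexConjugate

section Generic

variable {X A : Type*} [Group X] [Fintype X] [Group A] [Fintype A]

/-- Every linear character of a central subgroup lies under an irreducible character. -/
theorem exists_irr_over (ι : A →* X) (hι : ∀ a x, ι a * x = x * ι a) (hinj : Function.Injective ι)
    (lam : A →* ℂˣ) :
    ∃ χ : X → ℂ, IsIrrCharacter X χ ∧ ∀ a g, χ (ι a * g) = (lam a : ℂ) * χ g := by
  classical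
  have := finite_irrCharacter (G := X)
  letI : Fintype (IrrCharacter X) := Fintype.ofFinite _
  by_contra hno
  push Not at hno
  have h1 : ∀ χ : IrrCharacter X, ∑ a : A, (lam a : ℂ) * conj ((χ : X → ℂ) (ι a)) = 0 := by
    intro χ
    obtain ⟨ω, hω⟩ := Cfsg.Agent.Lib.Coh.CentralChar.exists_scalar ι hι χ.2
    have hne : lam * ω⁻¹ ≠ 1 := by
      intro h
      have h2 : lam = ω := by
        refine MonoidHom.ext fun a => ?_
        have := DFunLike.congr_fun h a
        simpa [mul_inv_eq_one] using this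
      obtain ⟨a, g, h3⟩ := hno χ χ.2
      apply h3
      rw [h2]
      exact hω a g
    have h2 := sum_lam (lam * ω⁻¹) hne
    have h3 : ∀ a : A, (lam a : ℂ) * conj ((χ : X → ℂ) (ι a)) =
        conj ((χ : X → ℂ) 1) * (((lam * ω⁻¹) a : ℂˣ) : ℂ) := by
      intro a
      have h4 := hω a 1
      rw [mul_one] at h4
      rw [h4, map_mul, conj_lam]
      simp only [MonoidHom.mul_apply, MonoidHom.inv_apply, Units.val_mul, map_inv, Units.val_inv_eq_inv_val]
      ring
    simp only [h3]
    rw [← Finset.mul_sum, h2, mul_zero]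
  have h2 : ∑ a : A, (lam a : ℂ) * conj (∑ χ : IrrCharacter X, (χ : X → ℂ) (ι a) * conj ((χ : X → ℂ) 1)) =
      (Nat.card (Subgroup.centralizer ({1} : Set X)) : ℂ) := by
    have h3 : ∀ a : A, (lam a : ℂ) * conj (∑ χ : IrrCharacter X, (χ : X → ℂ) (ι a) * conj ((χ : X → ℂ) 1)) =
        if a = 1 then (Nat.card (Subgroup.centralizer ({1} : Set X)) : ℂ) else 0 := by
      intro a
      rw [sum_irr_mul_conj]
      by_cases ha : a = 1
      · subst ha
        simp
      · have h4 : ¬ IsConj (ι a) 1 := by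
          rw [isConj_one_left]
          intro h5
          exact ha (hinj (by rw [h5, map_one]))
        rw [if_neg h4, if_neg ha]
        simp
    simp only [h3]
    simp
  have h4 : ∑ a : A, (lam a : ℂ) * conj (∑ χ : IrrCharacter X, (χ : X → ℂ) (ι a) * conj ((χ : X → ℂ) 1)) = 0 := by
    simp only [map_sum, map_mul, Complex.conj_conj, Finset.mul_sum]
    rw [Finset.sum_comm]
    apply Finset.sum_eq_zero
    intro χ _
    have h5 := h1 χ
    have : ∀ a : A, (lam a : ℂ) * (conj ((χ : X → ℂ) (ι a)) * (χ : X → ℂ) 1) =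
        (χ : X → ℂ) 1 * ((lam a : ℂ) * conj ((χ : X → ℂ) (ι a))) := fun a => by ring
    simp only [this]
    rw [← Finset.mul_sum, h5, mul_zero]
  rw [h4] at h2
  have h5 : (Nat.card (Subgroup.centralizer ({1} : Set X)) : ℂ) ≠ 0 :=
    Nat.cast_ne_zero.mpr Nat.card_pos.ne'
  exact h5 h2.symm

end Generic

variable {F : Type*} [Field F] [Fintype F] [CharP F 2] {m : ℕ} (hc : Ctx F m)

/-- The image of `s ↦ θ s + s`. -/
def H1 (F : Type*) [Field F] [Fintype F] [CharP F 2] (m : ℕ) : AddSubgroup F where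
  carrier := {x | ∃ s : F, th m s + s = x}
  zero_mem' := ⟨0, by simp [th_zero]⟩
  add_mem' := by
    rintro _ _ ⟨s, rfl⟩ ⟨t, rfl⟩
    refine ⟨s + t, ?_⟩
    rw [th_add]
    ring
  neg_mem' := by
    rintro _ ⟨s, rfl⟩
    refine ⟨s, ?_⟩
    rw [CharTwo.neg_eq]

lemma mem_H1 {x : F} : x ∈ H1 F m ↔ ∃ s : F, th m s + s = x := Iff.rfl

include hc

lemma one_not_mem_H1 : (1 : F) ∉ H1 F m := by
  rintro ⟨s, hs⟩
  have h2 := congrArg (th m) hs
  rw [th_add, hc.hth, th_one] at h2
  -- `θ s = s + 1`, `s ^ 2 + θ s = 1`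
  have h3 : th m s = s + 1 := by
    have : th m s + s + s = 1 + s := by rw [hs]
    rw [add_assoc, CharTwo.add_self_eq_zero, add_zero] at this
    rw [this, add_comm]
  rw [h3] at h2
  have h4 : s * (s + 1) = 0 := by
    have h5 : s ^ 2 + (s + 1) + 1 = 1 + 1 := by rw [h2]
    rw [CharTwo.add_self_eq_zero] at h5
    calc s * (s + 1) = s ^ 2 + s := by ring
      _ = s ^ 2 + (s + (1 + 1)) := by rw [CharTwo.add_self_eq_zero, add_zero]
      _ = s ^ 2 + (s + 1) + 1 := by ring
      _ = 0 := h5
  rcases mul_eq_zero.mp h4 with h5 | h5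
  · rw [h5] at hs
    simp [th_zero] at hs
  · have h6 : s = 1 := by
      have : s + 1 + 1 = 0 + 1 := by rw [h5]
      rwa [add_assoc, CharTwo.add_self_eq_zero, add_zero, zero_add] at this
    rw [h6, th_one, CharTwo.add_self_eq_zero] at hs
    exact zero_ne_one hs

lemma mem_H1_or (d : F) : d ∈ H1 F m ∨ d + 1 ∈ H1 F m := by
  obtain ⟨c, hc'⟩ := exists_th_add hc d
  rcases hc' with h | h
  · exact Or.inl ⟨c, h⟩
  · exact Or.inr ⟨c, h⟩

/-- If multiplication by `c` preserves `H1` then `c = 1`. -/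
lemma eq_one_of_mul_mem_H1 {c : F} (hc0 : c ≠ 0) (h : ∀ x ∈ H1 F m, c * x ∈ H1 F m) : c = 1 := by
  by_contra hc1
  rcases mem_H1_or hc c with hcH | hcH
  · have hall : ∀ x : F, c * x ∈ H1 F m := by
      intro x
      rcases mem_H1_or hc x with hx | hx
      · exact h x hx
      · have h2 := h _ hx
        have h3 : c * x = c * (x + 1) + c := by
          rw [mul_add, mul_one, add_assoc, CharTwo.add_self_eq_zero, add_zero]
        rw [h3]
        exact (H1 F m).add_mem h2 hcH
    have h4 := hall c⁻¹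
    rw [mul_inv_cancel₀ hc0] at h4
    exact one_not_mem_H1 hc h4
  · have hall : ∀ x : F, (c + 1) * x ∈ H1 F m := by
      intro x
      rcases mem_H1_or hc x with hx | hx
      · have h2 := h _ hx
        rw [add_mul, one_mul]
        exact (H1 F m).add_mem h2 hx
      · have h2 := h _ hx
        have h3 : (c + 1) * x = c * (x + 1) + (x + 1) + (c + 1) := by
          have : (c + 1) * x + (c + 1) + (c + 1) = c * (x + 1) + (x + 1) + (c + 1) := by ring
          rwa [add_assoc, CharTwo.add_self_eq_zero, add_zero] at this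
        rw [h3]
        exact (H1 F m).add_mem ((H1 F m).add_mem h2 hx) hcH
    have hne : c + 1 ≠ 0 := by
      intro h5
      apply hc1
      have : c + 1 + 1 = 0 + 1 := by rw [h5]
      rwa [add_assoc, CharTwo.add_self_eq_zero, add_zero, zero_add] at this
    have h4 := hall (c + 1)⁻¹
    rw [mul_inv_cancel₀ hne] at h4
    exact one_not_mem_H1 hc h4

/-- For `a ≠ 0, 1` some commutator value is outside `H1`. -/
lemma exists_not_H1 {a : F} (ha0 : a ≠ 0) (ha1 : a ≠ 1) :
    ∃ a' : F, th m a' * a + th m a * a' ∉ H1 F m := by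
  by_contra hall
  push Not at hall
  have hth0 : th m a ≠ 0 := th_ne_zero m ha0
  have hc0 : a * th m a ≠ 0 := mul_ne_zero ha0 hth0
  have := eq_one_of_mul_mem_H1 hc hc0 (fun x hx => by
    obtain ⟨s, rfl⟩ := hx
    have h2 := hall (a * s)
    have e : th m (a * s) * a + th m a * (a * s) = a * th m a * (th m s + s) := by
      rw [th_mul]
      ring
    rwa [e] at h2)
  exact ha1 (lthl_eq_one hc this)

omit hc in
/-- The additive character with kernel `H1`. -/
noncomputable def tau (b : F) : ℂ :=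
  open scoped _root_.Classical in if b ∈ H1 F m then 1 else -1

omit hc in
lemma tau_of_mem {b : F} (h : b ∈ H1 F m) : tau (m := m) b = 1 := by
  simp [tau, h]

omit hc in
lemma tau_of_not_mem {b : F} (h : b ∉ H1 F m) : tau (m := m) b = -1 := by
  simp [tau, h]

lemma tau_add (x y : F) : tau (m := m) (x + y) = tau (m := m) x * tau (m := m) y := by
  by_cases hx : x ∈ H1 F m
  · by_cases hy : y ∈ H1 F m
    · rw [tau_of_mem hx, tau_of_mem hy, tau_of_mem ((H1 F m).add_mem hx hy), mul_one]
    · have hxy : x + y ∉ H1 F m := by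
        intro h
        apply hy
        have : y = x + (x + y) := by rw [← add_assoc, CharTwo.add_self_eq_zero, zero_add]
        rw [this]
        exact (H1 F m).add_mem hx h
      rw [tau_of_mem hx, tau_of_not_mem hy, tau_of_not_mem hxy, one_mul]
  · by_cases hy : y ∈ H1 F m
    · have hxy : x + y ∉ H1 F m := by
        intro h
        apply hx
        have : x = (x + y) + y := by rw [add_assoc, CharTwo.add_self_eq_zero, add_zero]
        rw [this]
        exact (H1 F m).add_mem h hy
      rw [tau_of_not_mem hx, tau_of_mem hy, tau_of_not_mem hxy, mul_one]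
    · have hx1 := (mem_H1_or hc x).resolve_left hx
      have hy1 := (mem_H1_or hc y).resolve_left hy
      have hxy : x + y ∈ H1 F m := by
        have : x + y = (x + 1) + (y + 1) := by
          have e : (x + 1) + (y + 1) = x + y + (1 + 1) := by ring
          rw [e, CharTwo.add_self_eq_zero, add_zero]
        rw [this]
        exact (H1 F m).add_mem hx1 hy1
      rw [tau_of_not_mem hx, tau_of_not_mem hy, tau_of_mem hxy]
      norm_num

omit hc in
lemma tau_zero : tau (m := m) (0 : F) = 1 := tau_of_mem (H1 F m).zero_mem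

lemma tau_one : tau (m := m) (1 : F) = -1 := tau_of_not_mem (one_not_mem_H1 hc)

omit hc in
lemma tau_ne_zero (b : F) : tau (m := m) b ≠ 0 := by
  by_cases h : b ∈ H1 F m
  · rw [tau_of_mem h]
    exact one_ne_zero
  · rw [tau_of_not_mem h]
    norm_num

omit hc in
lemma tau_sq (b : F) : tau (m := m) b * tau (m := m) b = 1 := by
  by_cases h : b ∈ H1 F m
  · rw [tau_of_mem h, one_mul]
  · rw [tau_of_not_mem h]
    norm_num

omit hc in
lemma conj_tau (b : F) : conj (tau (m := m) b) = tau (m := m) b := by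
  by_cases h : b ∈ H1 F m
  · rw [tau_of_mem h, map_one]
  · rw [tau_of_not_mem h]
    simp

lemma sum_tau : ∑ b : F, tau (m := m) b = 0 := by
  have h1 : ∑ b : F, tau (m := m) (b + 1) = ∑ b : F, tau (m := m) b :=
    Fintype.sum_equiv (Equiv.addRight (1 : F)) _ _ fun b => rfl
  have h2 : ∀ b : F, tau (m := m) (b + 1) = - tau (m := m) b := by
    intro b
    rw [tau_add hc, tau_one hc]
    ring
  simp only [h2, Finset.sum_neg_distrib] at h1
  have h3 : (2 : ℂ) * ∑ b : F, tau (m := m) b = 0 := by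
    linear_combination -h1
  simpa using h3

/-- The additive character as a homomorphism. -/
noncomputable def tauHom : Multiplicative F →* ℂˣ where
  toFun b := Units.mk0 (tau (m := m) (Multiplicative.toAdd b)) (tau_ne_zero _)
  map_one' := by
    apply Units.ext
    simp [tau_zero]
  map_mul' := by
    intro x y
    apply Units.ext
    simp [tau_add hc]

lemma coe_tauHom (b : F) : ((tauHom hc (Multiplicative.ofAdd b) : ℂˣ) : ℂ) = tau (m := m) b := rfl

/-- Elements of `U` in coordinates. -/
def uu (a b : F) : Usub hc := ⟨uS hc a b, uS_mem hc a b⟩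

lemma uu_mul (a b a' b' : F) : uu hc a b * uu hc a' b' = uu hc (a + a') (b + b' + th m a * a') :=
  Subtype.ext (uS_mul hc a b a' b')

lemma uu_bij : Function.Bijective (fun t : F × F => uu hc t.1 t.2) := by
  constructor
  · rintro ⟨a, b⟩ ⟨a', b'⟩ h
    have := uS_injective hc (congrArg Subtype.val h)
    exact Prod.ext this.1 this.2
  · rintro ⟨_, a, b, rfl⟩
    exact ⟨(a, b), rfl⟩

/-- Sums over `U`. -/
lemma sum_U [Fintype (Usub hc)] (f : Usub hc → ℂ) :
    ∑ u : Usub hc, f u = ∑ a : F, ∑ b : F, f (uu hc a b) := by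
  rw [← Fintype.sum_prod_type']
  exact (Fintype.sum_bijective _ (uu_bij hc) _ _ fun t => rfl).symm

/-- The central embedding. -/
def iotaZ : Multiplicative F →* Usub hc where
  toFun b := uu hc 0 (Multiplicative.toAdd b)
  map_one' := Subtype.ext (uS_zero hc)
  map_mul' := by
    intro x y
    rw [uu_mul]
    simp [th_zero]

lemma iotaZ_central (b : Multiplicative F) (g : Usub hc) : iotaZ hc b * g = g * iotaZ hc b := by
  obtain ⟨⟨a, a'⟩, rfl⟩ := (uu_bij hc).2 g
  simp only [iotaZ, MonoidHom.coe_mk, OneHom.coe_mk]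
  rw [uu_mul, uu_mul]
  simp only [th_zero, zero_mul, mul_zero, add_zero, zero_add]
  congr 1
  rw [add_comm]

lemma iotaZ_inj : Function.Injective (iotaZ hc) := by
  intro x y h
  have := uS_injective hc (congrArg Subtype.val h)
  exact this.2

/-- The value of the characters. -/
noncomputable def PhiVal (d : ℂ) (κ : ℂ) (a b : F) : ℂ :=
  open scoped _root_.Classical in
  if a = 0 then d * tau (m := m) b else if a = 1 then d * κ * tau (m := m) b else 0

/-- The existence of the two characters of `U`. -/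
theorem exists_phi [Fintype (Usub hc)] : ∃ (κ : ℂ) (φ φ' : Usub hc → ℂ), κ ^ 2 = -1 ∧ IsCharacter (Usub hc) φ ∧
    IsCharacter (Usub hc) φ' ∧
    (∀ a b, φ (uu hc a b) = PhiVal (m := m) (2 ^ m) κ a b) ∧
    (∀ a b, φ' (uu hc a b) = PhiVal (m := m) (2 ^ m) (-κ) a b) := by
  classical
  obtain ⟨χ, hχ, hlam⟩ := exists_irr_over (iotaZ hc) (iotaZ_central hc) (iotaZ_inj hc) (tauHom hc)
  have hlam' : ∀ (b : F) (g : Usub hc), χ (uu hc 0 b * g) = tau (m := m) b * χ g :=
    fun b g => hlam (Multiplicative.ofAdd b) g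
  have hchar := isCharacter_of_isIrrCharacter hχ
  have hcl := isClassFunction_of_isIrrCharacter hχ
  have hnorm := classInner_self_of_isIrr hχ
  obtain ⟨n, ρ, hirr, rfl⟩ := id hχ
  have hfin : Module.finrank ℂ (Fin n → ℂ) = n := Module.finrank_fin_fun ℂ
  have hone : ρ.character 1 = (n : ℂ) := by
    rw [Representation.char_one, hfin]
  have hn0 : (n : ℂ) ≠ 0 := by
    rw [← hone]
    obtain ⟨k, hk, hk'⟩ := exists_pos_deg_of_isIrr hχ
    rw [hk']
    exact_mod_cast hk.ne'
  -- the elements of `H1` act trivially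
  have hkill : ∀ e ∈ H1 F m, ρ (uu hc 0 e) = 1 := by
    intro e he
    rw [← Cfsg.Agent.Lib.Char.Degree.character_eq_one_iff]
    have := hlam' e 1
    rw [mul_one, tau_of_mem he, one_mul] at this
    exact this
  -- `x = uS 1 0` acts as a scalar
  set x : Usub hc := uu hc 1 0 with hx
  have hcomm : ∀ g : Usub hc, ρ x * ρ g = ρ g * ρ x := by
    intro g
    obtain ⟨⟨a, b⟩, rfl⟩ := (uu_bij hc).2 g
    simp only
    rw [← map_mul, ← map_mul]
    have e1 : x * uu hc a b = uu hc 0 (th m a + a) * (uu hc a b * x) := by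
      rw [hx, uu_mul, uu_mul, uu_mul]
      simp only [th_one, th_zero, zero_mul, one_mul, mul_one, zero_add, add_zero]
      congr 1
      · rw [add_comm]
      · have : b + a = th m a + a + (b + th m a) := by
          have e : th m a + a + (b + th m a) = b + a + (th m a + th m a) := by ring
          rw [e, CharTwo.add_self_eq_zero, add_zero]
        exact this
    rw [e1, map_mul, hkill _ ⟨a, rfl⟩, one_mul]
  obtain ⟨κ, hκ⟩ := Cfsg.Agent.Lib.Char.Complete.schur_scalar ρ hirr (ρ x) (fun g => hcomm g)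
  have hxg : ∀ g : Usub hc, ρ.character (x * g) = κ * ρ.character g := by
    intro g
    change LinearMap.trace ℂ _ (ρ (x * g)) = κ * LinearMap.trace ℂ _ (ρ g)
    rw [map_mul, hκ]
    have : (κ • LinearMap.id : (Fin n → ℂ) →ₗ[ℂ] (Fin n → ℂ)) * ρ g = κ • ρ g := by
      ext v i
      simp
    rw [this, map_smul, smul_eq_mul]
  have hκ2 : κ ^ 2 = -1 := by
    have h1 := hxg x
    have h2 := hxg 1
    rw [mul_one, hone] at h2
    rw [h2] at h1
    have h3 : x * x = uu hc 0 1 * 1 := by
      rw [mul_one, hx, uu_mul]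
      simp only [th_one, one_mul, add_zero, CharTwo.add_self_eq_zero, zero_add]
    rw [h3, hlam', tau_one hc, hone] at h1
    apply mul_right_cancel₀ hn0
    linear_combination -h1
  have hval0 : ∀ b : F, ρ.character (uu hc 0 b) = n * tau (m := m) b := by
    intro b
    have := hlam' b 1
    rw [mul_one, hone] at this
    rw [this]
    ring
  have hval1 : ∀ b : F, ρ.character (uu hc 1 b) = n * κ * tau (m := m) b := by
    intro b
    have e : uu hc 1 b = uu hc 0 b * x := by
      rw [hx, uu_mul]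
      simp only [th_zero, zero_mul, zero_add, add_zero]
    have h2 := hxg 1
    rw [mul_one, hone] at h2
    rw [e, hlam', h2]
    ring
  have hval2 : ∀ a b : F, a ≠ 0 → a ≠ 1 → ρ.character (uu hc a b) = 0 := by
    intro a b ha0 ha1
    obtain ⟨a', ha'⟩ := exists_not_H1 hc ha0 ha1
    have h1 := hcl (uu hc a b) (uu hc a' 0)
    have h2 : uu hc a' 0 * uu hc a b * (uu hc a' 0)⁻¹ =
        uu hc 0 (th m a' * a + th m a * a') * uu hc a b := by
      rw [mul_inv_eq_iff_eq_mul, uu_mul, uu_mul, uu_mul]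
      simp only [th_zero, zero_mul, zero_add, add_zero]
      congr 1
      · rw [add_comm]
      · have e : th m a' * a + th m a * a' + b + th m (a) * a' = b + th m a' * a +
            (th m a * a' + th m a * a') := by ring
        rw [e, CharTwo.add_self_eq_zero, add_zero]
    rw [h2, hlam', tau_of_not_mem ha'] at h1
    have h3 : (2 : ℂ) * ρ.character (uu hc a b) = 0 := by
      linear_combination -h1
    simpa using h3
  -- the norm
  have hκc : conj κ * κ = 1 := by
    have h1 : (κ - Complex.I) * (κ + Complex.I) = 0 := by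
      have : (κ - Complex.I) * (κ + Complex.I) = κ ^ 2 - Complex.I ^ 2 := by ring
      rw [this, hκ2, Complex.I_sq]
      ring
    rcases mul_eq_zero.mp h1 with h2 | h2
    · have h3 : κ = Complex.I := sub_eq_zero.mp h2
      rw [h3, Complex.conj_I]
      simp
    · have h3 : κ = -Complex.I := eq_neg_of_add_eq_zero_left h2
      rw [h3, map_neg, Complex.conj_I]
      simp
  have hq : ((Nat.card F : ℕ) : ℂ) = (2 ^ (2 * m + 1) : ℂ) := by
    rw [card_field_eq hc]
    push_cast
    ring
  have hsum : ∑ u : Usub hc, ρ.character u * conj (ρ.character u) =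
      2 * (2 ^ (2 * m + 1) : ℂ) * (n : ℂ) ^ 2 := by
    rw [sum_U hc]
    rw [Finset.sum_eq_add (0 : F) (1 : F) zero_ne_one]
    · have e1 : ∀ b : F, ρ.character (uu hc 0 b) * conj (ρ.character (uu hc 0 b)) = (n : ℂ) ^ 2 := by
        intro b
        rw [hval0, map_mul, conj_tau, map_natCast]
        linear_combination (n : ℂ) ^ 2 * tau_sq (m := m) b
      have e2 : ∀ b : F, ρ.character (uu hc 1 b) * conj (ρ.character (uu hc 1 b)) = (n : ℂ) ^ 2 := by
        intro b
        rw [hval1, map_mul, map_mul, conj_tau, map_natCast]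
        linear_combination (n : ℂ) ^ 2 * (conj κ * κ) * tau_sq (m := m) b + (n : ℂ) ^ 2 * hκc
      simp only [e1, e2, Finset.sum_const, Finset.card_univ, nsmul_eq_mul]
      rw [← Nat.card_eq_fintype_card, hq]
      ring
    · intro a _ h
      apply Finset.sum_eq_zero
      intro b _
      rw [hval2 a b h.1 h.2, zero_mul]
    · intro h
      exact absurd (Finset.mem_univ _) h
    · intro h
      exact absurd (Finset.mem_univ _) h
  have hn : n = 2 ^ m := by
    rw [classInner_def, hsum, card_Usub hc] at hnorm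
    push_cast at hnorm
    have hq0 : ((2 : ℂ) ^ (2 * m + 1)) ≠ 0 := pow_ne_zero _ two_ne_zero
    field_simp at hnorm
    have h1 : (2 : ℂ) * (n : ℂ) ^ 2 = (2 : ℂ) ^ (2 * m + 1) := by
      linear_combination hnorm
    have h2 : 2 * n ^ 2 = 2 ^ (2 * m + 1) := by exact_mod_cast h1
    have h3 : n ^ 2 = (2 ^ m) ^ 2 := by
      have e : 2 ^ (2 * m + 1) = 2 * (2 ^ m) ^ 2 := by rw [← pow_mul]; ring
      rw [e] at h2
      exact Nat.eq_of_mul_eq_mul_left (by norm_num) h2
    exact Nat.pow_left_injective (n := 2) (by norm_num) h3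
  have hn' : (n : ℂ) = 2 ^ m := by rw [hn]; push_cast; rfl
  refine ⟨κ, ρ.character, fun u => ρ.character u⁻¹, hκ2, hchar,
    Cfsg.Agent.Lib.Char.Basic.isCharacter_inv hchar, ?_, ?_⟩
  · intro a b
    simp only [PhiVal]
    split_ifs with h0 h1
    · rw [h0, hval0, hn']
    · rw [h1, hval1, hn']
    · exact hval2 a b h0 h1
  · intro a b
    have e : (uu hc a b)⁻¹ = uu hc a (b + th m a * a) := Subtype.ext (uS_inv hc a b)
    simp only [PhiVal, e]
    split_ifs with h0 h1
    · rw [h0, hval0, hn']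
      simp [th_zero]
    · rw [h1, hval1, hn', th_one, one_mul, tau_add hc, tau_one hc]
      ring
    · exact hval2 a _ h0 h1

end Cfsg.Agent.Lib.SzChar.UChar
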