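import Mathlib
import Cfsg.Agent.Lib.SzChar.UChar

/-!
The two irreducible characters of degree `2 ^ m (q - 1)` of the Suzuki group.
-/

set_option autoImplicit false
set_option linter.unusedSimpArgs false
set_option linter.unusedSectionVars false
set_option linter.style.haveILetI false

namespace Cfsg.Agent.Lib.SzChar.WChar

open Cfsg Cfsg.Agent.Lib.Suzuki.Core Cfsg.Agent.Lib.Suzuki.Elements
  Cfsg.Agent.Lib.Suzuki.Stab Cfsg.Agent.Lib.Suzuki.Group Cfsg.Agent.Lib.Suzuki.Simple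
  Cfsg.Agent.Lib.Suzuki.Sylow2 Cfsg.Agent.Lib.Suzuki.Count Cfsg.Agent.Lib.SzIso.OutSz
  Cfsg.Agent.Lib.SzIso.SubSz Cfsg.Agent.Lib.Suzuki.Cyc Cfsg.Agent.Lib.Suzuki.CN
  Cfsg.Agent.Lib.SuzukiX.Partition Cfsg.Agent.Lib.SuzukiX.Central Cfsg.Agent.Lib.SzIso.MaxSz
  Cfsg.Agent.Lib.Suzuki.Exc Cfsg.Agent.Lib.Suzuki.TI Cfsg.Agent.Lib.SzIso.SolSz
  Cfsg.Agent.Lib.SzChar.Gen Cfsg.Agent.Lib.Char.Induced Cfsg.Agent.Lib.Char.Ortho
  Cfsg.Agent.Lib.Char.Basic Cfsg.Agent.Lib.Char.Complete Cfsg.Agent.Lib.Char.Degree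
  Cfsg.Agent.Lib.SzChar.Tori Cfsg.Agent.Lib.SzChar.UChar
open scoped ComplexConjugate

variable {F : Type*} [Field F] [Fintype F] [CharP F 2] [DecidableEq F] {m : ℕ} (hc : Ctx F m)
  [Fintype (Sz F m)]

/-- A sum of a function constant on each of the types of elements. -/
theorem sum_const_types (V : Sz F m → ℂ) (c0 c1 c2 c3 : ℂ) (h0 : V 1 = c0) (h1 : ∀ g ∈ Y1 F m, V g = c1)
    (h2 : ∀ g, IsFPF g → V g = c2) (h3 : ∀ g, IsT g → V g = c3) :
    ∑ g, V g = c0 + ((Y1 F m).ncard : ℂ) * c1 + ((Xs F m).ncard : ℂ) * c2 +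
      ((Nat.card (Sz F m) : ℂ) - 1 - ((Y1 F m).ncard : ℂ) - ((Xs F m).ncard : ℂ)) * c3 := by
  classical
  have hpt : ∀ g : Sz F m, V g = (if g = 1 then c0 else 0) + (if g ∈ Y1 F m then c1 else 0) +
      (if g ∈ Xs F m then c2 else 0) + (if IsT g then c3 else 0) := by
    intro g
    by_cases hg : g = 1
    · subst hg
      have a1 : (1 : Sz F m) ∉ Y1 F m := fun h => h.1 rfl
      have a2 : (1 : Sz F m) ∉ Xs F m := fun h => h.1 rfl
      have a3 : ¬ IsT (1 : Sz F m) := fun h => h.1 rfl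
      simp [a1, a2, a3, h0]
    · rcases trichotomy hg with h | h | h
      · have a2 : g ∉ Xs F m := by
          intro h'
          obtain ⟨-, p, hp, -⟩ := h
          exact h'.2 p hp
        have a3 : ¬ IsT g := Y1_not_T h
        simp [hg, h, a2, a3, h1 g h]
      · have a1 : g ∉ Y1 F m := fun h' => Y1_not_T h' h
        have a2 : g ∉ Xs F m := by
          intro h'
          obtain ⟨-, p, -, -, hp, -⟩ := h
          exact h'.2 p hp
        simp [hg, h, a1, a2, h3 g h]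
      · have a1 : g ∉ Y1 F m := by
          intro h'
          obtain ⟨-, p, hp, -⟩ := h'
          exact h.2 p hp
        have a3 : ¬ IsT g := by
          intro h'
          obtain ⟨-, p, -, -, hp, -⟩ := h'
          exact h.2 p hp
        have a2 : g ∈ Xs F m := h
        simp [hg, a1, a2, a3, h2 g h]
  simp only [hpt]
  rw [Finset.sum_add_distrib, Finset.sum_add_distrib, Finset.sum_add_distrib]
  have e0 : ∑ g : Sz F m, (if g = 1 then c0 else 0) = c0 := by simp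
  have ncardY : (Finset.univ.filter (fun g : Sz F m => g ∈ Y1 F m)).card = (Y1 F m).ncard := by
    rw [← Set.ncard_coe_finset]
    congr 1
    ext g
    simp
  have ncardX : (Finset.univ.filter (fun g : Sz F m => g ∈ Xs F m)).card = (Xs F m).ncard := by
    rw [← Set.ncard_coe_finset]
    congr 1
    ext g
    simp
  have e1 : ∑ g : Sz F m, (if g ∈ Y1 F m then c1 else 0) = ((Y1 F m).ncard : ℂ) * c1 := by
    rw [Finset.sum_ite, Finset.sum_const_zero, add_zero, Finset.sum_const, ncardY, nsmul_eq_mul]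
  have e2 : ∑ g : Sz F m, (if g ∈ Xs F m then c2 else 0) = ((Xs F m).ncard : ℂ) * c2 := by
    rw [Finset.sum_ite, Finset.sum_const_zero, add_zero, Finset.sum_const, ncardX, nsmul_eq_mul]
  have hcount : ((Finset.univ.filter (fun g : Sz F m => IsT g)).card : ℂ) =
      (Nat.card (Sz F m) : ℂ) - 1 - ((Y1 F m).ncard : ℂ) - ((Xs F m).ncard : ℂ) := by
    -- the four pieces partition the group
    have hp : ∀ g : Sz F m, (1 : ℕ) = (if g = 1 then 1 else 0) + (if g ∈ Y1 F m then 1 else 0) +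
        (if g ∈ Xs F m then 1 else 0) + (if IsT g then 1 else 0) := by
      intro g
      by_cases hg : g = 1
      · subst hg
        have a1 : (1 : Sz F m) ∉ Y1 F m := fun h => h.1 rfl
        have a2 : (1 : Sz F m) ∉ Xs F m := fun h => h.1 rfl
        have a3 : ¬ IsT (1 : Sz F m) := fun h => h.1 rfl
        simp [a1, a2, a3]
      · rcases trichotomy hg with h | h | h
        · have a2 : g ∉ Xs F m := by
            intro h'
            obtain ⟨-, p, hp, -⟩ := h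
            exact h'.2 p hp
          have a3 : ¬ IsT g := Y1_not_T h
          simp [hg, h, a2, a3]
        · have a1 : g ∉ Y1 F m := fun h' => Y1_not_T h' h
          have a2 : g ∉ Xs F m := by
            intro h'
            obtain ⟨-, p, -, -, hp, -⟩ := h
            exact h'.2 p hp
          simp [hg, h, a1, a2]
        · have a1 : g ∉ Y1 F m := by
            intro h'
            obtain ⟨-, p, hp, -⟩ := h'
            exact h.2 p hp
          have a3 : ¬ IsT g := by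
            intro h'
            obtain ⟨-, p, -, -, hp, -⟩ := h'
            exact h.2 p hp
          have a2 : g ∈ Xs F m := h
          simp [hg, a1, a2, a3]
    have hs : Nat.card (Sz F m) = 1 + (Y1 F m).ncard + (Xs F m).ncard +
        (Finset.univ.filter (fun g : Sz F m => IsT g)).card := by
      rw [Nat.card_eq_fintype_card, ← Finset.card_univ, Finset.card_eq_sum_ones,
        Finset.sum_congr rfl (fun g _ => hp g)]
      rw [Finset.sum_add_distrib, Finset.sum_add_distrib, Finset.sum_add_distrib]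
      rw [Finset.sum_boole, Finset.sum_boole, Finset.sum_boole, Finset.sum_boole, ncardY, ncardX]
      have hone : (Finset.univ.filter (fun g : Sz F m => g = 1)).card = 1 :=
        Finset.card_eq_one.2 ⟨1, by ext x; simp⟩
      rw [hone]
      simp
    rw [hs]
    push_cast
    ring
  have e3 : ∑ g : Sz F m, (if IsT g then c3 else 0) =
      ((Nat.card (Sz F m) : ℂ) - 1 - ((Y1 F m).ncard : ℂ) - ((Xs F m).ncard : ℂ)) * c3 := by
    rw [Finset.sum_ite, Finset.sum_const_zero, add_zero, Finset.sum_const, nsmul_eq_mul, hcount]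
  rw [e0, e1, e2, e3]

include hc

/-- Sums over the stabilizer of infinity of functions invariant on the right under `U`. -/
lemma sum_B [Fintype (Usub hc)] (f : Sz F m → ℂ) (hf : ∀ x v, v ∈ Usub hc → f (x * v) = f x)
    (h0 : ∀ x : Sz F m, x • (infO : OO F m) ≠ infO → f x = 0) :
    ∑ x, f x = (Nat.card (Usub hc) : ℂ) * ∑ l : Fˣ, f (hS hc l) := by
  classical
  let Ψ : Fˣ × Usub hc → Sz F m := fun p => hS hc p.1 * p.2
  have hinj : Function.Injective Ψ := by
    rintro ⟨l, v⟩ ⟨l', v'⟩ h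
    have h1 : hS hc l * (v : Sz F m) = hS hc l' * (v' : Sz F m) := h
    have h2 : hS hc (l'⁻¹ * l) = (v' : Sz F m) * (v : Sz F m)⁻¹ := by
      rw [← hS_mul, ← hS_inv, eq_mul_inv_iff_mul_eq, mul_assoc, h1]
      group
    have h3 : hS hc (l'⁻¹ * l) ∈ Usub hc := by
      rw [h2]
      exact mul_mem v'.2 (inv_mem v.2)
    have h4 : hS hc (l'⁻¹ * l) = 1 := by
      by_contra hne
      have h5 := fix_Usub hc h3 hne (p := ptO 0 0) (Subtype.ext (hS_smul_zero hc _))
      exact infO_ne_zero h5.symm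
    have h5 : l'⁻¹ * l = 1 := hS_injective hc (by rw [h4, hS_one])
    have h6 : l = l' := by
      have := inv_mul_eq_one.mp h5
      exact this.symm
    subst h6
    have h7 : v = v' := Subtype.ext (mul_left_cancel h1)
    rw [h7]
  have himg : Finset.univ.image Ψ = Finset.univ.filter (fun x : Sz F m => x • (infO : OO F m) = infO) := by
    ext x
    simp only [Finset.mem_image, Finset.mem_univ, true_and, Finset.mem_filter]
    constructor
    · rintro ⟨⟨l, v⟩, rfl⟩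
      change (hS hc l * (v : Sz F m)) • (infO : OO F m) = infO
      rw [mul_smul, smul_infO_of_mem hc v.2]
      exact Subtype.ext (hS_smul_inf hc l)
    · intro hx
      have hx' : x • suzukiPointInfinity F = suzukiPointInfinity F := congrArg Subtype.val hx
      obtain ⟨a, b, l, hab⟩ := stab_inf_decomp hc hx'
      have hfix : (hS hc l)⁻¹ • suzukiPointInfinity F = suzukiPointInfinity F := by
        rw [inv_smul_eq_iff, hS_smul_inf]
      have hmem := conj_mem_Usub_of_fix hc hfix (uS_mem hc a b)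
      refine ⟨(l, ⟨_, hmem⟩), ?_⟩
      change hS hc l * ((hS hc l)⁻¹ * uS hc a b * (hS hc l)⁻¹⁻¹) = x
      rw [hab]
      group
  have e1 : ∑ x, f x = ∑ x ∈ Finset.univ.filter (fun x : Sz F m => x • (infO : OO F m) = infO), f x := by
    symm
    apply Finset.sum_subset (Finset.subset_univ _)
    intro x _ hx
    apply h0
    simpa using hx
  rw [e1, ← himg, Finset.sum_image (fun a _ b _ h => hinj h), Fintype.sum_prod_type]
  have e2 : ∀ l : Fˣ, ∑ v : Usub hc, f (Ψ (l, v)) = (Nat.card (Usub hc) : ℂ) * f (hS hc l) := by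
    intro l
    have : ∀ v : Usub hc, f (Ψ (l, v)) = f (hS hc l) := fun v => hf _ _ v.2
    simp only [this, Finset.sum_const, Finset.card_univ, nsmul_eq_mul]
    rw [Nat.card_eq_fintype_card]
  simp only [e2]
  rw [Finset.mul_sum]

/-- The function induced from `U`. -/
noncomputable def JJ (φ : Usub hc → ℂ) : Sz F m → ℂ := indFun (Usub hc) φ

lemma JJ_U [Fintype (Usub hc)] {φ : Usub hc → ℂ} (hφ : IsClassFunction (Usub hc) φ) {u : Sz F m} (hu : u ∈ Usub hc)
    (h1 : u ≠ 1) : JJ hc φ u = ∑ l : Fˣ, extendByZero (Usub hc) φ ((hS hc l)⁻¹ * u * hS hc l) := by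
  rw [JJ, indFun_apply]
  rw [sum_B hc (fun x => extendByZero (Usub hc) φ (x⁻¹ * u * x))]
  · rw [← mul_assoc, inv_mul_cancel₀ (card_subgroup_ne_zero _), one_mul]
  · intro x v hv
    have := extendByZero_conj_of_isClassFunction (Usub hc) φ hφ ⟨v, hv⟩⁻¹ (x⁻¹ * u * x)
    simp only [Subgroup.coe_inv, inv_inv] at this
    beta_reduce
    rw [← this]
    congr 1
    group
  · intro x hx
    apply extendByZero_of_not_mem
    intro hm
    apply hx
    have h2 : x⁻¹ * u * x⁻¹⁻¹ ∈ Usub hc := by simpa using hm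
    have h3 := fix_of_Usub_conj hc hu h1 h2
    rw [inv_smul_eq_iff] at h3
    exact h3.symm

/-- A character with the prescribed values. -/
structure PhiData (κ : ℂ) (φ : Usub hc → ℂ) : Prop where
  char : IsCharacter (Usub hc) φ
  val : ∀ a b, φ (uu hc a b) = PhiVal (m := m) (2 ^ m) κ a b

variable {hc}

lemma PhiData.ext_uS {κ : ℂ} {φ : Usub hc → ℂ} (h : PhiData hc κ φ) (a b : F) :
    extendByZero (Usub hc) φ (uS hc a b) = PhiVal (m := m) (2 ^ m) κ a b := by
  rw [extendByZero_of_mem _ _ (uS_mem hc a b)]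
  exact h.val a b

variable (hc)

/-- The values of the induced function. -/
noncomputable def gam (κ : ℂ) (a b : F) : ℂ :=
  open scoped _root_.Classical in
  if a = 0 then -(2 : ℂ) ^ m else (2 : ℂ) ^ m * κ * tau (m := m) (a⁻¹ * th m a⁻¹ * b)

lemma hS_inv_conj (l : Fˣ) (a b : F) : (hS hc l)⁻¹ * uS hc a b * hS hc l =
    uS hc ((l⁻¹ : Fˣ) * a) (((l⁻¹ : Fˣ) : F) * th m ((l⁻¹ : Fˣ) : F) * b) := by
  have := hS_conj_uS hc l⁻¹ a b
  rw [← hS_inv, inv_inv] at this
  exact this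

lemma sum_units (f : F → ℂ) : ∑ x : F, f x = f 0 + ∑ y : Fˣ, f (y : F) := by
  classical
  rw [← Finset.add_sum_erase Finset.univ f (Finset.mem_univ (0 : F))]
  congr 1
  symm
  refine Finset.sum_bij (fun y _ => (y : F)) ?_ ?_ ?_ ?_
  · intro y _
    simp
  · intro a _ b _ hab
    exact Units.ext hab
  · intro b hb
    have hb0 : b ≠ 0 := by simpa using hb
    exact ⟨Units.mk0 b hb0, Finset.mem_univ _, rfl⟩
  · intro a _
    rfl

lemma sum_tau_units {b : F} (hb : b ≠ 0) :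
    ∑ l : Fˣ, tau (m := m) ((l : F) * th m (l : F) * b) = -1 := by
  classical
  have hth : ∀ l : Fˣ, th m (l : F) ≠ 0 := fun l => th_ne_zero m l.ne_zero
  let g : Fˣ → Fˣ := fun l => Units.mk0 ((l : F) * th m (l : F) * b)
    (mul_ne_zero (mul_ne_zero l.ne_zero (hth l)) hb)
  have hinj : Function.Injective g := by
    intro l l' h
    have h1 : (l : F) * th m (l : F) * b = (l' : F) * th m (l' : F) * b := congrArg Units.val h
    have h2 : (l : F) * th m (l : F) = (l' : F) * th m (l' : F) := mul_right_cancel₀ hb h1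
    have h3 : ((l : F) / l') * th m ((l : F) / l') = 1 := by
      rw [div_eq_mul_inv, th_mul, th_inv]
      have h4 := hth l'
      have h5 := l'.ne_zero
      field_simp
      rw [h2]
    have h4 := lthl_eq_one hc h3
    apply Units.ext
    exact (div_eq_one_iff_eq l'.ne_zero).mp h4
  have hbij : Function.Bijective g := Finite.injective_iff_bijective.mp hinj
  have h1 : ∑ l : Fˣ, tau (m := m) ((l : F) * th m (l : F) * b) = ∑ y : Fˣ, tau (m := m) (y : F) :=
    Fintype.sum_bijective g hbij _ _ fun l => rfl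
  have h2 := sum_units (hc := hc) (tau (m := m) (F := F))
  rw [sum_tau hc, tau_zero] at h2
  rw [h1]
  linear_combination -h2

/-- The values of the induced function on `U`. -/
theorem JJ_uS [Fintype (Usub hc)] {κ : ℂ} {φ : Usub hc → ℂ} (h : PhiData hc κ φ) {a b : F} (hab : uS hc a b ≠ 1) :
    JJ hc φ (uS hc a b) = gam (m := m) κ a b := by
  classical
  rw [JJ_U hc (Cfsg.Agent.Lib.Char.Basic.isClassFunction_of_isCharacter h.char) (uS_mem hc a b) hab]
  simp only [hS_inv_conj, h.ext_uS]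
  -- change of variable
  have e1 : ∑ l : Fˣ, PhiVal (m := m) (2 ^ m) κ (((l⁻¹ : Fˣ) : F) * a)
        (((l⁻¹ : Fˣ) : F) * th m ((l⁻¹ : Fˣ) : F) * b) =
      ∑ l : Fˣ, PhiVal (m := m) (2 ^ m) κ ((l : F) * a) ((l : F) * th m (l : F) * b) :=
    Fintype.sum_equiv (Equiv.inv Fˣ) _ _ fun l => rfl
  rw [e1]
  by_cases ha : a = 0
  · subst ha
    have hb : b ≠ 0 := by
      rintro rfl
      exact hab (uS_zero hc)
    simp only [PhiVal, mul_zero, if_true]
    rw [← Finset.mul_sum, sum_tau_units hc hb]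
    simp [gam]
  · let u : Fˣ := Units.mk0 a ha
    rw [Finset.sum_eq_single u⁻¹]
    · have e2 : ((u⁻¹ : Fˣ) : F) = a⁻¹ := by simp [u]
      rw [e2, inv_mul_cancel₀ ha]
      simp [PhiVal, gam, ha]
    · intro l _ hl
      have h1 : (l : F) * a ≠ 0 := mul_ne_zero l.ne_zero ha
      have h2 : (l : F) * a ≠ 1 := by
        intro h3
        apply hl
        apply Units.ext
        have e2 : ((u⁻¹ : Fˣ) : F) = a⁻¹ := by simp [u]
        rw [e2]
        exact eq_inv_of_mul_eq_one_left h3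
      simp [PhiVal, h1, h2]
    · intro h1
      exact absurd (Finset.mem_univ _) h1

/-- The induced function vanishes off the conjugates of `U`. -/
lemma JJ_of_not_Y1 (φ : Usub hc → ℂ) {g : Sz F m} (h1 : g ≠ 1) (hg : g ∉ Y1 F m) : JJ hc φ g = 0 := by
  rw [JJ, indFun_apply]
  apply mul_eq_zero_of_right
  apply Finset.sum_eq_zero
  intro x _
  apply extendByZero_of_not_mem
  intro hm
  have hne : x⁻¹ * g * x ≠ 1 := by
    intro h
    apply h1
    have e : g = x * (x⁻¹ * g * x) * x⁻¹ := by group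
    rw [e, h]
    group
  have h2 := mem_Y1_of_mem_Usub hc hm hne
  have h3 := Y1_conj h2 x
  have e : x * (x⁻¹ * g * x) * x⁻¹ = g := by group
  rw [e] at h3
  exact hg h3

lemma JJ_one {κ : ℂ} {φ : Usub hc → ℂ} (h : PhiData hc κ φ) :
    JJ hc φ 1 = (((2 ^ (2 * m + 1)) ^ 2 + 1) * (2 ^ (2 * m + 1) - 1) : ℕ) * (2 : ℂ) ^ m := by
  rw [JJ, indFun_one, index_Usub hc]
  congr 1
  have e : (1 : Usub hc) = uu hc 0 0 := Subtype.ext (uS_zero hc).symm
  rw [e, h.val]
  simp [PhiVal, tau_zero]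

/-- The generalized character. -/
noncomputable def WW (g₁ g₂ : Sz F m) (φ : Usub hc → ℂ) : Sz F m → ℂ := II g₁ - II g₂ + JJ hc φ

lemma isGen_II (a : Sz F m) : IsGeneralizedCharacter (Sz F m) (II a) :=
  Cfsg.Agent.Lib.Char.GenLattice.isGenChar_of_isCharacter (isChar_II hc a)

lemma isGen_WW (g₁ g₂ : Sz F m) {φ : Usub hc → ℂ} (hφ : IsCharacter (Usub hc) φ) :
    IsGeneralizedCharacter (Sz F m) (WW hc g₁ g₂ φ) := by
  apply Cfsg.Agent.Lib.Char.GenLattice.isGenChar_add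
  · exact Cfsg.Agent.Lib.Char.GenLattice.isGenChar_sub (isGen_II hc g₁) (isGen_II hc g₂)
  · exact Cfsg.Agent.Lib.Char.GenLattice.isGenChar_of_isCharacter
      (Cfsg.Agent.Lib.Char.IndRep.isCharacter_indFun _ hφ)

variable {g₁ g₂ : Sz F m} (ht : TData g₁ g₂)

include ht

lemma WW_Y1 (φ : Usub hc → ℂ) {g : Sz F m} (hg : g ∈ Y1 F m) : WW hc g₁ g₂ φ g = JJ hc φ g := by
  simp only [WW, Pi.add_apply, Pi.sub_apply]
  rw [II_Y1 hc ht.h₁ hg, II_Y1 hc ht.h₂ hg]
  ring

lemma WW_T (φ : Usub hc → ℂ) {g : Sz F m} (hg : IsT g) : WW hc g₁ g₂ φ g = 0 := by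
  simp only [WW, Pi.add_apply, Pi.sub_apply]
  rw [II_T hc ht.h₁ hg, II_T hc ht.h₂ hg, JJ_of_not_Y1 hc φ hg.1 (fun h => Y1_not_T h hg)]
  ring

lemma not_Y1_of_fpf {g : Sz F m} (hg : IsFPF g) : g ∉ Y1 F m := by
  rintro ⟨-, p, hp, -⟩
  exact hg.2 p hp

lemma WW_X₁ (φ : Usub hc → ℂ) {g : Sz F m} (hg : g ∈ Xg g₁) : WW hc g₁ g₂ φ g = 1 := by
  have hF := Xg_subset hc ht.h₁ hg
  simp only [WW, Pi.add_apply, Pi.sub_apply]
  rw [II_self hc ht.h₁ hg, II_other hc ht.h₂ ht.h₁ ht.dis.symm hg,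
    JJ_of_not_Y1 hc φ hF.1 (not_Y1_of_fpf hc ht hF)]
  ring

lemma WW_X₂ (φ : Usub hc → ℂ) {g : Sz F m} (hg : g ∈ Xg g₂) : WW hc g₁ g₂ φ g = -1 := by
  have hF := Xg_subset hc ht.h₂ hg
  simp only [WW, Pi.add_apply, Pi.sub_apply]
  rw [II_self hc ht.h₂ hg, II_other hc ht.h₁ ht.h₂ ht.dis hg,
    JJ_of_not_Y1 hc φ hF.1 (not_Y1_of_fpf hc ht hF)]
  ring

/-- The degree of `W`. -/
lemma WW_one {κ : ℂ} {φ : Usub hc → ℂ} (h : PhiData hc κ φ) :
    WW hc g₁ g₂ φ 1 = ((2 ^ (2 * m + 1) - 1 : ℕ) : ℂ) * (2 : ℂ) ^ m := by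
  simp only [WW, Pi.add_apply, Pi.sub_apply]
  rw [II_one hc, II_one hc, JJ_one hc h]
  have hN₁ := card_NN_fpf hc ht.h₁
  have hN₂ := card_NN_fpf hc ht.h₂
  rw [ht.c₁] at hN₁
  rw [ht.c₂] at hN₂
  have hi₁ := Subgroup.card_mul_index (NN g₁)
  have hi₂ := Subgroup.card_mul_index (NN g₂)
  rw [hN₁, card_Sz hc] at hi₁
  rw [hN₂, card_Sz hc] at hi₂
  have hprod := prod_eq hc.hm
  set q := 2 ^ (2 * m + 1) with hq
  set r := 2 ^ (m + 1) with hr
  have hrq : r + 3 ≤ q := s_lt hc.hm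
  have hq2 : 2 * q = r * r := by
    have := s_sq m
    rw [← hr, ← hq] at this
    nlinarith
  -- write in `ℂ`
  obtain ⟨b, hb⟩ : ∃ b, q = b + r := ⟨q - r, by omega⟩
  have e1 : q - r + 1 = b + 1 := by omega
  rw [e1] at hprod hi₂
  have ha₁ : (((q + r + 1 : ℕ) : ℂ)) ≠ 0 := by
    exact_mod_cast (by omega : q + r + 1 ≠ 0)
  have ha₂ : (((b + 1 : ℕ) : ℂ)) ≠ 0 := by
    exact_mod_cast (by omega : b + 1 ≠ 0)
  have hprodc : ((q : ℂ) + r + 1) * ((b : ℂ) + 1) = (q : ℂ) ^ 2 + 1 := by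
    exact_mod_cast hprod
  have hqc : (q : ℂ) = (b : ℂ) + r := by exact_mod_cast hb
  have hi₁c : 4 * ((q : ℂ) + r + 1) * ((NN g₁).index : ℂ) = (q : ℂ) ^ 2 * ((q : ℂ) ^ 2 + 1) * (((q - 1 : ℕ)) : ℂ) := by
    exact_mod_cast hi₁
  have hi₂c : 4 * ((b : ℂ) + 1) * ((NN g₂).index : ℂ) = (q : ℂ) ^ 2 * ((q : ℂ) ^ 2 + 1) * (((q - 1 : ℕ)) : ℂ) := by
    exact_mod_cast hi₂
  have hrc : (r : ℂ) = 2 * (2 : ℂ) ^ m := by
    rw [hr]
    push_cast
    ring
  have hq2c : 2 * (q : ℂ) = (r : ℂ) * r := by exact_mod_cast hq2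
  push_cast
  have ha₁' : ((q : ℂ) + r + 1) ≠ 0 := by exact_mod_cast ha₁
  have ha₂' : ((b : ℂ) + 1) ≠ 0 := by exact_mod_cast ha₂
  have hI₁ : ((NN g₁).index : ℂ) = (q : ℂ) ^ 2 * ((b : ℂ) + 1) * (((q - 1 : ℕ)) : ℂ) / 4 := by
    field_simp
    rw [← hprodc] at hi₁c
    apply mul_left_cancel₀ ha₁'
    linear_combination hi₁c
  have hI₂ : ((NN g₂).index : ℂ) = (q : ℂ) ^ 2 * ((q : ℂ) + r + 1) * (((q - 1 : ℕ)) : ℂ) / 4 := by
    field_simp
    rw [← hprodc] at hi₂c
    apply mul_left_cancel₀ ha₂'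
    linear_combination hi₂c
  rw [hI₁, hI₂]
  linear_combination (-(q : ℂ) ^ 2 * ((q - 1 : ℕ) : ℂ) / 4) * hqc +
    (-(q : ℂ) ^ 2 * ((q - 1 : ℕ) : ℂ) / 2) * hrc

lemma conj_pow_two (n : ℕ) : conj ((2 : ℂ) ^ n) = 2 ^ n := by
  have e : (2 : ℂ) ^ n = ((2 ^ n : ℕ) : ℂ) := by
    push_cast
    rfl
  rw [e, map_natCast]

/-- The norm of the values on `U`. -/
lemma gam_norm {κ : ℂ} (hκ : κ ^ 2 = -1) (a b : F) :
    gam (m := m) κ a b * conj (gam (m := m) κ a b) = ((2 : ℂ) ^ m) ^ 2 := by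
  have hκc : conj κ * κ = 1 := by
    have h1 : (κ - Complex.I) * (κ + Complex.I) = 0 := by
      have : (κ - Complex.I) * (κ + Complex.I) = κ ^ 2 - Complex.I ^ 2 := by ring
      rw [this, hκ, Complex.I_sq]
      ring
    rcases mul_eq_zero.mp h1 with h2 | h2
    · have h3 : κ = Complex.I := sub_eq_zero.mp h2
      rw [h3, Complex.conj_I]
      simp
    · have h3 : κ = -Complex.I := eq_neg_of_add_eq_zero_left h2
      rw [h3, map_neg, Complex.conj_I]
      simp
  simp only [gam]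
  split_ifs with h
  · rw [map_neg, conj_pow_two hc ht]
    ring
  · rw [map_mul, map_mul, conj_tau, conj_pow_two hc ht]
    linear_combination ((2 : ℂ) ^ m) ^ 2 * (conj κ * κ) * tau_sq (m := m) (a⁻¹ * th m a⁻¹ * b) +
      ((2 : ℂ) ^ m) ^ 2 * hκc

lemma isClass_WW {φ : Usub hc → ℂ} (hφ : IsCharacter (Usub hc) φ) :
    IsClassFunction (Sz F m) (WW hc g₁ g₂ φ) :=
  Cfsg.Agent.Lib.Char.GenLattice.isClassFunction_of_isGenChar (isGen_WW hc g₁ g₂ hφ)

/-- Values on `Y1`: the absolute value is `2 ^ m`. -/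
lemma WW_Y1_norm [Fintype (Usub hc)] {κ : ℂ} {φ : Usub hc → ℂ} (h : PhiData hc κ φ) (hκ : κ ^ 2 = -1)
    {g : Sz F m} (hg : g ∈ Y1 F m) :
    WW hc g₁ g₂ φ g * conj (WW hc g₁ g₂ φ g) = ((2 : ℂ) ^ m) ^ 2 := by
  obtain ⟨t, ht'⟩ := Y1_conj_mem hc hg
  have hcl := isClass_WW hc ht h.char
  have e : WW hc g₁ g₂ φ g = WW hc g₁ g₂ φ (t⁻¹ * g * t) := by
    have := hcl g t⁻¹
    rw [inv_inv] at this
    exact this.symm
  rw [e]
  obtain ⟨a, b, hab⟩ := ht'
  rw [hab]
  have hne : uS hc a b ≠ 1 := by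
    rw [← hab]
    intro h1
    apply hg.1
    have e2 : g = t * (t⁻¹ * g * t) * t⁻¹ := by group
    rw [e2, h1]
    group
  rw [WW_Y1 hc ht φ (mem_Y1_of_mem_Usub hc (uS_mem hc a b) hne), JJ_uS hc h hne]
  exact gam_norm hc ht hκ a b

/-- The norm of `W`. -/
theorem WW_norm [Fintype (Usub hc)] {κ : ℂ} {φ : Usub hc → ℂ} (h : PhiData hc κ φ) (hκ : κ ^ 2 = -1) :
    classInner (WW hc g₁ g₂ φ) (WW hc g₁ g₂ φ) = 1 := by
  rw [classInner_def]
  rw [sum_const_types (fun g => WW hc g₁ g₂ φ g * conj (WW hc g₁ g₂ φ g))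
    ((((2 ^ (2 * m + 1) - 1 : ℕ) : ℂ) * (2 : ℂ) ^ m) ^ 2) (((2 : ℂ) ^ m) ^ 2) 1 0]
  · rw [card_Y1 hc, card_Sz hc]
    have hX := card_Xs hc
    have hq1 : 1 ≤ 2 ^ (2 * m + 1) := Nat.one_le_two_pow
    have hq2 : 1 ≤ (2 ^ (2 * m + 1)) ^ 2 := Nat.one_le_pow _ _ (by positivity)
    have hXc : 2 * ((Xs F m).ncard : ℂ) = ((2 : ℂ) ^ (2 * m + 1)) ^ 3 * ((2 : ℂ) ^ (2 * m + 1) - 1) ^ 2 := by
      have := congrArg (Nat.cast (R := ℂ)) hX
      push_cast [Nat.cast_sub hq1] at this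
      exact this
    push_cast [Nat.cast_sub hq1, Nat.cast_sub hq2]
    have hQ : ((2 : ℂ) ^ (2 * m + 1)) = 2 * ((2 : ℂ) ^ m) ^ 2 := by
      rw [← pow_mul]
      ring
    set Q : ℂ := (2 : ℂ) ^ (2 * m + 1) with hQdef
    set d : ℂ := (2 : ℂ) ^ m with hd
    have hQ0 : Q ≠ 0 := pow_ne_zero _ two_ne_zero
    have hQ1 : Q - 1 ≠ 0 := by
      intro h0
      have h1 : Q = 1 := sub_eq_zero.mp h0
      have h2 : (2 : ℕ) ^ (2 * m + 1) = 1 := by
        have : ((2 ^ (2 * m + 1) : ℕ) : ℂ) = ((1 : ℕ) : ℂ) := by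
          push_cast
          exact h1
        exact_mod_cast this
      have h3 : 1 < 2 ^ (2 * m + 1) := Nat.one_lt_two_pow (by omega)
      omega
    have hQ2 : Q ^ 2 + 1 ≠ 0 := by
      intro h0
      have h2 : ((2 ^ (2 * m + 1) : ℕ) ^ 2 + 1 : ℕ) = 0 := by
        have : (((2 ^ (2 * m + 1) : ℕ) ^ 2 + 1 : ℕ) : ℂ) = ((0 : ℕ) : ℂ) := by
          push_cast
          exact h0
        exact_mod_cast this
      omega
    field_simp
    have hd2 : d ^ 2 = Q / 2 := by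
      rw [hQ]
      ring
    have hX2 : ((Xs F m).ncard : ℂ) = Q ^ 3 * (Q - 1) ^ 2 / 2 := by
      rw [eq_div_iff two_ne_zero]
      linear_combination hXc
    rw [hX2]
    rw [hd2]
    field_simp
    ring
  · rw [WW_one hc ht h, map_mul, map_natCast, conj_pow_two hc ht]
    ring
  · intro g hg
    exact WW_Y1_norm hc ht h hκ hg
  · intro g hg
    have h1 : g ∈ Xs F m := hg
    rw [ht.cov] at h1
    rcases h1 with h1 | h1
    · rw [WW_X₁ hc ht φ h1]
      simp
    · rw [WW_X₂ hc ht φ h1]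
      simp
  · intro g hg
    rw [WW_T hc ht φ hg]
    simp

/-- `W` is irreducible. -/
theorem isIrr_WW [Fintype (Usub hc)] {κ : ℂ} {φ : Usub hc → ℂ} (h : PhiData hc κ φ) (hκ : κ ^ 2 = -1) :
    IsIrrCharacter (Sz F m) (WW hc g₁ g₂ φ) := by
  have hq : 1 < 2 ^ (2 * m + 1) := Nat.one_lt_two_pow (by omega)
  refine irr_of_norm_one (isGen_WW hc g₁ g₂ h.char) (WW_norm hc ht h hκ)
    (n := (2 ^ (2 * m + 1) - 1) * 2 ^ m) (Nat.mul_pos (by omega) (by positivity)) ?_
  rw [WW_one hc ht h]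
  push_cast
  ring

end Cfsg.Agent.Lib.SzChar.WChar
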