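import Mathlib
import Cfsg.Agent.Lib.SzChar.WChar
import Cfsg.Agent.Lib.Char.Orbital

/-!
The irreducible characters of the Suzuki group: the Steinberg character, the characters `W`
and the three families `X`, `Y`, `Z`, and the fact that this is the whole list.
-/

set_option autoImplicit false
set_option linter.unusedSimpArgs false
set_option linter.unusedSectionVars false
set_option linter.style.haveILetI false

namespace Cfsg.Agent.Lib.SzChar.Table

open Cfsg Cfsg.Agent.Lib.Suzuki.Core Cfsg.Agent.Lib.Suzuki.Elements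
  Cfsg.Agent.Lib.Suzuki.Stab Cfsg.Agent.Lib.Suzuki.Group Cfsg.Agent.Lib.Suzuki.Simple
  Cfsg.Agent.Lib.Suzuki.Sylow2 Cfsg.Agent.Lib.Suzuki.Count Cfsg.Agent.Lib.SzIso.OutSz
  Cfsg.Agent.Lib.SzIso.SubSz Cfsg.Agent.Lib.Suzuki.Cyc Cfsg.Agent.Lib.Suzuki.CN
  Cfsg.Agent.Lib.SuzukiX.Partition Cfsg.Agent.Lib.SuzukiX.Central Cfsg.Agent.Lib.SzIso.MaxSz
  Cfsg.Agent.Lib.Suzuki.Exc Cfsg.Agent.Lib.Suzuki.TI Cfsg.Agent.Lib.SzIso.SolSz
  Cfsg.Agent.Lib.SzChar.Gen Cfsg.Agent.Lib.Char.Induced Cfsg.Agent.Lib.Char.Ortho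
  Cfsg.Agent.Lib.Char.Basic Cfsg.Agent.Lib.Char.Complete Cfsg.Agent.Lib.Char.Degree
  Cfsg.Agent.Lib.SzChar.Tori Cfsg.Agent.Lib.SzChar.UChar Cfsg.Agent.Lib.SzChar.WChar
  Cfsg.Agent.Lib.Char.GenLattice Cfsg.Agent.Lib.SzIso.Fix2
open scoped ComplexConjugate

variable {F : Type*} [Field F] [Fintype F] [CharP F 2] [DecidableEq F] {m : ℕ} (hc : Ctx F m)
  [Fintype (Sz F m)]

/-- The permutation character on the ovoid. -/
noncomputable def PP : Sz F m → ℂ := fun g => (Nat.card (MulAction.fixedBy (OO F m) g) : ℂ)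

/-- The Steinberg character. -/
noncomputable def St : Sz F m → ℂ := fun g => PP g - 1

/-- The trivial character. -/
def One1 : Sz F m → ℂ := fun _ => 1

lemma conj_two_pow (n : ℕ) : conj ((2 : ℂ) ^ n) = 2 ^ n := by
  have e : (2 : ℂ) ^ n = ((2 ^ n : ℕ) : ℂ) := by
    push_cast
    rfl
  rw [e, map_natCast]

include hc

lemma isChar_PP : IsCharacter (Sz F m) (PP (F := F) (m := m)) := by
  classical
  haveI : Fintype (OO F m) := Fintype.ofFinite _
  exact Cfsg.Agent.Lib.Char.Orbital.isCharacter_permChar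

lemma isIrr_One1 : IsIrrCharacter (Sz F m) (One1 (F := F) (m := m)) := by
  have := Cfsg.Agent.Lib.Char.Linear.isIrrCharacter_of_hom (1 : Sz F m →* ℂˣ)
  have e : One1 (F := F) (m := m) = fun g => (((1 : Sz F m →* ℂˣ) g : ℂˣ) : ℂ) := by
    funext g
    simp [One1]
  rw [e]
  exact this

lemma isGen_St : IsGeneralizedCharacter (Sz F m) (St (F := F) (m := m)) :=
  isGenChar_sub (isGenChar_of_isCharacter (isChar_PP hc)) (isGenChar_of_isCharacter isCharacter_one)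

lemma St_one : St (F := F) (m := m) 1 = ((2 : ℂ) ^ (2 * m + 1)) ^ 2 := by
  simp only [St, PP]
  have h1 : Nat.card (MulAction.fixedBy (OO F m) (1 : Sz F m)) = Nat.card (OO F m) := by
    apply Nat.card_congr
    exact (Equiv.subtypeUnivEquiv (fun p => by simp))
  rw [h1, card_OO hc]
  push_cast
  ring

lemma St_Y1 {g : Sz F m} (hg : g ∈ Y1 F m) : St g = 0 := by
  obtain ⟨-, p, hp, huniq⟩ := hg
  simp only [St, PP]
  have h1 : Nat.card (MulAction.fixedBy (OO F m) g) = 1 := by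
    rw [Nat.card_eq_one_iff_unique]
    refine ⟨⟨?_⟩, ⟨⟨p, hp⟩⟩⟩
    rintro ⟨a, ha⟩ ⟨b, hb⟩
    apply Subtype.ext
    exact (huniq a ha).trans (huniq b hb).symm
  rw [h1]
  simp

lemma St_T {g : Sz F m} (hg : IsT g) : St g = 1 := by
  obtain ⟨h1, p, p', hne, hp, hp'⟩ := hg
  simp only [St, PP]
  have h2 : Nat.card (MulAction.fixedBy (OO F m) g) = 2 := by
    have e : MulAction.fixedBy (OO F m) g = {p, p'} := by
      ext w
      simp only [MulAction.mem_fixedBy, Set.mem_insert_iff, Set.mem_singleton_iff]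
      constructor
      · intro hw
        by_contra hcon
        push Not at hcon
        exact h1 (no_three hc g p p' w hne (Ne.symm hcon.2) (Ne.symm hcon.1) hp hp' hw)
      · rintro (rfl | rfl)
        · exact hp
        · exact hp'
    rw [e, Nat.card_coe_set_eq, Set.ncard_pair hne]
  rw [h2]
  norm_num

lemma St_fpf {g : Sz F m} (hg : IsFPF g) : St g = -1 := by
  simp only [St, PP]
  have h1 : Nat.card (MulAction.fixedBy (OO F m) g) = 0 := by
    have : IsEmpty (MulAction.fixedBy (OO F m) g) := ⟨fun x => hg.2 x.1 x.2⟩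
    exact Nat.card_of_isEmpty
  rw [h1]
  simp

lemma St_norm : classInner (St (F := F) (m := m)) St = 1 := by
  rw [classInner_def]
  rw [sum_const_types (fun g => St (F := F) (m := m) g * conj (St g))
    (((2 : ℂ) ^ (2 * m + 1)) ^ 2 * ((2 : ℂ) ^ (2 * m + 1)) ^ 2) 0 1 1]
  · rw [card_Y1 hc, card_Sz hc]
    have hq2 : 1 ≤ (2 ^ (2 * m + 1)) ^ 2 := Nat.one_le_pow _ _ (by positivity)
    have hq1 : 1 ≤ 2 ^ (2 * m + 1) := Nat.one_le_two_pow
    push_cast [Nat.cast_sub hq1, Nat.cast_sub hq2]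
    set Q : ℂ := (2 : ℂ) ^ (2 * m + 1) with hQdef
    have hne : (Q ^ 2 * (Q ^ 2 + 1) * (Q - 1)) ≠ 0 := by
      have : (((2 ^ (2 * m + 1)) ^ 2 * ((2 ^ (2 * m + 1)) ^ 2 + 1) * (2 ^ (2 * m + 1) - 1) : ℕ) : ℂ) ≠ 0 := by
        have h3 : 1 < 2 ^ (2 * m + 1) := Nat.one_lt_two_pow (by omega)
        apply Nat.cast_ne_zero.mpr
        have h4 : 0 < 2 ^ (2 * m + 1) - 1 := by omega
        positivity
      push_cast [Nat.cast_sub hq1] at this
      exact this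
    rw [inv_mul_eq_div, div_eq_one_iff_eq hne]
    ring
  · rw [St_one hc]
    have : conj (((2 : ℂ) ^ (2 * m + 1)) ^ 2) = ((2 : ℂ) ^ (2 * m + 1)) ^ 2 := by
      rw [map_pow, conj_two_pow]
    rw [this]
  · intro g hg
    rw [St_Y1 hc hg]
    simp
  · intro g hg
    rw [St_fpf hc hg]
    simp
  · intro g hg
    rw [St_T hc hg]
    simp

/-- The Steinberg character is irreducible. -/
theorem isIrr_St : IsIrrCharacter (Sz F m) (St (F := F) (m := m)) := by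
  refine irr_of_norm_one (isGen_St hc) (St_norm hc) (n := (2 ^ (2 * m + 1)) ^ 2) (by positivity) ?_
  rw [St_one hc]
  push_cast
  rfl

/-- The elements of the torus of type `T`. -/
lemma isT_of_mem {x a : Sz F m} (hx : IsT x) (ha : a ∈ Cz x) (ha1 : a ≠ 1) : IsT a := by
  obtain ⟨h1, p, p', hne, hp, hp'⟩ := hx
  refine ⟨ha1, p, p', hne, ?_, ?_⟩
  · have h2 := fix_of_commute hc h1 hp (mem_Cz.1 ha)
    exact h2
  · have h2 := fix_of_commute hc h1 hp' (mem_Cz.1 ha)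
    exact h2

/-- The normalizer of a torus of type `T`. -/
lemma card_NN_T {x : Sz F m} (hx : IsT x) : Nat.card (NN x) = 2 * Nat.card (Cz x) := by
  obtain ⟨h1, p, p', hne, hp, hp'⟩ := id hx
  have hCz := Cz_eq_Tpp hc h1 hne hp hp'
  have hset : ((NN x : Subgroup (Sz F m)) : Set (Sz F m)) =
      {y : Sz F m | y • p = p ∧ y • p' = p'} ∪ {y : Sz F m | y • p = p' ∧ y • p' = p} := by
    ext y
    simp only [SetLike.mem_coe, Set.mem_union, Set.mem_ofPred_eq]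
    constructor
    · intro hy
      have h2 := NN_preserves hc h1 hne hp hp' hy (w := p) (Or.inl rfl)
      have h3 := NN_preserves hc h1 hne hp hp' hy (w := p') (Or.inr rfl)
      rcases h2 with h2 | h2
      · rcases h3 with h3 | h3
        · exfalso
          apply hne
          exact smul_left_cancel y (h2.trans h3.symm)
        · exact Or.inl ⟨h2, h3⟩
      · rcases h3 with h3 | h3
        · exact Or.inr ⟨h2, h3⟩
        · exfalso
          apply hne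
          exact smul_left_cancel y (h2.trans h3.symm)
    · rintro (⟨h2, h3⟩ | ⟨h2, h3⟩)
      · exact Subgroup.le_normalizer (by rw [hCz]; exact mem_Tpp.2 ⟨h2, h3⟩)
      · rw [Subgroup.mem_normalizer_iff]
        intro z
        rw [hCz, mem_Tpp, mem_Tpp]
        have h2' : y⁻¹ • p' = p := by rw [inv_smul_eq_iff, h2]
        have h3' : y⁻¹ • p = p' := by rw [inv_smul_eq_iff, h3]
        constructor
        · rintro ⟨h4, h5⟩
          constructor
          · rw [mul_smul, mul_smul, h3', h5, h3]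
          · rw [mul_smul, mul_smul, h2', h4, h2]
        · rintro ⟨h4, h5⟩
          rw [mul_smul, mul_smul, h3'] at h4
          rw [mul_smul, mul_smul, h2'] at h5
          constructor
          · have := congrArg (fun w => y⁻¹ • w) h5
            simpa [h2'] using this
          · have := congrArg (fun w => y⁻¹ • w) h4
            simpa [h3'] using this
  have hd : Disjoint {y : Sz F m | y • p = p ∧ y • p' = p'} {y : Sz F m | y • p = p' ∧ y • p' = p} := by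
    rw [Set.disjoint_left]
    rintro y ⟨h2, -⟩ ⟨h3, -⟩
    exact hne (h2.symm.trans h3)
  have hfin : ∀ S : Set (Sz F m), S.Finite := fun S => Set.toFinite S
  have hcard : Nat.card (NN x) = (((NN x : Subgroup (Sz F m)) : Set (Sz F m))).ncard :=
    (Nat.card_coe_set_eq _).symm
  rw [hcard, hset, Set.ncard_union_eq hd (hfin _) (hfin _), ncard_two_fix hc hne, ncard_swap hc hne,
    hCz, card_Tpp hc hne]
  ring

/-- All the choices in the definition of the characters. -/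
structure Dat (hc : Ctx F m) where
  x₀ : Sz F m
  g₁ : Sz F m
  g₂ : Sz F m
  κ : ℂ
  φ₁ : Usub hc → ℂ
  φ₂ : Usub hc → ℂ
  hx₀ : IsT x₀
  ht : TData g₁ g₂
  hκ : κ ^ 2 = -1
  h₁ : PhiData hc κ φ₁
  h₂ : PhiData hc (-κ) φ₂

omit [Fintype (Sz F m)] in
theorem exists_Dat : Nonempty (Dat hc) := by
  classical
  letI : Fintype (Usub hc) := Fintype.ofFinite _
  obtain ⟨g₁, g₂, ht⟩ := exists_TData hc
  obtain ⟨κ, φ₁, φ₂, hκ, c₁, c₂, v₁, v₂⟩ := exists_phi hc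
  obtain ⟨l, hl⟩ := exists_unit_ne_one hc
  have hx₀ : IsT (hS hc l) := by
    refine ⟨fun h => hl (hS_injective hc (by rw [h, hS_one])), infO, ptO 0 0, infO_ne_zero, ?_, ?_⟩
    · exact Subtype.ext (hS_smul_inf hc l)
    · exact Subtype.ext (hS_smul_zero hc l)
  exact ⟨⟨hS hc l, g₁, g₂, κ, φ₁, φ₂, hx₀, ht, hκ, ⟨c₁, v₁⟩, ⟨c₂, v₂⟩⟩⟩

omit hc

section Combo

variable {G : Type*} [Group G] [Fintype G]

lemma inner_symm_real {a b : G → ℂ} {c : ℝ} (h : classInner a b = c) : classInner b a = c := by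
  rw [← classInner_conj, h, Complex.conj_ofReal]

lemma combo_X {Fn O S : G → ℂ} (hFF : classInner Fn Fn = 3) (hFO : classInner Fn O = -1)
    (hFS : classInner Fn S = -1) (hOO : classInner O O = 1) (hSS : classInner S S = 1)
    (hOS : classInner O S = 0) : classInner (Fn + O + S) (Fn + O + S) = 1 := by
  have hOF : classInner O Fn = -1 := by
    rw [← classInner_conj, hFO]; simp
  have hSF : classInner S Fn = -1 := by
    rw [← classInner_conj, hFS]; simp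
  have hSO : classInner S O = 0 := by
    rw [← classInner_conj, hOS]; simp
  simp only [classInner_add_left, classInner_add_right, hFF, hFO, hFS, hOO, hSS, hOS, hOF, hSF, hSO]
  norm_num

lemma combo_Y {Fn O S U V : G → ℂ} (hFF : classInner Fn Fn = 5) (hFO : classInner Fn O = -1)
    (hFS : classInner Fn S = 1) (hFU : classInner Fn U = -1) (hFV : classInner Fn V = -1)
    (hOO : classInner O O = 1) (hSS : classInner S S = 1) (hUU : classInner U U = 1)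
    (hVV : classInner V V = 1) (hOS : classInner O S = 0) (hOU : classInner O U = 0)
    (hOV : classInner O V = 0) (hSU : classInner S U = 0) (hSV : classInner S V = 0)
    (hUV : classInner U V = 0) : classInner (S - O - Fn - U - V) (S - O - Fn - U - V) = 1 := by
  have sym0 : ∀ {a b : G → ℂ}, classInner a b = 0 → classInner b a = 0 := by
    intro a b h
    rw [← classInner_conj, h]; simp
  have symN : ∀ {a b : G → ℂ}, classInner a b = -1 → classInner b a = -1 := by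
    intro a b h
    rw [← classInner_conj, h]; simp
  have symP : ∀ {a b : G → ℂ}, classInner a b = 1 → classInner b a = 1 := by
    intro a b h
    rw [← classInner_conj, h]; simp
  simp only [classInner_sub_left, classInner_sub_right, hFF, hFO, hFS, hFU, hFV, hOO, hSS, hUU, hVV,
    hOS, hOU, hOV, hSU, hSV, hUV, sym0 hOS, sym0 hOU, sym0 hOV, sym0 hSU, sym0 hSV, sym0 hUV,
    symN hFO, symP hFS, symN hFU, symN hFV]
  norm_num

lemma combo_Z {Fn O S U V : G → ℂ} (hFF : classInner Fn Fn = 5) (hFO : classInner Fn O = -1)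
    (hFS : classInner Fn S = 1) (hFU : classInner Fn U = 1) (hFV : classInner Fn V = 1)
    (hOO : classInner O O = 1) (hSS : classInner S S = 1) (hUU : classInner U U = 1)
    (hVV : classInner V V = 1) (hOS : classInner O S = 0) (hOU : classInner O U = 0)
    (hOV : classInner O V = 0) (hSU : classInner S U = 0) (hSV : classInner S V = 0)
    (hUV : classInner U V = 0) : classInner (S - O - Fn + U + V) (S - O - Fn + U + V) = 1 := by
  have sym0 : ∀ {a b : G → ℂ}, classInner a b = 0 → classInner b a = 0 := by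
    intro a b h
    rw [← classInner_conj, h]; simp
  have symN : ∀ {a b : G → ℂ}, classInner a b = -1 → classInner b a = -1 := by
    intro a b h
    rw [← classInner_conj, h]; simp
  have symP : ∀ {a b : G → ℂ}, classInner a b = 1 → classInner b a = 1 := by
    intro a b h
    rw [← classInner_conj, h]; simp
  simp only [classInner_sub_left, classInner_sub_right, classInner_add_left, classInner_add_right,
    hFF, hFO, hFS, hFU, hFV, hOO, hSS, hUU, hVV,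
    hOS, hOU, hOV, hSU, hSV, hUV, sym0 hOS, sym0 hOU, sym0 hOV, sym0 hSU, sym0 hSV, sym0 hUV,
    symN hFO, symP hFS, symP hFU, symP hFV]
  norm_num

end Combo

include hc

variable {hc} (D : Dat hc)

/-- The first character of degree `2 ^ m (q - 1)`. -/
noncomputable def Dat.W₁ : Sz F m → ℂ := WW hc D.g₁ D.g₂ D.φ₁

/-- The second character of degree `2 ^ m (q - 1)`. -/
noncomputable def Dat.W₂ : Sz F m → ℂ := WW hc D.g₁ D.g₂ D.φ₂

/-- The torus of order `q - 1`. -/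
abbrev Dat.A₀ : Subgroup (Sz F m) := Cz D.x₀
/-- The torus of order `q + r + 1`. -/
abbrev Dat.A₁ : Subgroup (Sz F m) := Cz D.g₁
/-- The torus of order `q - r + 1`. -/
abbrev Dat.A₂ : Subgroup (Sz F m) := Cz D.g₂

/-- The characters of degree `q ^ 2 + 1`. -/
noncomputable def Dat.X (lam : D.A₀ →* ℂˣ) : Sz F m → ℂ := FF D.A₀ lam + One1 + St

/-- The characters of degree `(q - 1) (q - r + 1)`. -/
noncomputable def Dat.Y (lam : D.A₁ →* ℂˣ) : Sz F m → ℂ := St - One1 - FF D.A₁ lam - D.W₁ - D.W₂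

/-- The characters of degree `(q - 1) (q + r + 1)`. -/
noncomputable def Dat.Z (lam : D.A₂ →* ℂˣ) : Sz F m → ℂ := St - One1 - FF D.A₂ lam + D.W₁ + D.W₂

theorem Dat.irr_W₁ : IsIrrCharacter (Sz F m) D.W₁ := by
  classical
  letI : Fintype (Usub hc) := Fintype.ofFinite _
  exact isIrr_WW hc D.ht D.h₁ D.hκ

theorem Dat.irr_W₂ : IsIrrCharacter (Sz F m) D.W₂ := by
  classical
  letI : Fintype (Usub hc) := Fintype.ofFinite _
  exact isIrr_WW hc D.ht D.h₂ (by rw [neg_sq]; exact D.hκ)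

lemma Dat.W₁_one : D.W₁ 1 = ((2 ^ (2 * m + 1) - 1 : ℕ) : ℂ) * (2 : ℂ) ^ m := WW_one hc D.ht D.h₁
lemma Dat.W₂_one : D.W₂ 1 = ((2 ^ (2 * m + 1) - 1 : ℕ) : ℂ) * (2 : ℂ) ^ m := WW_one hc D.ht D.h₂

lemma Dat.W₁_T {g : Sz F m} (hg : IsT g) : D.W₁ g = 0 := WW_T hc D.ht _ hg
lemma Dat.W₂_T {g : Sz F m} (hg : IsT g) : D.W₂ g = 0 := WW_T hc D.ht _ hg
lemma Dat.W₁_X₁ {g : Sz F m} (hg : g ∈ Xg D.g₁) : D.W₁ g = 1 := WW_X₁ hc D.ht _ hg
lemma Dat.W₂_X₁ {g : Sz F m} (hg : g ∈ Xg D.g₁) : D.W₂ g = 1 := WW_X₁ hc D.ht _ hg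
lemma Dat.W₁_X₂ {g : Sz F m} (hg : g ∈ Xg D.g₂) : D.W₁ g = -1 := WW_X₂ hc D.ht _ hg
lemma Dat.W₂_X₂ {g : Sz F m} (hg : g ∈ Xg D.g₂) : D.W₂ g = -1 := WW_X₂ hc D.ht _ hg

omit [DecidableEq F] in
lemma Dat.fpf₁ {g : Sz F m} (hg : g ∈ Xg D.g₁) : IsFPF g := Xg_subset hc D.ht.h₁ hg
omit [DecidableEq F] in
lemma Dat.fpf₂ {g : Sz F m} (hg : g ∈ Xg D.g₂) : IsFPF g := Xg_subset hc D.ht.h₂ hg

lemma Dat.W₁_rh : D.W₁ (rh hc) = (2 : ℂ) ^ m * D.κ := by
  classical
  letI : Fintype (Usub hc) := Fintype.ofFinite _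
  rw [Dat.W₁, WW_Y1 hc D.ht _ (Y1_rh hc), rh, JJ_uS hc D.h₁ (uS_one_ne_one hc 0)]
  simp [gam, th_one, tau_zero]

lemma Dat.W₂_rh : D.W₂ (rh hc) = -((2 : ℂ) ^ m * D.κ) := by
  classical
  letI : Fintype (Usub hc) := Fintype.ofFinite _
  rw [Dat.W₂, WW_Y1 hc D.ht _ (Y1_rh hc), rh, JJ_uS hc D.h₂ (uS_one_ne_one hc 0)]
  simp [gam, th_one, tau_zero]

include D in
lemma Dat.St_ne_One : (St : Sz F m → ℂ) ≠ One1 := by
  intro h
  have h1 := congrFun h D.g₁
  rw [St_fpf hc D.ht.h₁] at h1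
  simp only [One1] at h1
  norm_num at h1

lemma Dat.W₁_ne_One : D.W₁ ≠ One1 := by
  intro h
  have h1 := congrFun h D.x₀
  rw [D.W₁_T D.hx₀] at h1
  simp [One1] at h1

lemma Dat.W₂_ne_One : D.W₂ ≠ One1 := by
  intro h
  have h1 := congrFun h D.x₀
  rw [D.W₂_T D.hx₀] at h1
  simp [One1] at h1

lemma Dat.W₁_ne_St : D.W₁ ≠ St := by
  intro h
  have h1 := congrFun h D.x₀
  rw [D.W₁_T D.hx₀, St_T hc D.hx₀] at h1
  norm_num at h1

lemma Dat.W₂_ne_St : D.W₂ ≠ St := by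
  intro h
  have h1 := congrFun h D.x₀
  rw [D.W₂_T D.hx₀, St_T hc D.hx₀] at h1
  norm_num at h1

lemma Dat.W₁_ne_W₂ : D.W₁ ≠ D.W₂ := by
  intro h
  have h1 := congrFun h (rh hc)
  rw [D.W₁_rh, D.W₂_rh] at h1
  have hκ0 : D.κ ≠ 0 := by
    intro h0
    have := D.hκ
    rw [h0] at this
    norm_num at this
  have h2 : (2 : ℂ) * ((2 : ℂ) ^ m * D.κ) = 0 := by
    linear_combination h1
  have h3 : ((2 : ℂ) ^ m) ≠ 0 := pow_ne_zero _ two_ne_zero
  simp [hκ0, h3] at h2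

include D in
lemma Dat.isClass_St : IsClassFunction (Sz F m) (St (F := F) (m := m)) :=
  isClassFunction_of_isGenChar (isGen_St hc)

lemma Dat.isClass_W₁ : IsClassFunction (Sz F m) D.W₁ :=
  isClassFunction_of_isCharacter (isCharacter_of_isIrrCharacter D.irr_W₁)

lemma Dat.isClass_W₂ : IsClassFunction (Sz F m) D.W₂ :=
  isClassFunction_of_isCharacter (isCharacter_of_isIrrCharacter D.irr_W₂)

omit hc in
lemma isClass_One1 : IsClassFunction (Sz F m) (One1 (F := F) (m := m)) := fun _ _ => rfl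

omit [DecidableEq F] in
lemma Dat.tif₀ : TIF D.A₀ (NN D.x₀) := tif_of_odd hc D.hx₀.1 (IsT_odd hc D.hx₀)
omit [DecidableEq F] in
lemma Dat.tif₁ : TIF D.A₁ (NN D.g₁) := tif_of_odd hc D.ht.h₁.1 (odd_of_IsFPF hc D.ht.h₁)
omit [DecidableEq F] in
lemma Dat.tif₂ : TIF D.A₂ (NN D.g₂) := tif_of_odd hc D.ht.h₂.1 (odd_of_IsFPF hc D.ht.h₂)

omit hc [DecidableEq F] in
lemma mem_Xg_of_mem {g a : Sz F m} (ha : a ∈ Cz g) (h1 : a ≠ 1) : a ∈ Xg g :=
  self_subset_conjUnion ha h1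

section FF₀

variable (lam : D.A₀ →* ℂˣ) (hlam : lam ≠ 1)
include hlam

lemma Dat.F₀_self : classInner (FF D.A₀ lam) (FF D.A₀ lam) = 3 := by
  rw [inner_FF_self D.tif₀ lam hlam, card_NN_T hc D.hx₀]
  have hne : (Nat.card D.A₀ : ℂ) ≠ 0 := Nat.cast_ne_zero.mpr Nat.card_pos.ne'
  push_cast
  field_simp
  norm_num

lemma Dat.F₀_One : classInner (FF D.A₀ lam) One1 = -1 := by
  rw [inner_FF_const D.A₀ lam hlam isClass_One1 1 (fun _ _ _ => rfl)]
  simp

lemma Dat.F₀_St : classInner (FF D.A₀ lam) St = -1 := by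
  rw [inner_FF_const D.A₀ lam hlam (D.isClass_St) 1 (fun a ha h1 => St_T hc (isT_of_mem hc D.hx₀ ha h1))]
  simp

lemma Dat.F₀_W₁ : classInner (FF D.A₀ lam) D.W₁ = 0 := by
  rw [inner_FF_const D.A₀ lam hlam (D.isClass_W₁) 0 (fun a ha h1 => D.W₁_T (isT_of_mem hc D.hx₀ ha h1))]
  simp

lemma Dat.F₀_W₂ : classInner (FF D.A₀ lam) D.W₂ = 0 := by
  rw [inner_FF_const D.A₀ lam hlam (D.isClass_W₂) 0 (fun a ha h1 => D.W₂_T (isT_of_mem hc D.hx₀ ha h1))]
  simp

end FF₀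

section FF₁

variable (lam : D.A₁ →* ℂˣ) (hlam : lam ≠ 1)
include hlam

lemma Dat.F₁_self : classInner (FF D.A₁ lam) (FF D.A₁ lam) = 5 := by
  rw [inner_FF_self D.tif₁ lam hlam, card_NN_fpf hc D.ht.h₁]
  have hne : (Nat.card D.A₁ : ℂ) ≠ 0 := Nat.cast_ne_zero.mpr Nat.card_pos.ne'
  push_cast
  field_simp
  norm_num

lemma Dat.F₁_One : classInner (FF D.A₁ lam) One1 = -1 := by
  rw [inner_FF_const D.A₁ lam hlam isClass_One1 1 (fun _ _ _ => rfl)]
  simp

lemma Dat.F₁_St : classInner (FF D.A₁ lam) St = 1 := by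
  rw [inner_FF_const D.A₁ lam hlam (D.isClass_St) (-1)
    (fun a ha h1 => St_fpf hc (D.fpf₁ (mem_Xg_of_mem ha h1)))]
  simp

lemma Dat.F₁_W₁ : classInner (FF D.A₁ lam) D.W₁ = -1 := by
  rw [inner_FF_const D.A₁ lam hlam (D.isClass_W₁) 1 (fun a ha h1 => D.W₁_X₁ (mem_Xg_of_mem ha h1))]
  simp

lemma Dat.F₁_W₂ : classInner (FF D.A₁ lam) D.W₂ = -1 := by
  rw [inner_FF_const D.A₁ lam hlam (D.isClass_W₂) 1 (fun a ha h1 => D.W₂_X₁ (mem_Xg_of_mem ha h1))]
  simp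

end FF₁

section FF₂

variable (lam : D.A₂ →* ℂˣ) (hlam : lam ≠ 1)
include hlam

lemma Dat.F₂_self : classInner (FF D.A₂ lam) (FF D.A₂ lam) = 5 := by
  rw [inner_FF_self D.tif₂ lam hlam, card_NN_fpf hc D.ht.h₂]
  have hne : (Nat.card D.A₂ : ℂ) ≠ 0 := Nat.cast_ne_zero.mpr Nat.card_pos.ne'
  push_cast
  field_simp
  norm_num

lemma Dat.F₂_One : classInner (FF D.A₂ lam) One1 = -1 := by
  rw [inner_FF_const D.A₂ lam hlam isClass_One1 1 (fun _ _ _ => rfl)]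
  simp

lemma Dat.F₂_St : classInner (FF D.A₂ lam) St = 1 := by
  rw [inner_FF_const D.A₂ lam hlam (D.isClass_St) (-1)
    (fun a ha h1 => St_fpf hc (D.fpf₂ (mem_Xg_of_mem ha h1)))]
  simp

lemma Dat.F₂_W₁ : classInner (FF D.A₂ lam) D.W₁ = 1 := by
  rw [inner_FF_const D.A₂ lam hlam (D.isClass_W₁) (-1) (fun a ha h1 => D.W₁_X₂ (mem_Xg_of_mem ha h1))]
  simp

lemma Dat.F₂_W₂ : classInner (FF D.A₂ lam) D.W₂ = 1 := by
  rw [inner_FF_const D.A₂ lam hlam (D.isClass_W₂) (-1) (fun a ha h1 => D.W₂_X₂ (mem_Xg_of_mem ha h1))]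
  simp

end FF₂

include D in
lemma Dat.One_St : classInner (One1 : Sz F m → ℂ) St = 0 :=
  classInner_eq_zero_of_isIrr_of_ne (isIrr_One1 hc) (isIrr_St hc) D.St_ne_One.symm

lemma Dat.One_W₁ : classInner (One1 : Sz F m → ℂ) D.W₁ = 0 :=
  classInner_eq_zero_of_isIrr_of_ne (isIrr_One1 hc) D.irr_W₁ D.W₁_ne_One.symm

lemma Dat.One_W₂ : classInner (One1 : Sz F m → ℂ) D.W₂ = 0 :=
  classInner_eq_zero_of_isIrr_of_ne (isIrr_One1 hc) D.irr_W₂ D.W₂_ne_One.symm

lemma Dat.St_W₁ : classInner (St : Sz F m → ℂ) D.W₁ = 0 :=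
  classInner_eq_zero_of_isIrr_of_ne (isIrr_St hc) D.irr_W₁ D.W₁_ne_St.symm

lemma Dat.St_W₂ : classInner (St : Sz F m → ℂ) D.W₂ = 0 :=
  classInner_eq_zero_of_isIrr_of_ne (isIrr_St hc) D.irr_W₂ D.W₂_ne_St.symm

lemma Dat.W₁_W₂ : classInner D.W₁ D.W₂ = 0 :=
  classInner_eq_zero_of_isIrr_of_ne D.irr_W₁ D.irr_W₂ D.W₁_ne_W₂

lemma Dat.isGen_W₁ : IsGeneralizedCharacter (Sz F m) D.W₁ := isGenChar_of_isIrr D.irr_W₁
lemma Dat.isGen_W₂ : IsGeneralizedCharacter (Sz F m) D.W₂ := isGenChar_of_isIrr D.irr_W₂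
lemma isGen_One1 : IsGeneralizedCharacter (Sz F m) (One1 (F := F) (m := m)) :=
  isGenChar_of_isIrr (isIrr_One1 hc)

/-- The arithmetic for the degrees: `q ^ 2 - 2 ^ (m + 1) (q - 1) - 1`. -/
lemma deg_eq {Q d : ℂ} :
    Q ^ 2 - 1 - 2 * ((Q - 1) * d) = (Q - 1) * (Q - 2 * d + 1) := by
  ring

theorem Dat.X_one (lam : D.A₀ →* ℂˣ) : D.X lam 1 = ((((2 : ℕ) ^ (2 * m + 1)) ^ 2 + 1 : ℕ) : ℂ) := by
  simp only [Dat.X, Pi.add_apply, FF_one, St_one hc, One1]
  push_cast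
  ring

theorem Dat.Y_one (lam : D.A₁ →* ℂˣ) :
    D.Y lam 1 = (((2 ^ (2 * m + 1) - 1) * (2 ^ (2 * m + 1) - 2 ^ (m + 1) + 1) : ℕ) : ℂ) := by
  simp only [Dat.Y, Pi.sub_apply, FF_one, St_one hc, One1, D.W₁_one, D.W₂_one]
  have h1 : 1 ≤ 2 ^ (2 * m + 1) := Nat.one_le_two_pow
  have h2 : 2 ^ (m + 1) ≤ 2 ^ (2 * m + 1) := Nat.pow_le_pow_right (by norm_num) (by omega)
  push_cast [Nat.cast_sub h1, Nat.cast_sub h2]
  ring

theorem Dat.Z_one (lam : D.A₂ →* ℂˣ) :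
    D.Z lam 1 = (((2 ^ (2 * m + 1) - 1) * (2 ^ (2 * m + 1) + 2 ^ (m + 1) + 1) : ℕ) : ℂ) := by
  simp only [Dat.Z, Pi.sub_apply, Pi.add_apply, FF_one, St_one hc, One1, D.W₁_one, D.W₂_one]
  have h1 : 1 ≤ 2 ^ (2 * m + 1) := Nat.one_le_two_pow
  push_cast [Nat.cast_sub h1]
  ring

theorem Dat.irr_X (lam : D.A₀ →* ℂˣ) (hlam : lam ≠ 1) : IsIrrCharacter (Sz F m) (D.X lam) := by
  refine irr_of_norm_one (n := ((2 : ℕ) ^ (2 * m + 1)) ^ 2 + 1) ?_ ?_ (by positivity) (D.X_one lam)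
  · exact isGenChar_add (isGenChar_add (isGen_FF _ _) (isGen_One1 (hc := hc))) (isGen_St hc)
  · exact combo_X (D.F₀_self lam hlam) (D.F₀_One lam hlam) (D.F₀_St lam hlam)
      (classInner_self_of_isIrr (isIrr_One1 hc)) (St_norm hc) D.One_St

theorem Dat.irr_Y (lam : D.A₁ →* ℂˣ) (hlam : lam ≠ 1) : IsIrrCharacter (Sz F m) (D.Y lam) := by
  have h1 : 1 < 2 ^ (2 * m + 1) := Nat.one_lt_two_pow (by omega)
  have h2 : 2 ^ (m + 1) ≤ 2 ^ (2 * m + 1) := Nat.pow_le_pow_right (by norm_num) (by omega)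
  refine irr_of_norm_one (n := (2 ^ (2 * m + 1) - 1) * (2 ^ (2 * m + 1) - 2 ^ (m + 1) + 1)) ?_ ?_
    (Nat.mul_pos (Nat.sub_pos_of_lt h1) (Nat.succ_pos _)) (D.Y_one lam)
  · exact isGenChar_sub (isGenChar_sub (isGenChar_sub (isGenChar_sub (isGen_St hc) (isGen_One1 (hc := hc)))
      (isGen_FF _ _)) D.isGen_W₁) D.isGen_W₂
  · exact combo_Y (D.F₁_self lam hlam) (D.F₁_One lam hlam) (D.F₁_St lam hlam) (D.F₁_W₁ lam hlam)
      (D.F₁_W₂ lam hlam) (classInner_self_of_isIrr (isIrr_One1 hc)) (St_norm hc)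
      (classInner_self_of_isIrr D.irr_W₁) (classInner_self_of_isIrr D.irr_W₂) D.One_St D.One_W₁ D.One_W₂
      D.St_W₁ D.St_W₂ D.W₁_W₂

theorem Dat.irr_Z (lam : D.A₂ →* ℂˣ) (hlam : lam ≠ 1) : IsIrrCharacter (Sz F m) (D.Z lam) := by
  have h1 : 1 < 2 ^ (2 * m + 1) := Nat.one_lt_two_pow (by omega)
  refine irr_of_norm_one (n := (2 ^ (2 * m + 1) - 1) * (2 ^ (2 * m + 1) + 2 ^ (m + 1) + 1)) ?_ ?_
    (Nat.mul_pos (Nat.sub_pos_of_lt h1) (Nat.succ_pos _)) (D.Z_one lam)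
  · exact isGenChar_add (isGenChar_add (isGenChar_sub (isGenChar_sub (isGen_St hc) (isGen_One1 (hc := hc)))
      (isGen_FF _ _)) D.isGen_W₁) D.isGen_W₂
  · exact combo_Z (D.F₂_self lam hlam) (D.F₂_One lam hlam) (D.F₂_St lam hlam) (D.F₂_W₁ lam hlam)
      (D.F₂_W₂ lam hlam) (classInner_self_of_isIrr (isIrr_One1 hc)) (St_norm hc)
      (classInner_self_of_isIrr D.irr_W₁) (classInner_self_of_isIrr D.irr_W₂) D.One_St D.One_W₁ D.One_W₂
      D.St_W₁ D.St_W₂ D.W₁_W₂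

/-- The classification of the irreducible characters. -/
theorem Dat.classification {χ : Sz F m → ℂ} (hχ : IsIrrCharacter (Sz F m) χ) :
    χ = One1 ∨ χ = St ∨ χ = D.W₁ ∨ χ = D.W₂ ∨ (∃ lam, lam ≠ 1 ∧ χ = D.X lam) ∨
      (∃ lam, lam ≠ 1 ∧ χ = D.Y lam) ∨ (∃ lam, lam ≠ 1 ∧ χ = D.Z lam) := by
  by_contra hcon
  push Not at hcon
  obtain ⟨h1, h2, h3, h4, h5, h6, h7⟩ := hcon
  have hchar := isCharacter_of_isIrrCharacter hχ
  have z1 : classInner One1 χ = 0 := classInner_eq_zero_of_isIrr_of_ne (isIrr_One1 hc) hχ (Ne.symm h1)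
  have z2 : classInner St χ = 0 := classInner_eq_zero_of_isIrr_of_ne (isIrr_St hc) hχ (Ne.symm h2)
  have z3 : classInner D.W₁ χ = 0 := classInner_eq_zero_of_isIrr_of_ne D.irr_W₁ hχ (Ne.symm h3)
  have z4 : classInner D.W₂ χ = 0 := classInner_eq_zero_of_isIrr_of_ne D.irr_W₂ hχ (Ne.symm h4)
  obtain ⟨k₀, hk₀⟩ := card_dvd_of_orthogonal D.A₀ D.tif₀.comm hchar (fun lam hlam => by
    have h8 : classInner (D.X lam) χ = 0 :=
      classInner_eq_zero_of_isIrr_of_ne (D.irr_X lam hlam) hχ (Ne.symm (h5 lam hlam))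
    simp only [Dat.X, classInner_add_left, z1, z2] at h8
    simpa using h8)
  obtain ⟨k₁, hk₁⟩ := card_dvd_of_orthogonal D.A₁ D.tif₁.comm hchar (fun lam hlam => by
    have h8 : classInner (D.Y lam) χ = 0 :=
      classInner_eq_zero_of_isIrr_of_ne (D.irr_Y lam hlam) hχ (Ne.symm (h6 lam hlam))
    simp only [Dat.Y, classInner_sub_left, z1, z2, z3, z4] at h8
    simpa using h8)
  obtain ⟨k₂, hk₂⟩ := card_dvd_of_orthogonal D.A₂ D.tif₂.comm hchar (fun lam hlam => by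
    have h8 : classInner (D.Z lam) χ = 0 :=
      classInner_eq_zero_of_isIrr_of_ne (D.irr_Z lam hlam) hχ (Ne.symm (h7 lam hlam))
    simp only [Dat.Z, classInner_sub_left, classInner_add_left, z1, z2, z3, z4] at h8
    simpa using h8)
  -- the degree
  obtain ⟨n, hn, hn1⟩ := exists_pos_deg_of_isIrr hχ
  have hCz₀ : Nat.card D.A₀ = 2 ^ (2 * m + 1) - 1 := by
    obtain ⟨h0, p, p', hne, hp, hp'⟩ := D.hx₀
    rw [Dat.A₀, Cz_eq_Tpp hc h0 hne hp hp', card_Tpp hc hne]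
  have dv₀ : 2 ^ (2 * m + 1) - 1 ∣ n := by
    refine ⟨k₀, ?_⟩
    rw [hn1, hCz₀] at hk₀
    have : ((n : ℕ) : ℂ) = ((((2 ^ (2 * m + 1) - 1) * k₀ : ℕ)) : ℂ) := by
      rw [hk₀]
      push_cast
      ring
    exact_mod_cast this
  have dv₁ : 2 ^ (2 * m + 1) + 2 ^ (m + 1) + 1 ∣ n := by
    refine ⟨k₁, ?_⟩
    have hc₁ : Nat.card D.A₁ = _ := D.ht.c₁
    rw [hn1, hc₁] at hk₁
    have : ((n : ℕ) : ℂ) = ((((2 ^ (2 * m + 1) + 2 ^ (m + 1) + 1) * k₁ : ℕ)) : ℂ) := by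
      rw [hk₁]
      push_cast
      ring
    exact_mod_cast this
  have dv₂ : 2 ^ (2 * m + 1) - 2 ^ (m + 1) + 1 ∣ n := by
    refine ⟨k₂, ?_⟩
    have hc₂ : Nat.card D.A₂ = _ := D.ht.c₂
    rw [hn1, hc₂] at hk₂
    have : ((n : ℕ) : ℂ) = ((((2 ^ (2 * m + 1) - 2 ^ (m + 1) + 1) * k₂ : ℕ)) : ℂ) := by
      rw [hk₂]
      push_cast
      ring
    exact_mod_cast this
  have dv₃ : (2 ^ (2 * m + 1)) ^ 2 + 1 ∣ n := by
    rw [← prod_eq hc.hm]
    exact Nat.Coprime.mul_dvd_of_dvd_of_dvd (coprime_plus_minus hc.hm) dv₁ dv₂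
  have dv₄ : ((2 ^ (2 * m + 1)) ^ 2 + 1) * (2 ^ (2 * m + 1) - 1) ∣ n :=
    Nat.Coprime.mul_dvd_of_dvd_of_dvd (coprime_q2 m) dv₃ dv₀
  have hle := Nat.le_of_dvd hn dv₄
  -- the bound
  have hsq : n ^ 2 ≤ Nat.card (Sz F m) := by
    have := finite_irrCharacter (G := Sz F m)
    letI : Fintype (IrrCharacter (Sz F m)) := Fintype.ofFinite _
    have h8 := sum_charDegree_sq (G := Sz F m)
    have h9 := Finset.single_le_sum (f := fun θ : IrrCharacter (Sz F m) => charDegree (θ : Sz F m → ℂ) ^ 2)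
      (fun _ _ => Nat.zero_le _) (Finset.mem_univ (⟨χ, hχ⟩ : IrrCharacter (Sz F m)))
    rw [h8] at h9
    have h10 : charDegree χ = n := charDegree_eq_of_eq_natCast hn1
    simpa [h10] using h9
  rw [card_Sz hc] at hsq
  have hq3 : 8 ≤ 2 ^ (2 * m + 1) := by
    have h8 : 2 ^ 3 ≤ 2 ^ (2 * m + 1) := Nat.pow_le_pow_right (by norm_num) (by have := hc.hm; omega)
    simpa using h8
  obtain ⟨t, ht⟩ : ∃ t, 2 ^ (2 * m + 1) = t + 8 := ⟨2 ^ (2 * m + 1) - 8, by omega⟩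
  rw [ht] at hle hsq
  simp only [Nat.add_sub_cancel, show t + 8 - 1 = t + 7 by omega] at hle hsq
  have h9 : (((t + 8) ^ 2 + 1) * (t + 7)) ^ 2 ≤ n ^ 2 := Nat.pow_le_pow_left hle 2
  have h10 := h9.trans hsq
  nlinarith [h10, sq_nonneg t, sq_nonneg (t * t), mul_nonneg (Nat.zero_le t) (Nat.zero_le (t * t)),
    mul_nonneg (Nat.zero_le (t * t)) (Nat.zero_le (t * t))]

end Cfsg.Agent.Lib.SzChar.Table
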