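import Mathlib
import Cfsg.Agent.Lib.SzChar.Table
import Cfsg.Prelude.Def_DegreeGraph

/-!
The set of degrees of the irreducible characters of the Suzuki group.
-/

set_option autoImplicit false
set_option linter.unusedSimpArgs false
set_option linter.unusedSectionVars false
set_option linter.style.haveILetI false

namespace Cfsg.Agent.Lib.SzChar.Degrees

open Cfsg Cfsg.Agent.Lib.Suzuki.Core Cfsg.Agent.Lib.Suzuki.Elements
  Cfsg.Agent.Lib.Suzuki.Stab Cfsg.Agent.Lib.Suzuki.Group Cfsg.Agent.Lib.Suzuki.Simple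
  Cfsg.Agent.Lib.Suzuki.Sylow2 Cfsg.Agent.Lib.Suzuki.Count Cfsg.Agent.Lib.SzIso.OutSz
  Cfsg.Agent.Lib.SzIso.SubSz Cfsg.Agent.Lib.Suzuki.Cyc Cfsg.Agent.Lib.Suzuki.CN
  Cfsg.Agent.Lib.SuzukiX.Partition Cfsg.Agent.Lib.SuzukiX.Central Cfsg.Agent.Lib.SzIso.MaxSz
  Cfsg.Agent.Lib.Suzuki.Exc Cfsg.Agent.Lib.Suzuki.TI Cfsg.Agent.Lib.SzIso.SolSz
  Cfsg.Agent.Lib.SzChar.Gen Cfsg.Agent.Lib.Char.Induced Cfsg.Agent.Lib.Char.Ortho
  Cfsg.Agent.Lib.Char.Basic Cfsg.Agent.Lib.Char.Complete Cfsg.Agent.Lib.Char.Degree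
  Cfsg.Agent.Lib.SzChar.Tori Cfsg.Agent.Lib.SzChar.UChar Cfsg.Agent.Lib.SzChar.WChar
  Cfsg.Agent.Lib.SzChar.Table

section Gen

variable {G : Type*} [Group G] [Fintype G]

/-- A non-trivial abelian subgroup has a non-trivial linear character. -/
theorem exists_lam_ne_one (A : Subgroup G) (hA : ∀ a ∈ A, ∀ b ∈ A, a * b = b * a) (h : 1 < Nat.card A) :
    ∃ lam : A →* ℂˣ, lam ≠ 1 := by
  classical
  by_contra hno
  push Not at hno
  letI : Fintype A := Fintype.ofFinite A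
  have := finite_irrCharacter (G := A)
  letI : Fintype (IrrCharacter A) := Fintype.ofFinite _
  have hcomm : ∀ a b : A, a * b = b * a := fun a b => Subtype.ext (hA a a.2 b b.2)
  have hhom : ∀ i : IrrCharacter A, (i : A → ℂ) = fun _ => 1 := by
    intro i
    obtain ⟨lam, hlam⟩ := Cfsg.Agent.Lib.Char.Linear.exists_hom_of_deg_one
      (isCharacter_of_isIrrCharacter i.2) (Cfsg.Agent.Lib.Char.Linear.isIrr_deg_one_of_comm hcomm i.2)
    rw [hlam, hno lam]
    funext a
    simp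
  have huniq : Subsingleton (IrrCharacter A) := ⟨fun i j => Subtype.ext ((hhom i).trans (hhom j).symm)⟩
  have hcard := sum_deg_sq_eq_card (G := A)
  simp only [hhom, one_pow, Finset.sum_const, Finset.card_univ, nsmul_eq_mul, mul_one] at hcard
  have h2 : Fintype.card (IrrCharacter A) ≤ 1 := Fintype.card_le_one_iff_subsingleton.2 huniq
  have h3 : Fintype.card (IrrCharacter A) = Nat.card A := by exact_mod_cast hcard
  omega

end Gen

variable {F : Type*} [Field F] [Fintype F] [CharP F 2] {m : ℕ} (hc : Ctx F m)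

include hc in
/-- The degrees. -/
theorem charDegrees_Sz : charDegrees (Sz F m) =
    {1, (2 ^ (2 * m + 1)) ^ 2, (2 ^ (2 * m + 1)) ^ 2 + 1, (2 ^ (2 * m + 1) - 1) * 2 ^ m,
      (2 ^ (2 * m + 1) - 1) * (2 ^ (2 * m + 1) - 2 ^ (m + 1) + 1),
      (2 ^ (2 * m + 1) - 1) * (2 ^ (2 * m + 1) + 2 ^ (m + 1) + 1)} := by
  classical
  letI : Fintype (Sz F m) := Fintype.ofFinite _
  obtain ⟨D⟩ := exists_Dat hc
  have hq : 1 < 2 ^ (2 * m + 1) := Nat.one_lt_two_pow (by omega)
  ext d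
  simp only [Set.mem_insert_iff, Set.mem_singleton_iff]
  constructor
  · rintro ⟨⟨χ, hχ⟩, rfl⟩
    simp only
    rcases D.classification hχ with rfl | rfl | rfl | rfl | ⟨lam, -, rfl⟩ | ⟨lam, -, rfl⟩ | ⟨lam, -, rfl⟩
    · left
      apply charDegree_eq_of_eq_natCast (n := 1)
      simp [One1]
    · right; left
      apply charDegree_eq_of_eq_natCast
      rw [St_one hc]
      push_cast
      rfl
    · right; right; right; left
      apply charDegree_eq_of_eq_natCast
      rw [D.W₁_one]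
      push_cast
      rfl
    · right; right; right; left
      apply charDegree_eq_of_eq_natCast
      rw [D.W₂_one]
      push_cast
      rfl
    · right; right; left
      exact charDegree_eq_of_eq_natCast (D.X_one lam)
    · right; right; right; right; left
      exact charDegree_eq_of_eq_natCast (D.Y_one lam)
    · right; right; right; right; right
      exact charDegree_eq_of_eq_natCast (D.Z_one lam)
  · have hA₀ : 1 < Nat.card D.A₀ := by
      obtain ⟨h0, p, p', hne, hp, hp'⟩ := D.hx₀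
      rw [Dat.A₀, Cz_eq_Tpp hc h0 hne hp hp', card_Tpp hc hne]
      have : 8 ≤ 2 ^ (2 * m + 1) := by
        have h8 : 2 ^ 3 ≤ 2 ^ (2 * m + 1) := Nat.pow_le_pow_right (by norm_num) (by have := hc.hm; omega)
        simpa using h8
      omega
    have hA₁ : 1 < Nat.card D.A₁ := by
      have h1 : Nat.card D.A₁ = _ := D.ht.c₁
      rw [h1]
      have : 0 < 2 ^ (m + 1) := by positivity
      omega
    have hA₂ : 1 < Nat.card D.A₂ := by
      have h1 : Nat.card D.A₂ = _ := D.ht.c₂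
      rw [h1]
      have h2 := s_lt hc.hm
      omega
    obtain ⟨lam₀, hlam₀⟩ := exists_lam_ne_one D.A₀ D.tif₀.comm hA₀
    obtain ⟨lam₁, hlam₁⟩ := exists_lam_ne_one D.A₁ D.tif₁.comm hA₁
    obtain ⟨lam₂, hlam₂⟩ := exists_lam_ne_one D.A₂ D.tif₂.comm hA₂
    rintro (rfl | rfl | rfl | rfl | rfl | rfl)
    · refine ⟨⟨_, isIrr_One1 hc⟩, ?_⟩
      apply charDegree_eq_of_eq_natCast (n := 1)
      simp [One1]
    · refine ⟨⟨_, isIrr_St hc⟩, ?_⟩
      apply charDegree_eq_of_eq_natCast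
      simp only
      rw [St_one hc]
      push_cast
      rfl
    · exact ⟨⟨_, D.irr_X lam₀ hlam₀⟩, charDegree_eq_of_eq_natCast (D.X_one lam₀)⟩
    · refine ⟨⟨_, D.irr_W₁⟩, ?_⟩
      apply charDegree_eq_of_eq_natCast
      simp only
      rw [D.W₁_one]
      push_cast
      rfl
    · exact ⟨⟨_, D.irr_Y lam₁ hlam₁⟩, charDegree_eq_of_eq_natCast (D.Y_one lam₁)⟩
    · exact ⟨⟨_, D.irr_Z lam₂ hlam₂⟩, charDegree_eq_of_eq_natCast (D.Z_one lam₂)⟩

end Cfsg.Agent.Lib.SzChar.Degrees
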