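import Mathlib

set_option autoImplicit false

/-!
The numerical inequalities used for products of conjugates in the Suzuki groups.
-/

namespace Cfsg.Agent.Lib.SzChar.OreNum

section
variable {d : ℝ}

lemma Q_ge (hd : 2 ≤ d) : 8 ≤ 2 * d ^ 2 := by nlinarith
lemma Q_ge' (hd : 2 ≤ d) : 4 * d ≤ 2 * d ^ 2 := by nlinarith
lemma A_pos (hd : 2 ≤ d) : 0 < 2 * d ^ 2 - 1 := by nlinarith
lemma B_pos (hd : 2 ≤ d) : 0 < 2 * d ^ 2 - 2 * d + 1 := by nlinarith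
lemma Z_pos (hd : 2 ≤ d) : 0 < 2 * d ^ 2 + 2 * d + 1 := by nlinarith
lemma PX_pos (_hd : 2 ≤ d) : 0 < (2 * d ^ 2) ^ 2 + 1 := by positivity
lemma PY_pos (hd : 2 ≤ d) : 0 < (2 * d ^ 2 - 1) * (2 * d ^ 2 - 2 * d + 1) := mul_pos (A_pos hd) (B_pos hd)
lemma PZ_pos (hd : 2 ≤ d) : 0 < (2 * d ^ 2 - 1) * (2 * d ^ 2 + 2 * d + 1) := mul_pos (A_pos hd) (Z_pos hd)

lemma PY_le_PX (hd : 2 ≤ d) : (2 * d ^ 2 - 1) * (2 * d ^ 2 - 2 * d + 1) ≤ (2 * d ^ 2) ^ 2 + 1 := by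
  have h1 := Q_ge hd
  have h3 : 0 ≤ d := by linarith
  nlinarith [mul_nonneg h3 (sub_nonneg.2 h1)]

lemma PY_le_PZ (hd : 2 ≤ d) : (2 * d ^ 2 - 1) * (2 * d ^ 2 - 2 * d + 1) ≤ (2 * d ^ 2 - 1) * (2 * d ^ 2 + 2 * d + 1) := by
  apply mul_le_mul_of_nonneg_left _ (A_pos hd).le
  linarith

lemma inv_Q_le (hd : 2 ≤ d) : 1 / (2 * d ^ 2) ^ 2 ≤ 1 / 64 := by
  apply one_div_le_one_div_of_le (by norm_num)
  have h1 := Q_ge hd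
  nlinarith

lemma two_div_le (hd : 2 ≤ d) : 2 / ((2 * d ^ 2 - 1) * d) ≤ 1 / 7 := by
  have h1 := Q_ge hd
  rw [div_le_div_iff₀ (mul_pos (A_pos hd) (by linarith)) (by norm_num)]
  nlinarith

/-- `M` for the row of `T`. -/
lemma numT (hd : 2 ≤ d) (s w : ℝ) (hs : -1 ≤ s) :
    2 / ((2 * d ^ 2) ^ 2 + 1) * (2 * d ^ 2 - 3) < 1 + 1 * s / (2 * d ^ 2) ^ 2 + 0 * w / ((2 * d ^ 2 - 1) * d) := by
  have h1 := inv_Q_le hd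
  have h2 : -(1 / (2 * d ^ 2) ^ 2) ≤ 1 * s / (2 * d ^ 2) ^ 2 := by
    rw [one_mul, ← neg_div]
    exact div_le_div_of_nonneg_right hs (by positivity)
  have h3 : 2 / ((2 * d ^ 2) ^ 2 + 1) * (2 * d ^ 2 - 3) < 1 / 2 := by
    rw [div_mul_eq_mul_div, div_lt_iff₀ (PX_pos hd)]
    nlinarith [sq_nonneg (2 * d ^ 2 - 2)]
  rw [zero_mul, zero_div]
  linarith

lemma numR_z (hd : 2 ≤ d) :
    (2 * d + 1) / ((2 * d ^ 2 - 1) * (2 * d ^ 2 - 2 * d + 1)) * (2 * d ^ 2 - 1) <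
      1 + 0 * 0 / (2 * d ^ 2) ^ 2 + (-d ^ 2) * (-(2 * d)) / ((2 * d ^ 2 - 1) * d) := by
  have h1 : (2 * d + 1) / ((2 * d ^ 2 - 1) * (2 * d ^ 2 - 2 * d + 1)) * (2 * d ^ 2 - 1) ≤ 1 := by
    rw [div_mul_eq_mul_div, div_le_one (PY_pos hd)]
    have := Q_ge' hd
    nlinarith [A_pos hd]
  have h2 : 0 < (-d ^ 2) * (-(2 * d)) / ((2 * d ^ 2 - 1) * d) := by
    have hd0 : 0 < d := by linarith
    rw [neg_mul_neg]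
    exact div_pos (by positivity) (mul_pos (A_pos hd) hd0)
  rw [zero_mul, zero_div]
  linarith

lemma numR_r (hd : 2 ≤ d) :
    1 / ((2 * d ^ 2 - 1) * (2 * d ^ 2 - 2 * d + 1)) * (2 * d ^ 2 - 1) <
      1 + 0 * 0 / (2 * d ^ 2) ^ 2 + (-d ^ 2) * 0 / ((2 * d ^ 2 - 1) * d) := by
  rw [show (1 + 0 * 0 / (2 * d ^ 2) ^ 2 + (-d ^ 2) * 0 / ((2 * d ^ 2 - 1) * d) : ℝ) = 1 by simp]
  rw [div_mul_eq_mul_div, div_lt_one (PY_pos hd)]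
  have := Q_ge' hd
  have h1 := Q_ge hd
  nlinarith [A_pos hd]

lemma numR_T (hd : 2 ≤ d) :
    2 / ((2 * d ^ 2) ^ 2 + 1) * (2 * d ^ 2 - 1) <
      1 + 0 * 1 / (2 * d ^ 2) ^ 2 + (-d ^ 2) * 0 / ((2 * d ^ 2 - 1) * d) := by
  rw [show (1 + 0 * 1 / (2 * d ^ 2) ^ 2 + (-d ^ 2) * 0 / ((2 * d ^ 2 - 1) * d) : ℝ) = 1 by simp]
  rw [div_mul_eq_mul_div, div_lt_one (PX_pos hd)]
  nlinarith [sq_nonneg (2 * d ^ 2 - 1)]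

lemma numR_B (hd : 2 ≤ d) :
    4 / ((2 * d ^ 2 - 1) * (2 * d ^ 2 + 2 * d + 1)) * (2 * d ^ 2 - 1) <
      1 + 0 * (-1) / (2 * d ^ 2) ^ 2 + (-d ^ 2) * (-2) / ((2 * d ^ 2 - 1) * d) := by
  have h1 : 4 / ((2 * d ^ 2 - 1) * (2 * d ^ 2 + 2 * d + 1)) * (2 * d ^ 2 - 1) < 1 := by
    rw [div_mul_eq_mul_div, div_lt_one (PZ_pos hd)]
    have := Q_ge hd
    nlinarith [A_pos hd]
  have h2 : 0 < (-d ^ 2) * (-2) / ((2 * d ^ 2 - 1) * d) := by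
    have hd0 : 0 < d := by linarith
    rw [neg_mul_neg]
    exact div_pos (by positivity) (mul_pos (A_pos hd) hd0)
  rw [zero_mul, zero_div]
  linarith

lemma numA_r (hd : 2 ≤ d) :
    1 / ((2 * d ^ 2 - 1) * (2 * d ^ 2 - 2 * d + 1)) * (2 * d ^ 2 + 2 * d - 3) <
      1 + 1 * 0 / (2 * d ^ 2) ^ 2 + 1 * 0 / ((2 * d ^ 2 - 1) * d) := by
  rw [show (1 + 1 * 0 / (2 * d ^ 2) ^ 2 + 1 * 0 / ((2 * d ^ 2 - 1) * d) : ℝ) = 1 by simp]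
  rw [div_mul_eq_mul_div, div_lt_one (PY_pos hd)]
  obtain ⟨t, rfl⟩ : ∃ t, d = t + 2 := ⟨d - 2, by ring⟩
  have ht : 0 ≤ t := by linarith
  rw [← sub_pos]
  ring_nf
  positivity

lemma M_T (hd : 2 ≤ d) : 0 < 1 + 1 * 1 / (2 * d ^ 2) ^ 2 + 1 * 0 / ((2 * d ^ 2 - 1) * d) := by
  rw [show (1 * 0 / ((2 * d ^ 2 - 1) * d) : ℝ) = 0 by simp]
  positivity

lemma M_B (hd : 2 ≤ d) : 0 < 1 + 1 * (-1) / (2 * d ^ 2) ^ 2 + 1 * (-2) / ((2 * d ^ 2 - 1) * d) := by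
  have h1 := inv_Q_le hd
  have h2 := two_div_le hd
  have e1 : 1 * (-1) / (2 * d ^ 2) ^ 2 = -(1 / (2 * d ^ 2) ^ 2) := by ring
  have e2 : 1 * (-2) / ((2 * d ^ 2 - 1) * d) = -(2 / ((2 * d ^ 2 - 1) * d)) := by ring
  rw [e1, e2]
  linarith

lemma M_A (hd : 2 ≤ d) : 0 < 1 + 1 * (-1) / (2 * d ^ 2) ^ 2 + 1 * 2 / ((2 * d ^ 2 - 1) * d) := by
  have h1 := inv_Q_le hd
  have h2 : 0 < 2 / ((2 * d ^ 2 - 1) * d) := div_pos (by norm_num) (mul_pos (A_pos hd) (by linarith))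
  have e1 : 1 * (-1) / (2 * d ^ 2) ^ 2 = -(1 / (2 * d ^ 2) ^ 2) := by ring
  have e2 : 1 * 2 / ((2 * d ^ 2 - 1) * d) = (2 / ((2 * d ^ 2 - 1) * d)) := by ring
  rw [e1, e2]
  linarith

lemma M_z_eq (hd : 2 ≤ d) : 1 * (-(2 * d)) / ((2 * d ^ 2 - 1) * d) = -(2 / (2 * d ^ 2 - 1)) := by
  have h1 := (A_pos hd).ne'
  have h2 : d ≠ 0 := by linarith
  field_simp

lemma M_z (hd : 2 ≤ d) : 5 / 7 ≤ 1 + 1 * 0 / (2 * d ^ 2) ^ 2 + 1 * (-(2 * d)) / ((2 * d ^ 2 - 1) * d) := by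
  rw [M_z_eq hd, show (1 * 0 / (2 * d ^ 2) ^ 2 : ℝ) = 0 by simp]
  have h1 : 2 / (2 * d ^ 2 - 1) ≤ 2 / 7 := by
    apply div_le_div_of_nonneg_left (by norm_num) (by norm_num)
    have := Q_ge hd
    linarith
  linarith

lemma numA_A (hd : 2 ≤ d) :
    4 / ((2 * d ^ 2 - 1) * (2 * d ^ 2 - 2 * d + 1)) * (2 * d ^ 2 + 2 * d - 3) <
      1 + 1 * (-1) / (2 * d ^ 2) ^ 2 + 1 * 2 / ((2 * d ^ 2 - 1) * d) := by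
  have key : ∀ {Q A B C e : ℝ}, 0 < Q → 0 < A → 0 < B → 0 < e →
      0 < (Q ^ 2 - 1) * A * B * e + 2 * B * Q ^ 2 - 4 * C * Q ^ 2 * e →
      4 / (A * B) * C < 1 + 1 * (-1) / Q ^ 2 + 1 * 2 / (A * e) := by
    intro Q A B C e hQ hA hB he hN
    have e1 : 1 + 1 * (-1) / Q ^ 2 + 1 * 2 / (A * e) - 4 / (A * B) * C =
        ((Q ^ 2 - 1) * A * B * e + 2 * B * Q ^ 2 - 4 * C * Q ^ 2 * e) / (Q ^ 2 * A * B * e) := by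
      field_simp
      ring
    rw [← sub_pos, e1]
    exact div_pos hN (by positivity)
  have hd0 : 0 < d := by linarith
  apply key (by positivity) (A_pos hd) (B_pos hd) hd0
  obtain ⟨t, rfl⟩ : ∃ t, d = t + 2 := ⟨d - 2, by ring⟩
  have ht : 0 ≤ t := by linarith
  ring_nf
  positivity

lemma numB_z (hd : 2 ≤ d) :
    (2 * d + 1) / ((2 * d ^ 2 - 1) * (2 * d ^ 2 + 2 * d + 1)) * (2 * d ^ 2 - 2 * d - 3) <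
      1 + 1 * 0 / (2 * d ^ 2) ^ 2 + 1 * (-(2 * d)) / ((2 * d ^ 2 - 1) * d) := by
  have h1 := M_z hd
  have h2 : (2 * d + 1) / ((2 * d ^ 2 - 1) * (2 * d ^ 2 + 2 * d + 1)) * (2 * d ^ 2 - 2 * d - 3) < 1 / 2 := by
    rw [div_mul_eq_mul_div, div_lt_iff₀ (PZ_pos hd)]
    obtain ⟨t, rfl⟩ : ∃ t, d = t + 2 := ⟨d - 2, by ring⟩
    have ht : 0 ≤ t := by linarith
    rw [← sub_pos]
    ring_nf
    positivity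
  linarith

lemma numB_r (hd : 2 ≤ d) :
    1 / ((2 * d ^ 2 - 1) * (2 * d ^ 2 + 2 * d + 1)) * (2 * d ^ 2 - 2 * d - 3) <
      1 + 1 * 0 / (2 * d ^ 2) ^ 2 + 1 * 0 / ((2 * d ^ 2 - 1) * d) := by
  rw [show (1 + 1 * 0 / (2 * d ^ 2) ^ 2 + 1 * 0 / ((2 * d ^ 2 - 1) * d) : ℝ) = 1 by simp]
  rw [div_mul_eq_mul_div, div_lt_one (PZ_pos hd)]
  obtain ⟨t, rfl⟩ : ∃ t, d = t + 2 := ⟨d - 2, by ring⟩
  have ht : 0 ≤ t := by linarith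
  rw [← sub_pos]
  ring_nf
  positivity

lemma numB_B (hd : 2 ≤ d) :
    4 / ((2 * d ^ 2 - 1) * (2 * d ^ 2 + 2 * d + 1)) * (2 * d ^ 2 - 2 * d - 3) <
      1 + 1 * (-1) / (2 * d ^ 2) ^ 2 + 1 * (-2) / ((2 * d ^ 2 - 1) * d) := by
  have h1 := inv_Q_le hd
  have h2 := two_div_le hd
  have e1 : 1 * (-1) / (2 * d ^ 2) ^ 2 = -(1 / (2 * d ^ 2) ^ 2) := by ring
  have e2 : 1 * (-2) / ((2 * d ^ 2 - 1) * d) = -(2 / ((2 * d ^ 2 - 1) * d)) := by ring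
  rw [e1, e2]
  have h3 : 4 / ((2 * d ^ 2 - 1) * (2 * d ^ 2 + 2 * d + 1)) * (2 * d ^ 2 - 2 * d - 3) < 1 / 2 := by
    rw [div_mul_eq_mul_div, div_lt_iff₀ (PZ_pos hd)]
    obtain ⟨t, rfl⟩ : ∃ t, d = t + 2 := ⟨d - 2, by ring⟩
    have ht : 0 ≤ t := by linarith
    rw [← sub_pos]
    ring_nf
    positivity
  linarith

lemma numE (hd : 2 ≤ d) :
    0 < 1 + 0 * (-1) / (2 * d ^ 2) ^ 2 + (-d ^ 2) * 2 / ((2 * d ^ 2 - 1) * d) +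
      1 / ((2 * d ^ 2 - 1) * (2 * d ^ 2 - 2 * d + 1)) := by
  have h1 := (A_pos hd)
  have hd0 : 0 < d := by linarith
  have e : (-d ^ 2) * 2 / ((2 * d ^ 2 - 1) * d) = -(2 * d / (2 * d ^ 2 - 1)) := by
    field_simp
  rw [e, show (0 * (-1) / (2 * d ^ 2) ^ 2 : ℝ) = 0 by simp]
  have h2 : 2 * d / (2 * d ^ 2 - 1) < 1 := by
    rw [div_lt_one h1]
    have := Q_ge' hd
    nlinarith
  have h3 : 0 < 1 / ((2 * d ^ 2 - 1) * (2 * d ^ 2 - 2 * d + 1)) := div_pos one_pos (PY_pos hd)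
  linarith

lemma ratio_T (hd : 2 ≤ d) :
    5 ≤ (2 * d ^ 2) ^ 2 * ((2 * d ^ 2) ^ 2 + 1) * (2 * d ^ 2 - 1) / (2 * d ^ 2 - 1) ^ 2 * (1 / 2) := by
  have hA := A_pos hd
  have hQ := Q_ge hd
  have e : (2 * d ^ 2) ^ 2 * ((2 * d ^ 2) ^ 2 + 1) * (2 * d ^ 2 - 1) / (2 * d ^ 2 - 1) ^ 2 * (1 / 2) =
      (2 * d ^ 2) ^ 2 * ((2 * d ^ 2) ^ 2 + 1) / (2 * (2 * d ^ 2 - 1)) := by
    field_simp
  rw [e, le_div_iff₀ (by positivity)]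
  nlinarith [mul_nonneg (sub_nonneg.2 hQ) (sq_nonneg (2 * d ^ 2))]

lemma M_T_half (hd : 2 ≤ d) : 1 / 2 ≤
    1 + 1 * 1 / (2 * d ^ 2) ^ 2 + 0 * 0 / ((2 * d ^ 2 - 1) * d) -
      2 / ((2 * d ^ 2) ^ 2 + 1) * (2 * d ^ 2 - 3) := by
  have h3 : 2 / ((2 * d ^ 2) ^ 2 + 1) * (2 * d ^ 2 - 3) < 1 / 2 := by
    rw [div_mul_eq_mul_div, div_lt_iff₀ (PX_pos hd)]
    nlinarith [sq_nonneg (2 * d ^ 2 - 2)]
  have h4 : 0 ≤ 1 * 1 / (2 * d ^ 2) ^ 2 := by positivity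
  rw [zero_mul, zero_div]
  linarith

lemma M_A_small (hd : 2 ≤ d) : 1 / 20 ≤
    1 + 1 * (-1) / (2 * d ^ 2) ^ 2 + 1 * 2 / ((2 * d ^ 2 - 1) * d) -
      4 / ((2 * d ^ 2 - 1) * (2 * d ^ 2 - 2 * d + 1)) * (2 * d ^ 2 + 2 * d - 3) := by
  have key : ∀ {Q A B C e : ℝ}, 0 < Q → 0 < A → 0 < B → 0 < e →
      0 < (19 / 20 * Q ^ 2 - 1) * A * B * e + 2 * B * Q ^ 2 - 4 * C * Q ^ 2 * e →
      1 / 20 ≤ 1 + 1 * (-1) / Q ^ 2 + 1 * 2 / (A * e) - 4 / (A * B) * C := by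
    intro Q A B C e hQ hA hB he hN
    have e1 : 1 + 1 * (-1) / Q ^ 2 + 1 * 2 / (A * e) - 4 / (A * B) * C - 1 / 20 =
        ((19 / 20 * Q ^ 2 - 1) * A * B * e + 2 * B * Q ^ 2 - 4 * C * Q ^ 2 * e) / (Q ^ 2 * A * B * e) := by
      field_simp
      ring
    have e2 := div_pos hN (show 0 < Q ^ 2 * A * B * e by positivity)
    rw [← e1] at e2
    linarith
  have hd0 : 0 < d := by linarith
  apply key (by positivity) (A_pos hd) (B_pos hd) hd0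
  obtain ⟨t, rfl⟩ : ∃ t, d = t + 2 := ⟨d - 2, by ring⟩
  have ht : 0 ≤ t := by linarith
  ring_nf
  positivity

lemma ratio_A (hd : 2 ≤ d) :
    100 ≤ (2 * d ^ 2) ^ 2 * ((2 * d ^ 2) ^ 2 + 1) * (2 * d ^ 2 - 1) / (2 * d ^ 2 + 2 * d + 1) ^ 2 := by
  rw [le_div_iff₀ (by have := Z_pos hd; positivity)]
  obtain ⟨t, rfl⟩ : ∃ t, d = t + 2 := ⟨d - 2, by ring⟩
  have ht : 0 ≤ t := by linarith
  rw [← sub_nonneg]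
  ring_nf
  positivity

lemma M_B_quarter (hd : 2 ≤ d) : 1 / 4 ≤
    1 + 1 * (-1) / (2 * d ^ 2) ^ 2 + 1 * (-2) / ((2 * d ^ 2 - 1) * d) -
      4 / ((2 * d ^ 2 - 1) * (2 * d ^ 2 + 2 * d + 1)) * (2 * d ^ 2 - 2 * d - 3) := by
  have h1 := inv_Q_le hd
  have h2 := two_div_le hd
  have e1 : 1 * (-1) / (2 * d ^ 2) ^ 2 = -(1 / (2 * d ^ 2) ^ 2) := by ring
  have e2 : 1 * (-2) / ((2 * d ^ 2 - 1) * d) = -(2 / ((2 * d ^ 2 - 1) * d)) := by ring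
  rw [e1, e2]
  have h3 : 4 / ((2 * d ^ 2 - 1) * (2 * d ^ 2 + 2 * d + 1)) * (2 * d ^ 2 - 2 * d - 3) < 1 / 2 := by
    rw [div_mul_eq_mul_div, div_lt_iff₀ (PZ_pos hd)]
    obtain ⟨t, rfl⟩ : ∃ t, d = t + 2 := ⟨d - 2, by ring⟩
    have ht : 0 ≤ t := by linarith
    rw [← sub_pos]
    ring_nf
    positivity
  linarith

lemma ratio_B (hd : 2 ≤ d) :
    20 ≤ (2 * d ^ 2) ^ 2 * ((2 * d ^ 2) ^ 2 + 1) * (2 * d ^ 2 - 1) / (2 * d ^ 2 - 2 * d + 1) ^ 2 := by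
  rw [le_div_iff₀ (by have := B_pos hd; positivity)]
  obtain ⟨t, rfl⟩ : ∃ t, d = t + 2 := ⟨d - 2, by ring⟩
  have ht : 0 ≤ t := by linarith
  rw [← sub_nonneg]
  ring_nf
  positivity

lemma M_rho (hd : 2 ≤ d) : 4 / 5 ≤
    1 + 0 * 0 / (2 * d ^ 2) ^ 2 + (-d ^ 2) * 0 / ((2 * d ^ 2 - 1) * d) -
      1 / ((2 * d ^ 2 - 1) * (2 * d ^ 2 - 2 * d + 1)) * (2 * d ^ 2 - 1) := by
  rw [show (1 + 0 * 0 / (2 * d ^ 2) ^ 2 + (-d ^ 2) * 0 / ((2 * d ^ 2 - 1) * d) : ℝ) = 1 by simp]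
  have hA := (A_pos hd).ne'
  have hB := B_pos hd
  have e : 1 / ((2 * d ^ 2 - 1) * (2 * d ^ 2 - 2 * d + 1)) * (2 * d ^ 2 - 1) = 1 / (2 * d ^ 2 - 2 * d + 1) := by
    field_simp
  rw [e]
  have h1 : 1 / (2 * d ^ 2 - 2 * d + 1) ≤ 1 / 5 := by
    apply one_div_le_one_div_of_le (by norm_num)
    nlinarith
  linarith

lemma ratio_rho (hd : 2 ≤ d) :
    (2 * d ^ 2) ^ 2 < (2 * d ^ 2) ^ 2 * ((2 * d ^ 2) ^ 2 + 1) * (2 * d ^ 2 - 1) / (2 * (2 * d ^ 2)) ^ 2 * (4 / 5) := by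
  have hQ := Q_ge hd
  have hQ0 : (2 * d ^ 2) ≠ 0 := by positivity
  have e : (2 * d ^ 2) ^ 2 * ((2 * d ^ 2) ^ 2 + 1) * (2 * d ^ 2 - 1) / (2 * (2 * d ^ 2)) ^ 2 * (4 / 5) =
      ((2 * d ^ 2) ^ 2 + 1) * (2 * d ^ 2 - 1) / 5 := by
    field_simp
    ring
  rw [e]
  generalize 2 * d ^ 2 = Q at *
  rw [lt_div_iff₀ (by norm_num)]
  nlinarith [mul_nonneg (sub_nonneg.2 hQ) (sq_nonneg Q)]

lemma ratio_inv (hd : 2 ≤ d) :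
    (2 * d ^ 2) ^ 2 * (2 * d ^ 2 + 1) < (2 * d ^ 2) ^ 2 * ((2 * d ^ 2) ^ 2 + 1) * (2 * d ^ 2 - 1) / (2 * d ^ 2 - 1) ^ 2 := by
  have hA := A_pos hd
  have hQ := Q_ge hd
  rw [lt_div_iff₀ (by positivity)]
  generalize 2 * d ^ 2 = Q at *
  have h1 : 0 < Q ^ 2 * (Q - 1) := by positivity
  nlinarith [mul_pos h1 (show (0 : ℝ) < 2 by norm_num)]

end
end Cfsg.Agent.Lib.SzChar.OreNum
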