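import Mathlib
import Cfsg.Agent.Lib.SzChar.Degrees

/-!
The values of the irreducible characters of the Suzuki group on the various classes.
-/

set_option autoImplicit false
set_option linter.unusedSimpArgs false
set_option linter.unusedSectionVars false
set_option linter.style.haveILetI false

namespace Cfsg.Agent.Lib.SzChar.Values

open Cfsg Cfsg.Agent.Lib.Suzuki.Core Cfsg.Agent.Lib.Suzuki.Elements
  Cfsg.Agent.Lib.Suzuki.Stab Cfsg.Agent.Lib.Suzuki.Group Cfsg.Agent.Lib.Suzuki.Simple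
  Cfsg.Agent.Lib.Suzuki.Sylow2 Cfsg.Agent.Lib.Suzuki.Count Cfsg.Agent.Lib.SzIso.OutSz
  Cfsg.Agent.Lib.SzIso.SubSz Cfsg.Agent.Lib.Suzuki.Cyc Cfsg.Agent.Lib.Suzuki.CN
  Cfsg.Agent.Lib.SuzukiX.Partition Cfsg.Agent.Lib.SuzukiX.Central Cfsg.Agent.Lib.SzIso.MaxSz
  Cfsg.Agent.Lib.Suzuki.Exc Cfsg.Agent.Lib.Suzuki.TI Cfsg.Agent.Lib.SzIso.SolSz
  Cfsg.Agent.Lib.SzChar.Gen Cfsg.Agent.Lib.Char.Induced Cfsg.Agent.Lib.Char.Ortho
  Cfsg.Agent.Lib.Char.Basic Cfsg.Agent.Lib.Char.Complete Cfsg.Agent.Lib.Char.Degree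
  Cfsg.Agent.Lib.SzChar.Tori Cfsg.Agent.Lib.SzChar.UChar Cfsg.Agent.Lib.SzChar.WChar
  Cfsg.Agent.Lib.SzChar.Table Cfsg.Agent.Lib.SzChar.Degrees Cfsg.Agent.Lib.SzIso.Fix2
open scoped ComplexConjugate

section Gen

variable {G : Type*} [Group G] [Fintype G]

lemma FF_of_not_conj (A : Subgroup G) (lam : A →* ℂˣ) {g : G} (h : ∀ t : G, t⁻¹ * g * t ∉ A) :
    FF A lam g = 0 := by
  rw [FF, indFun_apply]
  apply mul_eq_zero_of_right
  apply Finset.sum_eq_zero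
  intro x _
  exact extendByZero_of_not_mem _ _ (h x)

/-- The values of `FF` on the conjugates of `A`. -/
lemma FF_conj {A N : Subgroup G} (h : TIF A N) (lam : A →* ℂˣ) {g : G} (hg : g ∈ conjUnion A) :
    ∃ e : ℂ, ‖e‖ ≤ (Nat.card N : ℝ) / (Nat.card A : ℝ) ∧
      FF A lam g = e - (Nat.card N : ℂ) / (Nat.card A : ℂ) := by
  classical
  letI : Fintype N := Fintype.ofFinite N
  obtain ⟨t, a, ha, ha1, rfl⟩ := hg
  have hA : (Nat.card A : ℂ) ≠ 0 := Nat.cast_ne_zero.mpr Nat.card_pos.ne'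
  have hA' : (0 : ℝ) < (Nat.card A : ℝ) := Nat.cast_pos.mpr Nat.card_pos
  rw [isClass_FF A lam a t]
  have h1 := FF_apply h lam ⟨a, ha⟩ (fun h0 => ha1 (congrArg Subtype.val h0))
  refine ⟨(Nat.card A : ℂ)⁻¹ * ∑ x : N, ((lam ⟨(x : G)⁻¹ * a * x, h.norm x x.2 a ha⟩ : ℂˣ) : ℂ), ?_, ?_⟩
  · rw [norm_mul, norm_inv, Complex.norm_natCast, div_eq_inv_mul]
    apply mul_le_mul_of_nonneg_left _ (inv_nonneg.mpr hA'.le)
    calc _ ≤ ∑ x : N, ‖((lam ⟨(x : G)⁻¹ * a * x, h.norm x x.2 a ha⟩ : ℂˣ) : ℂ)‖ := norm_sum_le _ _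
      _ = ∑ _x : N, (1 : ℝ) := Finset.sum_congr rfl fun x _ => norm_lam lam _
      _ = (Nat.card N : ℝ) := by
        simp [Nat.card_eq_fintype_card]
  · have h2 : FF A lam a = (Nat.card A : ℂ)⁻¹ * ∑ x : N,
        Th lam ⟨(x : G)⁻¹ * a * x, h.norm x x.2 a ha⟩ := h1
    rw [h2]
    simp only [Th]
    rw [Finset.sum_sub_distrib]
    simp only [Finset.sum_const, Finset.card_univ, nsmul_eq_mul, mul_one]
    rw [← Nat.card_eq_fintype_card]
    field_simp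

end Gen

variable {F : Type*} [Field F] [Fintype F] [CharP F 2] [DecidableEq F] {m : ℕ}
  [Fintype (Sz F m)]

lemma not_conj_of_Y1_T (hc : Ctx F m) {x g : Sz F m} (hx : IsT x) (hg : g ∈ Y1 F m) : ∀ t : Sz F m, t⁻¹ * g * t ∉ Cz x := by
  intro t ht
  by_cases h1 : t⁻¹ * g * t = 1
  · apply hg.1
    have e : g = t * (t⁻¹ * g * t) * t⁻¹ := by group
    rw [e, h1]
    group
  · have h2 := isT_of_mem hc hx ht h1
    have h3 := h2.conj t
    have e : t * (t⁻¹ * g * t) * t⁻¹ = g := by group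
    rw [e] at h3
    exact Y1_not_T hg h3

lemma not_conj_of_fpf_T (hc : Ctx F m) {x g : Sz F m} (hx : IsT x) (hg : IsFPF g) : ∀ t : Sz F m, t⁻¹ * g * t ∉ Cz x := by
  intro t ht
  by_cases h1 : t⁻¹ * g * t = 1
  · apply hg.1
    have e : g = t * (t⁻¹ * g * t) * t⁻¹ := by group
    rw [e, h1]
    group
  · have h2 := isT_of_mem hc hx ht h1
    have h3 := h2.conj t
    have e : t * (t⁻¹ * g * t) * t⁻¹ = g := by group
    rw [e] at h3
    obtain ⟨-, p, -, -, hp, -⟩ := h3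
    exact hg.2 p hp

lemma not_conj_of_Y1_fpf (hc : Ctx F m) {x g : Sz F m} (hx : IsFPF x) (hg : g ∈ Y1 F m) : ∀ t : Sz F m, t⁻¹ * g * t ∉ Cz x := by
  intro t ht
  by_cases h1 : t⁻¹ * g * t = 1
  · apply hg.1
    have e : g = t * (t⁻¹ * g * t) * t⁻¹ := by group
    rw [e, h1]
    group
  · have h2 := IsFPF_of_mem hc hx ht h1
    have h3 := IsFPF_conj h2 t
    have e : t * (t⁻¹ * g * t) * t⁻¹ = g := by group
    rw [e] at h3
    obtain ⟨-, p, hp, -⟩ := hg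
    exact h3.2 p hp

lemma not_conj_of_T_fpf (hc : Ctx F m) {x g : Sz F m} (hx : IsFPF x) (hg : IsT g) : ∀ t : Sz F m, t⁻¹ * g * t ∉ Cz x := by
  intro t ht
  by_cases h1 : t⁻¹ * g * t = 1
  · apply hg.1
    have e : g = t * (t⁻¹ * g * t) * t⁻¹ := by group
    rw [e, h1]
    group
  · have h2 := IsFPF_of_mem hc hx ht h1
    have h3 := IsFPF_conj h2 t
    have e : t * (t⁻¹ * g * t) * t⁻¹ = g := by group
    rw [e] at h3
    obtain ⟨-, p, -, -, hp, -⟩ := hg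
    exact h3.2 p hp

lemma not_conj_of_disjoint {a b g : Sz F m} (hd : Disjoint (Xg a) (Xg b)) (hg : g ∈ Xg b) :
    ∀ t : Sz F m, t⁻¹ * g * t ∉ Cz a := by
  intro t ht
  have hne : t⁻¹ * g * t ≠ 1 := by
    intro h1
    obtain ⟨s, y, -, hy1, rfl⟩ := hg
    apply hy1
    have e : y = s⁻¹ * t * (t⁻¹ * (s * y * s⁻¹) * t) * t⁻¹ * s := by group
    rw [e, h1]
    group
  have h3 : g ∈ Xg a := ⟨t, _, ht, hne, by group⟩
  exact Set.disjoint_left.mp hd h3 hg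

/-- The torus of type `T` contains a conjugate of each element of type `T`. -/
lemma T_mem_conjUnion (hc : Ctx F m) {x g : Sz F m} (hx : IsT x) (hg : IsT g) : g ∈ conjUnion (Cz x) := by
  obtain ⟨h1, p, p', hne, hp, hp'⟩ := hg
  obtain ⟨hx1, q, q', hneq, hq, hq'⟩ := hx
  obtain ⟨t₁, ht₁, ht₁'⟩ := exists_smul_inf_zero hc hne
  obtain ⟨t₂, ht₂, ht₂'⟩ := exists_smul_inf_zero hc hneq
  let t : Sz F m := t₂⁻¹ * t₁
  have e1 : t • p = q := by
    change (t₂⁻¹ * t₁) • p = q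
    rw [mul_smul, ht₁, ← ht₂, inv_smul_smul]
  have e2 : t • p' = q' := by
    change (t₂⁻¹ * t₁) • p' = q'
    rw [mul_smul, ht₁', ← ht₂', inv_smul_smul]
  refine ⟨t⁻¹, t * g * t⁻¹, ?_, ?_, by group⟩
  · rw [Cz_eq_Tpp hc hx1 hneq hq hq', mem_Tpp]
    constructor
    · rw [← e1, mul_smul, mul_smul, inv_smul_smul, hp]
    · rw [← e2, mul_smul, mul_smul, inv_smul_smul, hp']
  · intro h
    apply h1
    have e : g = t⁻¹ * (t * g * t⁻¹) * t := by group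
    rw [e, h]
    group

/-! ### The sum of the two characters `W`. -/

variable {hc : Ctx F m} (D : Dat hc)

/-- The sum of the values of the two characters `W`. -/
noncomputable def ws (g : Sz F m) : ℂ := D.W₁ g + D.W₂ g

lemma _root_.Cfsg.Agent.Lib.SzChar.Table.Dat.W₁_zz : D.W₁ (zz hc) = -(2 : ℂ) ^ m := by
  classical
  letI : Fintype (Usub hc) := Fintype.ofFinite _
  rw [Dat.W₁, WW_Y1 hc D.ht _ (Y1_zz hc), zz, JJ_uS hc D.h₁ (isInv_zz hc).1]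
  simp [gam]

lemma _root_.Cfsg.Agent.Lib.SzChar.Table.Dat.W₂_zz : D.W₂ (zz hc) = -(2 : ℂ) ^ m := by
  classical
  letI : Fintype (Usub hc) := Fintype.ofFinite _
  rw [Dat.W₂, WW_Y1 hc D.ht _ (Y1_zz hc), zz, JJ_uS hc D.h₂ (isInv_zz hc).1]
  simp [gam]

lemma _root_.Cfsg.Agent.Lib.SzChar.Table.Dat.W₁_rh_inv : D.W₁ (rh hc)⁻¹ = -((2 : ℂ) ^ m * D.κ) := by
  classical
  letI : Fintype (Usub hc) := Fintype.ofFinite _
  rw [Dat.W₁, WW_Y1 hc D.ht _ (Y1_rh_inv hc), rh_inv, JJ_uS hc D.h₁ (uS_one_ne_one hc 1)]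
  simp [gam, th_one, tau_one hc]

lemma _root_.Cfsg.Agent.Lib.SzChar.Table.Dat.W₂_rh_inv : D.W₂ (rh hc)⁻¹ = (2 : ℂ) ^ m * D.κ := by
  classical
  letI : Fintype (Usub hc) := Fintype.ofFinite _
  rw [Dat.W₂, WW_Y1 hc D.ht _ (Y1_rh_inv hc), rh_inv, JJ_uS hc D.h₂ (uS_one_ne_one hc 1)]
  simp [gam, th_one, tau_one hc]

/-! ### The values of `X`, `Y`, `Z` -/

lemma _root_.Cfsg.Agent.Lib.SzChar.Table.Dat.X_Y1 (lam : D.A₀ →* ℂˣ) {g : Sz F m} (hg : g ∈ Y1 F m) : D.X lam g = 1 := by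
  have h1 := FF_of_not_conj D.A₀ lam (not_conj_of_Y1_T hc D.hx₀ hg)
  simp only [Dat.X, Pi.add_apply, h1, St_Y1 hc hg, One1]
  ring

lemma _root_.Cfsg.Agent.Lib.SzChar.Table.Dat.X_fpf (lam : D.A₀ →* ℂˣ) {g : Sz F m} (hg : IsFPF g) : D.X lam g = 0 := by
  have h1 := FF_of_not_conj D.A₀ lam (not_conj_of_fpf_T hc D.hx₀ hg)
  simp only [Dat.X, Pi.add_apply, h1, St_fpf hc hg, One1]
  ring

lemma _root_.Cfsg.Agent.Lib.SzChar.Table.Dat.X_T (lam : D.A₀ →* ℂˣ) {g : Sz F m} (hg : IsT g) : ‖D.X lam g‖ ≤ 2 := by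
  obtain ⟨e, he, h1⟩ := FF_conj D.tif₀ lam (T_mem_conjUnion hc D.hx₀ hg)
  rw [card_NN_T hc D.hx₀] at he h1
  have hne : (Nat.card D.A₀ : ℂ) ≠ 0 := Nat.cast_ne_zero.mpr Nat.card_pos.ne'
  have hne' : (Nat.card D.A₀ : ℝ) ≠ 0 := Nat.cast_ne_zero.mpr Nat.card_pos.ne'
  have h2 : D.X lam g = e := by
    simp only [Dat.X, Pi.add_apply, h1, St_T hc hg, One1]
    push_cast
    field_simp
    ring
  rw [h2]
  push_cast at he
  rwa [mul_div_assoc, div_self hne', mul_one] at he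

lemma _root_.Cfsg.Agent.Lib.SzChar.Table.Dat.Y_Y1 (lam : D.A₁ →* ℂˣ) {g : Sz F m} (hg : g ∈ Y1 F m) : D.Y lam g = -1 - ws D g := by
  have h1 := FF_of_not_conj D.A₁ lam (not_conj_of_Y1_fpf hc D.ht.h₁ hg)
  simp only [Dat.Y, Pi.sub_apply, h1, St_Y1 hc hg, One1, ws]
  ring

lemma _root_.Cfsg.Agent.Lib.SzChar.Table.Dat.Z_Y1 (lam : D.A₂ →* ℂˣ) {g : Sz F m} (hg : g ∈ Y1 F m) : D.Z lam g = -1 + ws D g := by
  have h1 := FF_of_not_conj D.A₂ lam (not_conj_of_Y1_fpf hc D.ht.h₂ hg)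
  simp only [Dat.Z, Pi.sub_apply, Pi.add_apply, h1, St_Y1 hc hg, One1, ws]
  ring

lemma _root_.Cfsg.Agent.Lib.SzChar.Table.Dat.Y_T (lam : D.A₁ →* ℂˣ) {g : Sz F m} (hg : IsT g) : D.Y lam g = 0 := by
  have h1 := FF_of_not_conj D.A₁ lam (not_conj_of_T_fpf hc D.ht.h₁ hg)
  simp only [Dat.Y, Pi.sub_apply, h1, St_T hc hg, One1, D.W₁_T hg, D.W₂_T hg]
  ring

lemma _root_.Cfsg.Agent.Lib.SzChar.Table.Dat.Z_T (lam : D.A₂ →* ℂˣ) {g : Sz F m} (hg : IsT g) : D.Z lam g = 0 := by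
  have h1 := FF_of_not_conj D.A₂ lam (not_conj_of_T_fpf hc D.ht.h₂ hg)
  simp only [Dat.Z, Pi.sub_apply, Pi.add_apply, h1, St_T hc hg, One1, D.W₁_T hg, D.W₂_T hg]
  ring

lemma _root_.Cfsg.Agent.Lib.SzChar.Table.Dat.Y_X₂ (lam : D.A₁ →* ℂˣ) {g : Sz F m} (hg : g ∈ Xg D.g₂) : D.Y lam g = 0 := by
  have h1 := FF_of_not_conj D.A₁ lam (not_conj_of_disjoint D.ht.dis hg)
  simp only [Dat.Y, Pi.sub_apply, h1, St_fpf hc (D.fpf₂ hg), One1, D.W₁_X₂ hg, D.W₂_X₂ hg]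
  ring

lemma _root_.Cfsg.Agent.Lib.SzChar.Table.Dat.Z_X₁ (lam : D.A₂ →* ℂˣ) {g : Sz F m} (hg : g ∈ Xg D.g₁) : D.Z lam g = 0 := by
  have h1 := FF_of_not_conj D.A₂ lam (not_conj_of_disjoint D.ht.dis.symm hg)
  simp only [Dat.Z, Pi.sub_apply, Pi.add_apply, h1, St_fpf hc (D.fpf₁ hg), One1, D.W₁_X₁ hg, D.W₂_X₁ hg]
  ring

lemma _root_.Cfsg.Agent.Lib.SzChar.Table.Dat.Y_X₁ (lam : D.A₁ →* ℂˣ) {g : Sz F m} (hg : g ∈ Xg D.g₁) : ‖D.Y lam g‖ ≤ 4 := by
  obtain ⟨e, he, h1⟩ := FF_conj D.tif₁ lam hg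
  rw [card_NN_fpf hc D.ht.h₁] at he h1
  have hne : (Nat.card D.A₁ : ℂ) ≠ 0 := Nat.cast_ne_zero.mpr Nat.card_pos.ne'
  have hne' : (Nat.card D.A₁ : ℝ) ≠ 0 := Nat.cast_ne_zero.mpr Nat.card_pos.ne'
  have h2 : D.Y lam g = -e := by
    simp only [Dat.Y, Pi.sub_apply, h1, St_fpf hc (D.fpf₁ hg), One1, D.W₁_X₁ hg, D.W₂_X₁ hg]
    push_cast
    field_simp
    ring
  rw [h2, norm_neg]
  push_cast at he
  rwa [mul_div_assoc, div_self hne', mul_one] at he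

lemma _root_.Cfsg.Agent.Lib.SzChar.Table.Dat.Z_X₂ (lam : D.A₂ →* ℂˣ) {g : Sz F m} (hg : g ∈ Xg D.g₂) : ‖D.Z lam g‖ ≤ 4 := by
  obtain ⟨e, he, h1⟩ := FF_conj D.tif₂ lam hg
  rw [card_NN_fpf hc D.ht.h₂] at he h1
  have hne : (Nat.card D.A₂ : ℂ) ≠ 0 := Nat.cast_ne_zero.mpr Nat.card_pos.ne'
  have hne' : (Nat.card D.A₂ : ℝ) ≠ 0 := Nat.cast_ne_zero.mpr Nat.card_pos.ne'
  have h2 : D.Z lam g = -e := by
    simp only [Dat.Z, Pi.sub_apply, Pi.add_apply, h1, St_fpf hc (D.fpf₂ hg), One1, D.W₁_X₂ hg, D.W₂_X₂ hg]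
    push_cast
    field_simp
    ring
  rw [h2, norm_neg]
  push_cast at he
  rwa [mul_div_assoc, div_self hne', mul_one] at he

/-! ### Centralizers -/

lemma card_Cz_of_isConj (hc : Ctx F m) {x y : Sz F m} (h : IsConj x y) : Nat.card (Cz y) = Nat.card (Cz x) := by
  obtain ⟨t, rfl⟩ := isConj_iff.mp h
  refine Nat.card_congr (Equiv.ofBijective (fun c : Cz x => (⟨t * c * t⁻¹, (conj_mem_Cz hc).2 c.2⟩ : Cz (t * x * t⁻¹))) ⟨?_, ?_⟩).symm
  · intro a b hab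
    have h1 : t * (a : Sz F m) * t⁻¹ = t * (b : Sz F m) * t⁻¹ := congrArg Subtype.val hab
    apply Subtype.ext
    simpa using h1
  · intro c
    refine ⟨⟨t⁻¹ * c * t, ?_⟩, ?_⟩
    · have h1 : t * (t⁻¹ * (c : Sz F m) * t) * t⁻¹ = c := by group
      have h2 := c.2
      rw [← h1] at h2
      exact (conj_mem_Cz hc).1 h2
    · apply Subtype.ext
      change t * (t⁻¹ * (c : Sz F m) * t) * t⁻¹ = c
      group

/-- The centraliser of `uS 1 0` has order `2 q`. -/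
lemma card_Cz_rh (hc : Ctx F m) : Nat.card (Cz (rh hc)) = 2 * 2 ^ (2 * m + 1) := by
  classical
  have hset : ((Cz (rh hc) : Subgroup (Sz F m)) : Set (Sz F m)) =
      (fun p : F × F => uS hc p.1 p.2) '' (({0, 1} : Set F) ×ˢ (Set.univ : Set F)) := by
    ext c
    simp only [SetLike.mem_coe, Set.mem_image, Set.mem_prod, Set.mem_insert_iff, Set.mem_singleton_iff,
      Set.mem_univ, and_true, Prod.exists]
    constructor
    · intro hc'
      have hcomm : rh hc * c = c * rh hc := mem_Cz.1 hc'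
      have hfix : c • (infO : OO F m) = infO :=
        fix_of_commute hc (uS_one_ne_one hc 0) (smul_infO_of_mem hc (uS_mem hc 1 0)) hcomm
      have hfix' : c • suzukiPointInfinity F = suzukiPointInfinity F := congrArg Subtype.val hfix
      obtain ⟨a, b, l, rfl⟩ := stab_inf_decomp hc hfix'
      -- compare the first coordinate
      have h1 : hS hc l * rh hc * (hS hc l)⁻¹ = uS hc (l : F) 0 := by
        rw [hS_conj_uS]
        simp
      have h2 : uS hc a b * (hS hc l * rh hc * (hS hc l)⁻¹) * (uS hc a b)⁻¹ = rh hc := by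
        have e : uS hc a b * (hS hc l * rh hc * (hS hc l)⁻¹) * (uS hc a b)⁻¹ =
            (uS hc a b * hS hc l) * rh hc * (uS hc a b * hS hc l)⁻¹ := by group
        rw [e, ← hcomm]
        group
      rw [h1, uS_inv, uS_mul, uS_mul] at h2
      obtain ⟨h3, h4⟩ := uS_injective hc h2
      have h5 : (l : F) = 1 := by
        have : a + (l : F) + a = (l : F) := by
          have e : a + (l : F) + a = (l : F) + (a + a) := by ring
          rw [e, CharTwo.add_self_eq_zero, add_zero]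
        rw [← this]
        exact h3
      have hl : l = 1 := Units.ext h5
      subst hl
      rw [hS_one, mul_one] at hcomm ⊢
      simp only [rh] at hcomm
      rw [uS_mul, uS_mul] at hcomm
      obtain ⟨-, h6⟩ := uS_injective hc hcomm
      have h7 : th m a = a := by
        rw [th_one, one_mul, zero_add, add_zero, mul_one] at h6
        exact (add_left_cancel h6).symm
      refine ⟨a, b, ?_, rfl⟩
      exact (fixed_th_eq_one_or_zero hc.hth h7)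
    · rintro ⟨a, b, ha, rfl⟩
      rw [mem_Cz, uS_mul, uS_mul]
      have h7 : th m a = a := by
        rcases ha with rfl | rfl
        · exact th_zero m
        · exact th_one m
      rw [h7, th_one, one_mul]
      congr 1
      · rw [add_comm]
      · ring
  have hcard : Nat.card (Cz (rh hc)) = ((Cz (rh hc) : Subgroup (Sz F m)) : Set (Sz F m)).ncard :=
    (Nat.card_coe_set_eq _).symm
  rw [hcard, hset, Set.ncard_image_of_injective _ (fun p p' h => by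
    obtain ⟨h1, h2⟩ := uS_injective hc h
    exact Prod.ext h1 h2), Set.ncard_prod, Set.ncard_univ, card_field_eq hc,
    Set.ncard_pair (zero_ne_one (α := F))]

end Cfsg.Agent.Lib.SzChar.Values
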