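import Mathlib
import Cfsg.Agent.Lib.SzChar.Values
import Cfsg.Agent.Lib.Char.ClassProd
import Cfsg.Agent.Lib.SzChar.OreNum

/-!
Every nontrivial element of the Suzuki group is a product of two conjugates of an element of
order greater than two.
-/

set_option autoImplicit false
set_option linter.unusedSimpArgs false
set_option linter.unusedSectionVars false
set_option linter.style.haveILetI false

namespace Cfsg.Agent.Lib.SzChar.Ore

open Cfsg Cfsg.Agent.Lib.Suzuki.Core Cfsg.Agent.Lib.Suzuki.Elements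
  Cfsg.Agent.Lib.Suzuki.Stab Cfsg.Agent.Lib.Suzuki.Group Cfsg.Agent.Lib.Suzuki.Simple
  Cfsg.Agent.Lib.Suzuki.Sylow2 Cfsg.Agent.Lib.Suzuki.Count Cfsg.Agent.Lib.SzIso.OutSz
  Cfsg.Agent.Lib.SzIso.SubSz Cfsg.Agent.Lib.Suzuki.Cyc Cfsg.Agent.Lib.Suzuki.CN
  Cfsg.Agent.Lib.SuzukiX.Partition Cfsg.Agent.Lib.SuzukiX.Central Cfsg.Agent.Lib.SzIso.MaxSz
  Cfsg.Agent.Lib.Suzuki.Exc Cfsg.Agent.Lib.Suzuki.TI Cfsg.Agent.Lib.SzIso.SolSz
  Cfsg.Agent.Lib.SzChar.Gen Cfsg.Agent.Lib.Char.Induced Cfsg.Agent.Lib.Char.Ortho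
  Cfsg.Agent.Lib.Char.Basic Cfsg.Agent.Lib.Char.Complete Cfsg.Agent.Lib.Char.Degree
  Cfsg.Agent.Lib.SzChar.Tori Cfsg.Agent.Lib.SzChar.UChar Cfsg.Agent.Lib.SzChar.WChar
  Cfsg.Agent.Lib.SzChar.Table Cfsg.Agent.Lib.SzChar.Degrees Cfsg.Agent.Lib.SzIso.Fix2
  Cfsg.Agent.Lib.SzChar.Values Cfsg.Agent.Lib.SzChar.OreNum
open scoped ComplexConjugate

section Frob

variable {G : Type*} [Group G] [Fintype G] [Fintype (IrrCharacter G)]

/-- The summand in Frobenius' formula. -/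
noncomputable def fT (x g : G) (χ : IrrCharacter G) : ℂ :=
  (χ : G → ℂ) x * (χ : G → ℂ) x * conj ((χ : G → ℂ) g) / (χ : G → ℂ) 1

theorem exists_of_sum_ne_zero {x g : G} (h : ∑ χ, fT x g χ ≠ 0) :
    ∃ u v : G, g = (u * x * u⁻¹) * (v * x * v⁻¹) := by
  haveI : Nonempty {y : G // IsConj x y} := ⟨⟨x, IsConj.refl x⟩⟩
  have h1 := Cfsg.Agent.Lib.Char.ClassProd.card_product_eq x x g
  have hA : (Nat.card {y : G // IsConj x y} : ℂ) ≠ 0 := Nat.cast_ne_zero.mpr Nat.card_pos.ne'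
  have hG : (Nat.card G : ℂ) ≠ 0 := Nat.cast_ne_zero.mpr Nat.card_pos.ne'
  have h2 : (Nat.card {p : G × G // IsConj x p.1 ∧ IsConj x p.2 ∧ p.1 * p.2 = g} : ℂ) ≠ 0 := by
    rw [h1]
    exact mul_ne_zero (div_ne_zero (mul_ne_zero hA hA) hG) h
  have h3 : Nat.card {p : G × G // IsConj x p.1 ∧ IsConj x p.2 ∧ p.1 * p.2 = g} ≠ 0 := by
    intro h0
    rw [h0] at h2
    simp at h2
  have h4 := (Nat.card_ne_zero.mp h3).1
  obtain ⟨⟨p, hp1, hp2, hp3⟩⟩ := h4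
  obtain ⟨u, hu⟩ := isConj_iff.mp hp1
  obtain ⟨v, hv⟩ := isConj_iff.mp hp2
  exact ⟨u, v, by rw [hu, hv, hp3]⟩

lemma re_fT_ge {x g : G} {χ : IrrCharacter G} {β n : ℝ} (hn : 0 < n) (h1 : (χ : G → ℂ) 1 = n)
    (h : (χ : G → ℂ) x = 0 ∨ ‖(χ : G → ℂ) g‖ ≤ β * n) :
    -(‖(χ : G → ℂ) x‖ ^ 2 * β) ≤ (fT x g χ).re := by
  rcases h with h | h
  · simp [fT, h]
  · have h2 : ‖fT x g χ‖ ≤ ‖(χ : G → ℂ) x‖ ^ 2 * β := by
      rw [fT, norm_div, norm_mul, norm_mul, Complex.norm_conj, h1, Complex.norm_real,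
        Real.norm_of_nonneg hn.le, div_le_iff₀ hn]
      have := mul_le_mul_of_nonneg_left h (sq_nonneg ‖(χ : G → ℂ) x‖)
      nlinarith
    have h3 := (abs_le.1 (Complex.abs_re_le_norm (fT x g χ))).1
    linarith

omit [Fintype (IrrCharacter G)] in
lemma sq_eq_norm_sq_of_inverted {χ : G → ℂ} (hχ : IsCharacter G χ) {x t : G}
    (ht : t * x * t⁻¹ = x⁻¹) : χ x * χ x = ((‖χ x‖ ^ 2 : ℝ) : ℂ) := by
  have h1 : conj (χ x) = χ x := by
    rw [← char_inv_eq_conj hχ, ← ht]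
    exact (isClassFunction_iff_isConj.mp (isClassFunction_of_isCharacter hχ) _ _
      (isConj_iff.mpr ⟨t, rfl⟩)).symm
  have h2 := Complex.mul_conj' (χ x)
  rw [h1] at h2
  rw [h2]
  push_cast
  rfl

end Frob

/-! ### Numerics -/

/-- The parameter `2 ^ m` as a real number. -/
noncomputable abbrev dd (m : ℕ) : ℝ := 2 ^ m

lemma two_pow_eq (m : ℕ) : ((2 : ℂ) ^ (2 * m + 1)) = ((2 * (dd m) ^ 2 : ℝ) : ℂ) := by
  push_cast
  ring

variable {F : Type*} [Field F] [Fintype F] [CharP F 2] [DecidableEq F] {m : ℕ} {hc : Ctx F m}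
  [Fintype (Sz F m)] (D : Dat hc)

lemma dd_ge (hc : Ctx F m) : 2 ≤ dd m := by
  have h := hc.hm
  calc (2 : ℝ) = 2 ^ 1 := by norm_num
    _ ≤ 2 ^ m := pow_le_pow_right₀ (by norm_num) h

lemma St_one' (hc : Ctx F m) : St (F := F) (m := m) 1 = (((2 * (dd m) ^ 2) ^ 2 : ℝ) : ℂ) := by
  rw [St_one hc, two_pow_eq]
  push_cast
  rfl

lemma W₁_one' : D.W₁ 1 = (((2 * (dd m) ^ 2 - 1) * dd m : ℝ) : ℂ) := by
  rw [D.W₁_one]
  have h1 : 1 ≤ 2 ^ (2 * m + 1) := Nat.one_le_two_pow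
  push_cast [Nat.cast_sub h1]
  ring

lemma W₂_one' : D.W₂ 1 = (((2 * (dd m) ^ 2 - 1) * dd m : ℝ) : ℂ) := by
  rw [D.W₂_one]
  have h1 : 1 ≤ 2 ^ (2 * m + 1) := Nat.one_le_two_pow
  push_cast [Nat.cast_sub h1]
  ring

lemma X_one' (lam : D.A₀ →* ℂˣ) : D.X lam 1 = (((2 * (dd m) ^ 2) ^ 2 + 1 : ℝ) : ℂ) := by
  rw [D.X_one]
  push_cast
  ring

lemma Y_one' (lam : D.A₁ →* ℂˣ) :
    D.Y lam 1 = (((2 * (dd m) ^ 2 - 1) * (2 * (dd m) ^ 2 - 2 * dd m + 1) : ℝ) : ℂ) := by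
  rw [D.Y_one]
  have h1 : 1 ≤ 2 ^ (2 * m + 1) := Nat.one_le_two_pow
  have h2 : 2 ^ (m + 1) ≤ 2 ^ (2 * m + 1) := Nat.pow_le_pow_right (by norm_num) (by omega)
  push_cast [Nat.cast_sub h1, Nat.cast_sub h2]
  ring

lemma Z_one' (lam : D.A₂ →* ℂˣ) :
    D.Z lam 1 = (((2 * (dd m) ^ 2 - 1) * (2 * (dd m) ^ 2 + 2 * dd m + 1) : ℝ) : ℂ) := by
  rw [D.Z_one]
  have h1 : 1 ≤ 2 ^ (2 * m + 1) := Nat.one_le_two_pow
  push_cast [Nat.cast_sub h1]
  ring

/-! ### Splitting off the four special characters -/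

/-- The trivial character. -/
noncomputable def oI (_D : Dat hc) : IrrCharacter (Sz F m) := ⟨One1, isIrr_One1 hc⟩
/-- The Steinberg character. -/
noncomputable def sI (_D : Dat hc) : IrrCharacter (Sz F m) := ⟨St, isIrr_St hc⟩
/-- The first Suzuki character. -/
noncomputable def wI₁ : IrrCharacter (Sz F m) := ⟨D.W₁, D.irr_W₁⟩
/-- The second Suzuki character. -/
noncomputable def wI₂ : IrrCharacter (Sz F m) := ⟨D.W₂, D.irr_W₂⟩

variable [Fintype (IrrCharacter (Sz F m))]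

open scoped _root_.Classical in
/-- The remaining irreducible characters. -/
noncomputable def rest : Finset (IrrCharacter (Sz F m)) := ({oI D, sI D, wI₁ D, wI₂ D} : Finset _)ᶜ

lemma sum_split {α : Type*} [AddCommMonoid α] (f : IrrCharacter (Sz F m) → α) :
    ∑ χ, f χ = f (oI D) + f (sI D) + f (wI₁ D) + f (wI₂ D) + ∑ χ ∈ rest D, f χ := by
  classical
  have h12 : oI D ≠ sI D := fun h => D.St_ne_One (congrArg Subtype.val h).symm
  have h13 : oI D ≠ wI₁ D := fun h => D.W₁_ne_One (congrArg Subtype.val h).symm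
  have h14 : oI D ≠ wI₂ D := fun h => D.W₂_ne_One (congrArg Subtype.val h).symm
  have h23 : sI D ≠ wI₁ D := fun h => D.W₁_ne_St (congrArg Subtype.val h).symm
  have h24 : sI D ≠ wI₂ D := fun h => D.W₂_ne_St (congrArg Subtype.val h).symm
  have h34 : wI₁ D ≠ wI₂ D := fun h => D.W₁_ne_W₂ (congrArg Subtype.val h)
  rw [rest, ← Finset.sum_add_sum_compl ({oI D, sI D, wI₁ D, wI₂ D} : Finset _),
    Finset.sum_insert (by simp [h12, h13, h14]), Finset.sum_insert (by simp [h23, h24]),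
    Finset.sum_insert (by simp [h34]), Finset.sum_singleton]
  congr 1
  abel

lemma rest_cases {χ : IrrCharacter (Sz F m)} (hχ : χ ∈ rest D) :
    (∃ lam, lam ≠ 1 ∧ (χ : Sz F m → ℂ) = D.X lam) ∨ (∃ lam, lam ≠ 1 ∧ (χ : Sz F m → ℂ) = D.Y lam) ∨
      (∃ lam, lam ≠ 1 ∧ (χ : Sz F m → ℂ) = D.Z lam) := by
  classical
  simp only [rest, Finset.mem_compl, Finset.mem_insert, Finset.mem_singleton, not_or] at hχ
  obtain ⟨h1, h2, h3, h4⟩ := hχ
  rcases D.classification χ.2 with h | h | h | h | h | h | h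
  · exact absurd (Subtype.ext h) h1
  · exact absurd (Subtype.ext h) h2
  · exact absurd (Subtype.ext h) h3
  · exact absurd (Subtype.ext h) h4
  · exact Or.inl h
  · exact Or.inr (Or.inl h)
  · exact Or.inr (Or.inr h)

lemma sum_norm (x : Sz F m) :
    ∑ χ : IrrCharacter (Sz F m), ‖(χ : Sz F m → ℂ) x‖ ^ 2 = (Nat.card (Cz x) : ℝ) := by
  have h := sum_irr_mul_conj x x
  rw [if_pos (IsConj.refl x)] at h
  simp only [Complex.mul_conj'] at h
  exact_mod_cast h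

/-- The main lower bound. -/
theorem master {x g : Sz F m} {β M : ℝ} (hβ : 0 ≤ β)
    (hM : M ≤ (fT x g (oI D) + fT x g (sI D) + fT x g (wI₁ D) + fT x g (wI₂ D)).re)
    (hrest : ∀ χ ∈ rest D, -(‖(χ : Sz F m → ℂ) x‖ ^ 2 * β) ≤ (fT x g χ).re)
    (hlt : β * (∑ χ ∈ rest D, ‖(χ : Sz F m → ℂ) x‖ ^ 2) < M) :
    ∃ u v : Sz F m, g = (u * x * u⁻¹) * (v * x * v⁻¹) := by
  apply exists_of_sum_ne_zero
  intro h0
  rw [sum_split D] at h0
  have h1 := congrArg Complex.re h0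
  rw [Complex.add_re, Complex.zero_re, Complex.re_sum] at h1
  have h2 : -(β * ∑ χ ∈ rest D, ‖(χ : Sz F m → ℂ) x‖ ^ 2) ≤ ∑ χ ∈ rest D, (fT x g χ).re := by
    rw [Finset.mul_sum, ← Finset.sum_neg_distrib]
    apply Finset.sum_le_sum
    intro χ hχ
    have := hrest χ hχ
    rw [mul_comm]
    exact this
  linarith

/-! ### The data of `x` and of `g` -/

/-- The relevant data of `x`. -/
structure XI (x : Sz F m) (s2 w2 C : ℝ) : Prop where
  st : St x * St x = (s2 : ℂ)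
  w₁ : D.W₁ x * D.W₁ x = (w2 : ℂ)
  w₂ : D.W₂ x * D.W₂ x = (w2 : ℂ)
  cz : (Nat.card (Cz x) : ℝ) - 1 - |s2| - 2 * |w2| = C

/-- The relevant data of `g`. -/
structure GI (g : Sz F m) (s w bX bY bZ : ℝ) : Prop where
  st : St g = (s : ℂ)
  ws : ws D g = (w : ℂ)
  bX : ∀ lam, ‖D.X lam g‖ ≤ bX
  bY : ∀ lam, ‖D.Y lam g‖ ≤ bY
  bZ : ∀ lam, ‖D.Z lam g‖ ≤ bZ

variable {D}

lemma norm_sq_of_mul_self {z : ℂ} {s : ℝ} (h : z * z = s) : ‖z‖ ^ 2 = |s| := by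
  have := congrArg norm h
  rw [norm_mul, Complex.norm_real, Real.norm_eq_abs] at this
  rw [← this, sq]

lemma rest_norm {x : Sz F m} {s2 w2 C : ℝ} (hx : XI D x s2 w2 C) :
    ∑ χ ∈ rest D, ‖(χ : Sz F m → ℂ) x‖ ^ 2 = C := by
  have h := sum_norm x
  rw [sum_split D] at h
  have h0 := hx.cz
  have h1 : ‖(oI D : IrrCharacter (Sz F m)).1 x‖ ^ 2 = 1 := by
    simp [oI, One1]
  have h2 : ‖(sI D : IrrCharacter (Sz F m)).1 x‖ ^ 2 = |s2| := norm_sq_of_mul_self hx.st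
  have h3 : ‖(wI₁ D : IrrCharacter (Sz F m)).1 x‖ ^ 2 = |w2| := norm_sq_of_mul_self hx.w₁
  have h4 : ‖(wI₂ D : IrrCharacter (Sz F m)).1 x‖ ^ 2 = |w2| := norm_sq_of_mul_self hx.w₂
  rw [h1, h2, h3, h4] at h
  linarith

lemma head_eq {x g : Sz F m} {s2 w2 C s w bX bY bZ : ℝ} (hx : XI D x s2 w2 C)
    (hg : GI D g s w bX bY bZ) :
    fT x g (oI D) + fT x g (sI D) + fT x g (wI₁ D) + fT x g (wI₂ D) =
      ((1 + s2 * s / (2 * (dd m) ^ 2) ^ 2 + w2 * w / ((2 * (dd m) ^ 2 - 1) * dd m) : ℝ) : ℂ) := by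
  have h0 : fT x g (oI D) = 1 := by simp [fT, oI, One1]
  have h1 : fT x g (sI D) = (s2 : ℂ) * s / (((2 * (dd m) ^ 2) ^ 2 : ℝ) : ℂ) := by
    simp only [fT, sI]
    rw [hx.st, hg.st, Complex.conj_ofReal, St_one' hc]
  have h2 : fT x g (wI₁ D) = (w2 : ℂ) * conj (D.W₁ g) / (((2 * (dd m) ^ 2 - 1) * dd m : ℝ) : ℂ) := by
    simp only [fT, wI₁]
    rw [hx.w₁, W₁_one']
  have h3 : fT x g (wI₂ D) = (w2 : ℂ) * conj (D.W₂ g) / (((2 * (dd m) ^ 2 - 1) * dd m : ℝ) : ℂ) := by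
    simp only [fT, wI₂]
    rw [hx.w₂, W₂_one']
  have h4 : conj (D.W₁ g) + conj (D.W₂ g) = (w : ℂ) := by
    rw [← map_add]
    have := hg.ws
    rw [ws] at this
    rw [this, Complex.conj_ofReal]
  rw [h0, h1, h2, h3]
  generalize dd m = d
  push_cast
  linear_combination ((w2 : ℂ) / (((2 * (d : ℂ) ^ 2 - 1) * d : ℂ))) * h4

lemma pos_facts (m : ℕ) (hd : 2 ≤ dd m) : 0 < (2 * (dd m) ^ 2) ^ 2 + 1 ∧
    0 < (2 * (dd m) ^ 2 - 1) * (2 * (dd m) ^ 2 - 2 * dd m + 1) ∧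
    0 < (2 * (dd m) ^ 2 - 1) * (2 * (dd m) ^ 2 + 2 * dd m + 1) := by
  have h1 : 0 < 2 * (dd m) ^ 2 - 1 := by nlinarith
  have h2 : 0 < 2 * (dd m) ^ 2 - 2 * dd m + 1 := by nlinarith
  have h3 : 0 < 2 * (dd m) ^ 2 + 2 * dd m + 1 := by nlinarith
  exact ⟨by positivity, mul_pos h1 h2, mul_pos h1 h3⟩

/-- The general estimate. -/
theorem gen {x g : Sz F m} {s2 w2 C s w bX bY bZ β : ℝ} (hx : XI D x s2 w2 C)
    (hg : GI D g s w bX bY bZ) (hβ : 0 ≤ β)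
    (hX : (∀ lam, D.X lam x = 0) ∨ bX ≤ β * ((2 * (dd m) ^ 2) ^ 2 + 1))
    (hY : (∀ lam, D.Y lam x = 0) ∨ bY ≤ β * ((2 * (dd m) ^ 2 - 1) * (2 * (dd m) ^ 2 - 2 * dd m + 1)))
    (hZ : (∀ lam, D.Z lam x = 0) ∨ bZ ≤ β * ((2 * (dd m) ^ 2 - 1) * (2 * (dd m) ^ 2 + 2 * dd m + 1)))
    (hnum : β * C <
      1 + s2 * s / (2 * (dd m) ^ 2) ^ 2 + w2 * w / ((2 * (dd m) ^ 2 - 1) * dd m)) :
    ∃ u v : Sz F m, g = (u * x * u⁻¹) * (v * x * v⁻¹) := by
  obtain ⟨p1, p2, p3⟩ := pos_facts m (dd_ge hc)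
  refine master D hβ (M := 1 + s2 * s / (2 * (dd m) ^ 2) ^ 2 + w2 * w / ((2 * (dd m) ^ 2 - 1) * dd m))
    ?_ ?_ ?_
  · rw [head_eq hx hg, Complex.ofReal_re]
  · intro χ hχ
    rcases rest_cases D hχ with ⟨lam, -, h⟩ | ⟨lam, -, h⟩ | ⟨lam, -, h⟩
    · refine re_fT_ge p1 (by rw [h, X_one']) ?_
      rw [h]
      rcases hX with hX | hX
      · exact Or.inl (hX lam)
      · exact Or.inr ((hg.bX lam).trans hX)
    · refine re_fT_ge p2 (by rw [h, Y_one']) ?_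
      rw [h]
      rcases hY with hY | hY
      · exact Or.inl (hY lam)
      · exact Or.inr ((hg.bY lam).trans hY)
    · refine re_fT_ge p3 (by rw [h, Z_one']) ?_
      rw [h]
      rcases hZ with hZ | hZ
      · exact Or.inl (hZ lam)
      · exact Or.inr ((hg.bZ lam).trans hZ)
  · rw [rest_norm hx]
    exact hnum

/-! ### The data of the classes -/

lemma Cz_inv (x : Sz F m) : Cz x⁻¹ = Cz x := by
  ext c
  rw [mem_Cz, mem_Cz]
  exact Commute.inv_left_iff (a := x) (b := c)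

variable (D)

lemma xi_rho {x : Sz F m} (h : IsConj x (rh hc)) : XI D x 0 (-(dd m) ^ 2) (2 * (dd m) ^ 2 - 1) := by
  have hst := isClassFunction_iff_isConj.mp D.isClass_St _ _ h
  have hw₁ := isClassFunction_iff_isConj.mp D.isClass_W₁ _ _ h
  have hw₂ := isClassFunction_iff_isConj.mp D.isClass_W₂ _ _ h
  have hκ := D.hκ
  refine ⟨?_, ?_, ?_, ?_⟩
  · rw [hst, St_Y1 hc (Y1_rh hc)]
    simp
  · rw [hw₁, D.W₁_rh]
    push_cast
    linear_combination ((2 : ℂ) ^ m) ^ 2 * hκ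
  · rw [hw₂, D.W₂_rh]
    push_cast
    linear_combination ((2 : ℂ) ^ m) ^ 2 * hκ
  · rw [← card_Cz_of_isConj hc h, card_Cz_rh hc, abs_zero, abs_neg, abs_of_nonneg (sq_nonneg _)]
    push_cast
    ring

lemma xi_rho_inv {x : Sz F m} (h : IsConj x (rh hc)⁻¹) : XI D x 0 (-(dd m) ^ 2) (2 * (dd m) ^ 2 - 1) := by
  have hst := isClassFunction_iff_isConj.mp D.isClass_St _ _ h
  have hw₁ := isClassFunction_iff_isConj.mp D.isClass_W₁ _ _ h
  have hw₂ := isClassFunction_iff_isConj.mp D.isClass_W₂ _ _ h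
  have hκ := D.hκ
  refine ⟨?_, ?_, ?_, ?_⟩
  · rw [hst, St_Y1 hc (Y1_rh_inv hc)]
    simp
  · rw [hw₁, D.W₁_rh_inv]
    push_cast
    linear_combination ((2 : ℂ) ^ m) ^ 2 * hκ
  · rw [hw₂, D.W₂_rh_inv]
    push_cast
    linear_combination ((2 : ℂ) ^ m) ^ 2 * hκ
  · rw [← card_Cz_of_isConj hc h, Cz_inv, card_Cz_rh hc, abs_zero, abs_neg, abs_of_nonneg (sq_nonneg _)]
    push_cast
    ring

lemma xi_T {x : Sz F m} (h : IsT x) : XI D x 1 0 (2 * (dd m) ^ 2 - 3) := by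
  refine ⟨?_, ?_, ?_, ?_⟩
  · rw [St_T hc h]
    simp
  · rw [D.W₁_T h]
    simp
  · rw [D.W₂_T h]
    simp
  · obtain ⟨h0, p, p', hne, hp, hp'⟩ := h
    rw [Cz_eq_Tpp hc h0 hne hp hp', card_Tpp hc hne, abs_one, abs_zero]
    have h1 : 1 ≤ 2 ^ (2 * m + 1) := Nat.one_le_two_pow
    push_cast [Nat.cast_sub h1]
    ring

lemma xi_X₁ {x : Sz F m} (h : x ∈ Xg D.g₁) : XI D x 1 1 (2 * (dd m) ^ 2 + 2 * dd m - 3) := by
  refine ⟨?_, ?_, ?_, ?_⟩
  · rw [St_fpf hc (D.fpf₁ h)]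
    simp
  · rw [D.W₁_X₁ h]
    simp
  · rw [D.W₂_X₁ h]
    simp
  · rw [card_Cz_conj hc D.ht.h₁ h, D.ht.c₁, abs_one]
    push_cast
    ring

lemma xi_X₂ {x : Sz F m} (h : x ∈ Xg D.g₂) : XI D x 1 1 (2 * (dd m) ^ 2 - 2 * dd m - 3) := by
  refine ⟨?_, ?_, ?_, ?_⟩
  · rw [St_fpf hc (D.fpf₂ h)]
    simp
  · rw [D.W₁_X₂ h]
    simp
  · rw [D.W₂_X₂ h]
    simp
  · rw [card_Cz_conj hc D.ht.h₂ h, D.ht.c₂, abs_one]
    have h2 : 2 ^ (m + 1) ≤ 2 ^ (2 * m + 1) := Nat.pow_le_pow_right (by norm_num) (by omega)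
    push_cast [Nat.cast_sub h2]
    ring

omit [DecidableEq F] [Fintype (Sz F m)] [Fintype (IrrCharacter (Sz F m))] in
lemma Y1_of_isConj {g y : Sz F m} (h : IsConj g y) (hy : y ∈ Y1 F m) : g ∈ Y1 F m := by
  obtain ⟨c, rfl⟩ := isConj_iff.mp h
  have := Y1_conj hy c⁻¹
  have e : c⁻¹ * (c * g * c⁻¹) * c⁻¹⁻¹ = g := by group
  rwa [e] at this

lemma ws_class {g y : Sz F m} (h : IsConj g y) : ws D g = ws D y := by
  simp only [ws]
  rw [isClassFunction_iff_isConj.mp D.isClass_W₁ _ _ h, isClassFunction_iff_isConj.mp D.isClass_W₂ _ _ h]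

lemma gi_z {g : Sz F m} (h : IsConj g (zz hc)) :
    GI D g 0 (-(2 * dd m)) 1 (2 * dd m - 1) (2 * dd m + 1) := by
  have hY := Y1_of_isConj h (Y1_zz hc)
  have hd := dd_ge hc
  have hws : ws D g = ((-(2 * dd m) : ℝ) : ℂ) := by
    rw [ws_class D h, ws, D.W₁_zz, D.W₂_zz]
    push_cast
    ring
  refine ⟨by rw [St_Y1 hc hY]; simp, hws, ?_, ?_, ?_⟩
  · intro lam
    rw [D.X_Y1 lam hY]
    simp
  · intro lam
    rw [D.Y_Y1 lam hY, hws]
    have e : (-1 - ((-(2 * dd m) : ℝ) : ℂ)) = ((2 * dd m - 1 : ℝ) : ℂ) := by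
      generalize dd m = d
      push_cast
      ring
    rw [e, Complex.norm_real, Real.norm_of_nonneg (by linarith)]
  · intro lam
    rw [D.Z_Y1 lam hY, hws]
    have e : (-1 + ((-(2 * dd m) : ℝ) : ℂ)) = ((-(2 * dd m + 1) : ℝ) : ℂ) := by
      generalize dd m = d
      push_cast
      ring
    rw [e, Complex.norm_real, Real.norm_eq_abs, abs_neg, abs_of_nonneg (by linarith)]

lemma gi_rho {g : Sz F m} (hY : g ∈ Y1 F m) (hw : ws D g = 0) : GI D g 0 0 1 1 1 := by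
  refine ⟨by rw [St_Y1 hc hY]; simp, by rw [hw]; simp, ?_, ?_, ?_⟩
  · intro lam
    rw [D.X_Y1 lam hY]
    simp
  · intro lam
    rw [D.Y_Y1 lam hY, hw]
    simp
  · intro lam
    rw [D.Z_Y1 lam hY, hw]
    simp

lemma ws_rh {g : Sz F m} (h : IsConj g (rh hc)) : ws D g = 0 := by
  rw [ws_class D h, ws, D.W₁_rh, D.W₂_rh]
  ring

lemma ws_rh_inv {g : Sz F m} (h : IsConj g (rh hc)⁻¹) : ws D g = 0 := by
  rw [ws_class D h, ws, D.W₁_rh_inv, D.W₂_rh_inv]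
  ring

lemma gi_T {g : Sz F m} (h : IsT g) : GI D g 1 0 2 0 0 := by
  refine ⟨by rw [St_T hc h]; simp, by rw [ws, D.W₁_T h, D.W₂_T h]; simp, ?_, ?_, ?_⟩
  · exact fun lam => D.X_T lam h
  · intro lam
    rw [D.Y_T lam h]
    simp
  · intro lam
    rw [D.Z_T lam h]
    simp

lemma gi_X₁ {g : Sz F m} (h : g ∈ Xg D.g₁) : GI D g (-1) 2 0 4 0 := by
  refine ⟨by rw [St_fpf hc (D.fpf₁ h)]; simp, by rw [ws, D.W₁_X₁ h, D.W₂_X₁ h]; norm_num, ?_, ?_, ?_⟩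
  · intro lam
    rw [D.X_fpf lam (D.fpf₁ h)]
    simp
  · exact fun lam => D.Y_X₁ lam h
  · intro lam
    rw [D.Z_X₁ lam h]
    simp

lemma gi_X₂ {g : Sz F m} (h : g ∈ Xg D.g₂) : GI D g (-1) (-2) 0 0 4 := by
  refine ⟨by rw [St_fpf hc (D.fpf₂ h)]; simp, by rw [ws, D.W₁_X₂ h, D.W₂_X₂ h]; norm_num, ?_, ?_, ?_⟩
  · intro lam
    rw [D.X_fpf lam (D.fpf₂ h)]
    simp
  · intro lam
    rw [D.Y_X₂ lam h]
    simp
  · exact fun lam => D.Z_X₂ lam h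

/-- All the classes of non-trivial elements. -/
lemma cases_of_ne_one {g : Sz F m} (hg : g ≠ 1) :
    IsConj g (zz hc) ∨ IsConj g (rh hc) ∨ IsConj g (rh hc)⁻¹ ∨ IsT g ∨ g ∈ Xg D.g₁ ∨ g ∈ Xg D.g₂ := by
  rcases trichotomy hg with h | h | h
  · by_cases h2 : g * g = 1
    · obtain ⟨c, hc'⟩ := exists_conj_zz hc (⟨hg, h2⟩ : IsInv g)
      exact Or.inl (isConj_iff.mpr ⟨c, hc'⟩)
    · have h4 : orderOf g = 4 := by
        have h5 : g ^ (2 ^ (1 + 1)) = 1 := by simpa using Y1_two_power hc h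
        have h6 : ¬ g ^ (2 ^ 1) = 1 := by
          rw [pow_one, pow_two]
          exact h2
        simpa using orderOf_eq_prime_pow h6 h5
      rcases exists_conj_rh hc h4 with ⟨c, hc'⟩ | ⟨c, hc'⟩
      · exact Or.inr (Or.inl (isConj_iff.mpr ⟨c, hc'⟩))
      · exact Or.inr (Or.inr (Or.inl (isConj_iff.mpr ⟨c, hc'⟩)))
  · exact Or.inr (Or.inr (Or.inr (Or.inl h)))
  · have h3 : g ∈ Xs F m := h
    rw [D.ht.cov] at h3
    rcases h3 with h3 | h3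
    · exact Or.inr (Or.inr (Or.inr (Or.inr (Or.inl h3))))
    · exact Or.inr (Or.inr (Or.inr (Or.inr (Or.inr h3))))

/-- Elements without fixed point are real. -/
lemma exists_invert (hc : Ctx F m) {x : Sz F m} (hF : IsFPF x) : ∃ t : Sz F m, t * x * t⁻¹ = x⁻¹ := by
  obtain ⟨c, hcN, hc4⟩ := exists_order_four hc hF
  have ht : IsInv (c * c) := by
    constructor
    · intro h
      have h1 : c ^ 2 = 1 := by rw [pow_two, h]
      have h2 := orderOf_dvd_of_pow_eq_one h1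
      rw [hc4] at h2
      omega
    · have h1 := pow_orderOf_eq_one c
      rw [hc4] at h1
      calc c * c * (c * c) = c ^ 4 := by simp only [pow_succ, pow_zero, one_mul, mul_assoc]
        _ = 1 := h1
  have htN : c * c ∈ NN x := (NN x).mul_mem hcN hcN
  obtain ⟨p, hp⟩ := exists_fix_of_inv hc ht
  obtain ⟨s, hs⟩ := exists_smul_eq_inf hc p
  have h1 := inverts hc (IsFPF_conj hF s) (ht.conj s)
    (by rw [← hs, mul_smul, mul_smul, inv_smul_smul, hp]) ((mem_NN_conj hc).2 htN)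
  refine ⟨c * c, ?_⟩
  have h2 : s * (c * c * x * (c * c)⁻¹) * s⁻¹ = s * x⁻¹ * s⁻¹ := by
    have e1 : s * (c * c * x * (c * c)⁻¹) * s⁻¹ =
        s * (c * c) * s⁻¹ * (s * x * s⁻¹) * (s * (c * c) * s⁻¹)⁻¹ := by group
    have e2 : s * x⁻¹ * s⁻¹ = (s * x * s⁻¹)⁻¹ := by group
    rw [e1, h1, e2]
  simpa using h2

/-! ### The two exact cases -/

/-- `x` without fixed points of the first kind and `g` an involution. -/
theorem case_A_z {x g : Sz F m} (hx : x ∈ Xg D.g₁) (hg : IsConj g (zz hc)) :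
    ∃ u v : Sz F m, g = (u * x * u⁻¹) * (v * x * v⁻¹) := by
  have hd := dd_ge hc
  have hxi := xi_X₁ D hx
  have hgi := gi_z D hg
  obtain ⟨t, ht⟩ := exists_invert hc (D.fpf₁ hx)
  obtain ⟨p1, p2, p3⟩ := pos_facts m hd
  have hY := Y1_of_isConj hg (Y1_zz hc)
  refine master D le_rfl (M := 1 + 1 * 0 / (2 * (dd m) ^ 2) ^ 2 + 1 * (-(2 * dd m)) / ((2 * (dd m) ^ 2 - 1) * dd m))
    ?_ ?_ ?_
  · rw [head_eq hxi hgi, Complex.ofReal_re]
  · intro χ hχ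
    rw [mul_zero, neg_zero]
    rcases rest_cases D hχ with ⟨lam, -, h⟩ | ⟨lam, -, h⟩ | ⟨lam, -, h⟩
    · simp [fT, h, D.X_fpf lam (D.fpf₁ hx)]
    · have h1 := sq_eq_norm_sq_of_inverted (isCharacter_of_isIrrCharacter χ.2) ht
      have h2 : (χ : Sz F m → ℂ) g = ((2 * dd m - 1 : ℝ) : ℂ) := by
        rw [h, D.Y_Y1 lam hY, hgi.ws]
        generalize dd m = d
        push_cast
        ring
      have h3 : (χ : Sz F m → ℂ) 1 = ((2 * (dd m) ^ 2 - 1) * (2 * (dd m) ^ 2 - 2 * dd m + 1) : ℝ) := by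
        rw [h, Y_one']
      rw [fT, h1, h2, h3, Complex.conj_ofReal, ← Complex.ofReal_mul, ← Complex.ofReal_div, Complex.ofReal_re]
      have : 0 ≤ 2 * dd m - 1 := by linarith
      positivity
    · simp [fT, h, D.Z_X₁ lam hx]
  · rw [zero_mul]
    have := OreNum.M_z hd
    linarith

/-- `x` of order four and `g` without fixed points of the first kind. -/
theorem case_rho_A {x g : Sz F m} {C : ℝ} (hxi : XI D x 0 (-(dd m) ^ 2) C) (hst : St x = 0) (hws : ws D x = 0)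
    (hY : x ∈ Y1 F m) (hg : g ∈ Xg D.g₁) :
    ∃ u v : Sz F m, g = (u * x * u⁻¹) * (v * x * v⁻¹) := by
  have hd := dd_ge hc
  obtain ⟨p1, p2, p3⟩ := pos_facts m hd
  have hgi := gi_X₁ D hg
  have hnc : ¬ IsConj x g := by
    intro h
    have h1 := isClassFunction_iff_isConj.mp D.isClass_St _ _ h
    rw [hst, St_fpf hc (D.fpf₁ hg)] at h1
    norm_num at h1
  have h1 := sum_irr_mul_conj x g
  rw [if_neg hnc, sum_split D] at h1
  have e1 : (oI D : IrrCharacter (Sz F m)).1 x * conj ((oI D : IrrCharacter (Sz F m)).1 g) = 1 := by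
    simp [oI, One1]
  have e2 : (sI D : IrrCharacter (Sz F m)).1 x * conj ((sI D : IrrCharacter (Sz F m)).1 g) = 0 := by
    simp [sI, hst]
  have e3 : (wI₁ D : IrrCharacter (Sz F m)).1 x * conj ((wI₁ D : IrrCharacter (Sz F m)).1 g) = D.W₁ x := by
    simp [wI₁, D.W₁_X₁ hg]
  have e4 : (wI₂ D : IrrCharacter (Sz F m)).1 x * conj ((wI₂ D : IrrCharacter (Sz F m)).1 g) = D.W₂ x := by
    simp [wI₂, D.W₂_X₁ hg]
  rw [e1, e2, e3, e4] at h1
  have hws' := hws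
  rw [ws] at hws'
  have h2 : ∑ χ ∈ rest D, (χ : Sz F m → ℂ) x * conj ((χ : Sz F m → ℂ) g) = -1 := by
    linear_combination h1 - hws'
  have h3 : ∑ χ ∈ rest D, fT x g χ = 1 / (((2 * (dd m) ^ 2 - 1) * (2 * (dd m) ^ 2 - 2 * dd m + 1) : ℝ) : ℂ) := by
    have h4 : ∀ χ ∈ rest D, fT x g χ = -((χ : Sz F m → ℂ) x * conj ((χ : Sz F m → ℂ) g)) /
        (((2 * (dd m) ^ 2 - 1) * (2 * (dd m) ^ 2 - 2 * dd m + 1) : ℝ) : ℂ) := by
      intro χ hχ
      rcases rest_cases D hχ with ⟨lam, -, h⟩ | ⟨lam, -, h⟩ | ⟨lam, -, h⟩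
      · simp [fT, h, D.X_fpf lam (D.fpf₁ hg)]
      · have h5 : (χ : Sz F m → ℂ) x = -1 := by
          rw [h, D.Y_Y1 lam hY, hws]
          ring
        rw [fT, h5, h, Y_one']
        ring
      · simp [fT, h, D.Z_X₁ lam hg]
    rw [Finset.sum_congr rfl h4, ← Finset.sum_div, Finset.sum_neg_distrib, h2, neg_neg]
  apply exists_of_sum_ne_zero
  rw [sum_split D, head_eq hxi hgi, h3]
  intro h0
  have h5 := OreNum.numE hd
  have h6 : ((1 + 0 * (-1) / (2 * (dd m) ^ 2) ^ 2 + (-(dd m) ^ 2) * 2 / ((2 * (dd m) ^ 2 - 1) * dd m) +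
      1 / ((2 * (dd m) ^ 2 - 1) * (2 * (dd m) ^ 2 - 2 * dd m + 1)) : ℝ) : ℂ) = 0 := by
    rw [← h0]
    generalize dd m = d
    push_cast
    ring
  have h7 := Complex.ofReal_eq_zero.mp h6
  linarith

/-! ### The main theorem -/

omit [Field F] [Fintype F] [CharP F 2] [DecidableEq F] [Fintype (Sz F m)] [Fintype (IrrCharacter (Sz F m))] in
lemma dm_self {c P : ℝ} (hP : 0 < P) : c ≤ c / P * P := by
  rw [div_mul_cancel₀ _ hP.ne']

lemma dm_le {c P P' : ℝ} (hc : 0 ≤ c) (hP : 0 < P) (h : P ≤ P') : c ≤ c / P * P' :=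
  calc c = c / P * P := by rw [div_mul_cancel₀ _ hP.ne']
    _ ≤ c / P * P' := mul_le_mul_of_nonneg_left h (by positivity)

lemma dm_nonneg {c P P' : ℝ} (hc : 0 ≤ c) (hP : 0 < P) (hP' : 0 < P') : 0 ≤ c / P * P' := by
  positivity

lemma row_rho {x g : Sz F m} (hxi : XI D x 0 (-(dd m) ^ 2) (2 * (dd m) ^ 2 - 1)) (hst : St x = 0)
    (hws : ws D x = 0) (hY : x ∈ Y1 F m) (hg : g ≠ 1) :
    ∃ u v : Sz F m, g = (u * x * u⁻¹) * (v * x * v⁻¹) := by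
  have hd := dd_ge hc
  obtain ⟨p1, p2, p3⟩ := pos_facts m hd
  have hPYX := OreNum.PY_le_PX hd
  have hPYZ := OreNum.PY_le_PZ hd
  have hd0 : (0 : ℝ) ≤ 2 * dd m + 1 := by linarith
  rcases cases_of_ne_one D hg with h | h | h | h | h | h
  · refine gen hxi (gi_z D h) (by positivity) (Or.inr ?_) (Or.inr ?_) (Or.inr ?_) (OreNum.numR_z hd)
    · exact le_trans (by linarith) (dm_le hd0 p2 hPYX)
    · exact le_trans (by linarith) (dm_self p2)
    · exact dm_le hd0 p2 hPYZ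
  · refine gen hxi (gi_rho D (Y1_of_isConj h (Y1_rh hc)) (ws_rh D h)) (by positivity) (Or.inr ?_) (Or.inr ?_)
      (Or.inr ?_) (OreNum.numR_r hd)
    · exact dm_le zero_le_one p2 hPYX
    · exact dm_self p2
    · exact dm_le zero_le_one p2 hPYZ
  · refine gen hxi (gi_rho D (Y1_of_isConj h (Y1_rh_inv hc)) (ws_rh_inv D h)) (by positivity) (Or.inr ?_) (Or.inr ?_)
      (Or.inr ?_) (OreNum.numR_r hd)
    · exact dm_le zero_le_one p2 hPYX
    · exact dm_self p2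
    · exact dm_le zero_le_one p2 hPYZ
  · refine gen hxi (gi_T D h) (by positivity) (Or.inr ?_) (Or.inr ?_) (Or.inr ?_) (OreNum.numR_T hd)
    · exact dm_self p1
    · exact dm_nonneg (by norm_num) p1 p2
    · exact dm_nonneg (by norm_num) p1 p3
  · exact case_rho_A D hxi hst hws hY h
  · refine gen hxi (gi_X₂ D h) (by positivity) (Or.inr ?_) (Or.inr ?_) (Or.inr ?_) (OreNum.numR_B hd)
    · exact dm_nonneg (by norm_num) p3 p1
    · exact dm_nonneg (by norm_num) p3 p2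
    · exact dm_self p3

include D in
lemma row_T {x g : Sz F m} (hx : IsT x) (hg : g ≠ 1) :
    ∃ u v : Sz F m, g = (u * x * u⁻¹) * (v * x * v⁻¹) := by
  have hd := dd_ge hc
  obtain ⟨p1, p2, p3⟩ := pos_facts m hd
  have hxi := xi_T D hx
  have hvY : ∀ lam, D.Y lam x = 0 := fun lam => D.Y_T lam hx
  have hvZ : ∀ lam, D.Z lam x = 0 := fun lam => D.Z_T lam hx
  have h2 : (2 : ℝ) ≤ 2 / ((2 * dd m ^ 2) ^ 2 + 1) * ((2 * dd m ^ 2) ^ 2 + 1) := dm_self p1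
  rcases cases_of_ne_one D hg with h | h | h | h | h | h
  · exact gen hxi (gi_z D h) (by positivity) (Or.inr (by linarith)) (Or.inl hvY) (Or.inl hvZ)
      (OreNum.numT hd _ _ (by norm_num))
  · exact gen hxi (gi_rho D (Y1_of_isConj h (Y1_rh hc)) (ws_rh D h)) (by positivity) (Or.inr (by linarith))
      (Or.inl hvY) (Or.inl hvZ) (OreNum.numT hd _ _ (by norm_num))
  · exact gen hxi (gi_rho D (Y1_of_isConj h (Y1_rh_inv hc)) (ws_rh_inv D h)) (by positivity) (Or.inr (by linarith))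
      (Or.inl hvY) (Or.inl hvZ) (OreNum.numT hd _ _ (by norm_num))
  · exact gen hxi (gi_T D h) (by positivity) (Or.inr h2)
      (Or.inl hvY) (Or.inl hvZ) (OreNum.numT hd _ _ (by norm_num))
  · exact gen hxi (gi_X₁ D h) (by positivity) (Or.inr (by linarith))
      (Or.inl hvY) (Or.inl hvZ) (OreNum.numT hd _ _ (by norm_num))
  · exact gen hxi (gi_X₂ D h) (by positivity) (Or.inr (by linarith))
      (Or.inl hvY) (Or.inl hvZ) (OreNum.numT hd _ _ (by norm_num))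

lemma row_A {x g : Sz F m} (hx : x ∈ Xg D.g₁) (hg : g ≠ 1) :
    ∃ u v : Sz F m, g = (u * x * u⁻¹) * (v * x * v⁻¹) := by
  have hd := dd_ge hc
  obtain ⟨p1, p2, p3⟩ := pos_facts m hd
  have hxi := xi_X₁ D hx
  have hvX : ∀ lam, D.X lam x = 0 := fun lam => D.X_fpf lam (D.fpf₁ hx)
  have hvZ : ∀ lam, D.Z lam x = 0 := fun lam => D.Z_X₁ lam hx
  rcases cases_of_ne_one D hg with h | h | h | h | h | h
  · exact case_A_z D hx h
  · exact gen hxi (gi_rho D (Y1_of_isConj h (Y1_rh hc)) (ws_rh D h)) (by positivity) (Or.inl hvX)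
      (Or.inr (dm_self p2)) (Or.inl hvZ) (OreNum.numA_r hd)
  · exact gen hxi (gi_rho D (Y1_of_isConj h (Y1_rh_inv hc)) (ws_rh_inv D h)) (by positivity) (Or.inl hvX)
      (Or.inr (dm_self p2)) (Or.inl hvZ) (OreNum.numA_r hd)
  · exact gen hxi (gi_T D h) le_rfl (Or.inl hvX) (Or.inr (by simp)) (Or.inl hvZ)
      (by rw [zero_mul]; exact OreNum.M_T hd)
  · exact gen hxi (gi_X₁ D h) (by positivity) (Or.inl hvX) (Or.inr (dm_self p2)) (Or.inl hvZ) (OreNum.numA_A hd)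
  · exact gen hxi (gi_X₂ D h) le_rfl (Or.inl hvX) (Or.inr (by simp)) (Or.inl hvZ)
      (by rw [zero_mul]; exact OreNum.M_B hd)

lemma row_B {x g : Sz F m} (hx : x ∈ Xg D.g₂) (hg : g ≠ 1) :
    ∃ u v : Sz F m, g = (u * x * u⁻¹) * (v * x * v⁻¹) := by
  have hd := dd_ge hc
  have hd0 : (0 : ℝ) ≤ 2 * dd m + 1 := by linarith
  obtain ⟨p1, p2, p3⟩ := pos_facts m hd
  have hxi := xi_X₂ D hx
  have hvX : ∀ lam, D.X lam x = 0 := fun lam => D.X_fpf lam (D.fpf₂ hx)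
  have hvY : ∀ lam, D.Y lam x = 0 := fun lam => D.Y_X₂ lam hx
  rcases cases_of_ne_one D hg with h | h | h | h | h | h
  · exact gen hxi (gi_z D h) (by positivity) (Or.inl hvX) (Or.inl hvY) (Or.inr (dm_self p3)) (OreNum.numB_z hd)
  · exact gen hxi (gi_rho D (Y1_of_isConj h (Y1_rh hc)) (ws_rh D h)) (by positivity) (Or.inl hvX)
      (Or.inl hvY) (Or.inr (dm_self p3)) (OreNum.numB_r hd)
  · exact gen hxi (gi_rho D (Y1_of_isConj h (Y1_rh_inv hc)) (ws_rh_inv D h)) (by positivity) (Or.inl hvX)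
      (Or.inl hvY) (Or.inr (dm_self p3)) (OreNum.numB_r hd)
  · exact gen hxi (gi_T D h) le_rfl (Or.inl hvX) (Or.inl hvY) (Or.inr (by simp))
      (by rw [zero_mul]; exact OreNum.M_T hd)
  · exact gen hxi (gi_X₁ D h) le_rfl (Or.inl hvX) (Or.inl hvY) (Or.inr (by simp))
      (by rw [zero_mul]; exact OreNum.M_A hd)
  · exact gen hxi (gi_X₂ D h) (by positivity) (Or.inl hvX) (Or.inl hvY) (Or.inr (dm_self p3)) (OreNum.numB_B hd)

include D in
theorem exists_conj_mul_of_two_lt' {x g : Sz F m} (hx : 2 < orderOf x) (hg : g ≠ 1) :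
    ∃ u v : Sz F m, g = (u * x * u⁻¹) * (v * x * v⁻¹) := by
  have hx1 : x ≠ 1 := by
    rintro rfl
    simp at hx
  rcases cases_of_ne_one D hx1 with h | h | h | h | h | h
  · exfalso
    obtain ⟨c, hc'⟩ := isConj_iff.mp h
    have h1 : orderOf x = orderOf (zz hc) := by rw [← hc', ord_conj]
    have h2 : orderOf (zz hc) ∣ 2 := orderOf_dvd_of_pow_eq_one (by rw [pow_two]; exact (isInv_zz hc).2)
    have h3 := Nat.le_of_dvd (by norm_num) h2
    omega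
  · exact row_rho D (xi_rho D h) (by
      rw [isClassFunction_iff_isConj.mp D.isClass_St _ _ h, St_Y1 hc (Y1_rh hc)]) (ws_rh D h)
      (Y1_of_isConj h (Y1_rh hc)) hg
  · exact row_rho D (xi_rho_inv D h) (by
      rw [isClassFunction_iff_isConj.mp D.isClass_St _ _ h, St_Y1 hc (Y1_rh_inv hc)]) (ws_rh_inv D h)
      (Y1_of_isConj h (Y1_rh_inv hc)) hg
  · exact row_T D h hg
  · exact row_A D h hg
  · exact row_B D h hg

end Cfsg.Agent.Lib.SzChar.Ore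

namespace Cfsg.Agent.Lib.SzChar.Ore

open Cfsg Cfsg.Agent.Lib.Suzuki.Stab Cfsg.Agent.Lib.SzChar.Table Cfsg.Agent.Lib.Char.Ortho

/-- Products of two conjugates in `Sz`. -/
theorem exists_conj_mul_of_two_lt {F : Type*} [Field F] [Fintype F] [CharP F 2] {m : ℕ} (hc : Ctx F m)
    {x g : Sz F m} (hx : 2 < orderOf x) (hg : g ≠ 1) :
    ∃ u v : Sz F m, g = (u * x * u⁻¹) * (v * x * v⁻¹) := by
  classical
  letI : Fintype (Sz F m) := Fintype.ofFinite _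
  obtain ⟨D⟩ := exists_Dat hc
  have := finite_irrCharacter (G := Sz F m)
  letI : Fintype (IrrCharacter (Sz F m)) := Fintype.ofFinite _
  exact exists_conj_mul_of_two_lt' D hx hg

end Cfsg.Agent.Lib.SzChar.Ore
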